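import Cfsg.Agent.Lib.Spor.HeRecog.FrameBasis

/-!
# Generators and relations of the centraliser of the involution (piece A1)
-/

set_option autoImplicit false
set_option maxRecDepth 100000
set_option maxHeartbeats 1000000
set_option linter.style.haveILetI false
set_option linter.unusedSectionVars false

namespace CfsgLib.Spor.HeRecog

open Equiv

universe u

namespace FrameO

variable {G : Type u} [Group G] {z : G} {Q : Subgroup G} {f : G → Fin 64}
  {ρ : Subgroup.centralizer ({z} : Set G) →* Perm (Fin 64)} (M : Coord z Q f ρ)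

set_option synthInstance.maxSize 4000 in
theorem bf_bits : ∀ d₀ d₁ d₂ d₃ d₄ d₅ : Bool, ∃ w : Fin 64, bf w (bse 0) = d₀ ∧ bf w (bse 1) = d₁ ∧
    bf w (bse 2) = d₂ ∧ bf w (bse 3) = d₃ ∧ bf w (bse 4) = d₄ ∧ bf w (bse 5) = d₅ := by
  decide +kernel

theorem bse_pair : ∀ i k : Fin 6, bf (bse i) (bse k) =
    (decide ((i : ℕ) + 3 = k) || decide ((k : ℕ) + 3 = i)) := by decide +kernel

theorem bse_q6 : ∀ i : Fin 6, q6 (bse i) = false := by decide +kernel

theorem q6_vx (v w : Fin 64) : q6 (vx v w) = (bf v w ^^ (q6 v ^^ q6 w)) := by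
  unfold bf
  cases q6 (vx v w) <;> cases q6 v <;> cases q6 w <;> rfl

theorem vec_check : ∀ q < 128,
    vx (vx (vx (vx (vx (vx (sel (decide (q % 2 = 1)) (bse 0)) (sel (decide (q / 2 % 2 = 1)) (bse 1)))
      (sel (decide (q / 4 % 2 = 1)) (bse 2))) (sel (decide (q / 8 % 2 = 1)) (bse 3)))
      (sel (decide (q / 16 % 2 = 1)) (bse 4))) (sel (decide (q / 32 % 2 = 1)) (bse 5))) 0 =
      Fin.ofNat 64 q := by decide +kernel

include M

theorem Coord.zc {x : G} (hx : x ∈ Subgroup.centralizer ({z} : Set G)) : x * z = z * x :=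
  Subgroup.mem_centralizer_singleton_iff.1 hx

theorem Coord.f_one : f 1 = 0 := (M.f_ker 1 (one_mem Q)).2 (Or.inl rfl)

theorem Coord.f_z : f z = 0 := (M.f_ker z M.z_mem).2 (Or.inr rfl)

theorem Coord.f_inv {q : G} (hq : q ∈ Q) : f q⁻¹ = f q := by
  have h := M.f_mul q hq q⁻¹ (inv_mem hq)
  rw [mul_inv_cancel, M.f_one] at h
  calc f q⁻¹ = vx 0 (f q⁻¹) := (zero_vx _).symm
    _ = vx (vx (f q) (f q)) (f q⁻¹) := by rw [vx_self]
    _ = vx (f q) (vx (f q) (f q⁻¹)) := vx_assoc _ _ _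
    _ = f q := by rw [← h, vx_comm, zero_vx]

theorem Coord.eq_or {q r : G} (hq : q ∈ Q) (hr : r ∈ Q) (h : f q = f r) : r = q ∨ r = q * z := by
  have h0 : f (q⁻¹ * r) = 0 := by rw [M.f_mul _ (inv_mem hq) _ hr, M.f_inv hq, h, vx_self]
  rcases (M.f_ker _ (mul_mem (inv_mem hq) hr)).1 h0 with e | e
  · exact Or.inl (inv_mul_eq_one.1 e).symm
  · exact Or.inr (inv_mul_eq_iff_eq_mul.1 e)

theorem Coord.sq_one {q : G} (hq : q ∈ Q) (h : q6 (f q) = false) : q * q = 1 := by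
  rw [M.f_sq q hq, h]
  rfl

theorem Coord.conj_invol {q r : G} (hq : q ∈ Q) (hr : r ∈ Q) (h : q6 (f r) = false) :
    q * r * q⁻¹ = if bf (f q) (f r) then r * z else r := by
  have hzz : z⁻¹ = z := inv_eq_of_mul_eq_one_right M.z_sq
  have h1 : q * r * q⁻¹ = (q * r * (q * r)) * r⁻¹ * (q * q)⁻¹ := by group
  have hr' : r⁻¹ = r := inv_eq_of_mul_eq_one_right (M.sq_one hr h)
  rw [h1, M.f_sq _ (mul_mem hq hr), M.f_mul q hq r hr, M.f_sq q hq, hr', q6_vx, h]
  have hrz := M.zc (M.le hr)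
  cases bf (f q) (f r) <;> cases q6 (f q) <;> simp only [Bool.false_eq_true, if_false, if_true,
    Bool.xor_false, Bool.false_xor, Bool.true_xor, Bool.not_true, inv_one, one_mul,
    mul_one, hzz]
  · rw [← hrz, mul_assoc, M.z_sq, mul_one]
  · rw [hrz]

/-- six lifts of the basis vectors -/
structure Lifts (e : Fin 6 → G) : Prop where
  mem : ∀ i, e i ∈ Q
  f_e : ∀ i, f (e i) = bse i

omit M in
theorem exists_lifts (M : Coord z Q f ρ) : ∃ e, Lifts (f := f) (Q := Q) e := by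
  choose e he hfe using fun i : Fin 6 => M.f_surj (bse i)
  exact ⟨e, ⟨he, hfe⟩⟩

theorem Lifts.basis {e : Fin 6 → G} (L : Lifts (f := f) (Q := Q) e) : Basis z e where
  ord := orderOf_eq_prime (by rw [pow_two, M.z_sq]) M.z_ne
  e_sq i := M.sq_one (L.mem i) (by rw [L.f_e]; exact bse_q6 i)
  hez i := M.zc (M.le (L.mem i))
  e_comm i k h1 h2 := by
    have h := M.conj_invol (L.mem i) (L.mem k) (by rw [L.f_e]; exact bse_q6 k)
    rw [L.f_e, L.f_e, bse_pair] at h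
    simp only [h1, h2, decide_false, Bool.or_self, Bool.false_eq_true, if_false] at h
    exact mul_inv_eq_iff_eq_mul.1 h
  e_pair i k hik := by
    have h := M.conj_invol (L.mem i) (L.mem k) (by rw [L.f_e]; exact bse_q6 k)
    rw [L.f_e, L.f_e, bse_pair] at h
    simp only [hik, decide_true, Bool.true_or, if_true] at h
    rw [mul_inv_eq_iff_eq_mul.1 h, M.zc (M.le (L.mem k)), mul_assoc]

theorem Lifts.ev_mem {e : Fin 6 → G} (L : Lifts (f := f) (Q := Q) e) (q : ℕ) :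
    ev z e q ∈ Q := by
  unfold ev
  exact mul_mem (mul_mem (mul_mem (mul_mem (mul_mem (mul_mem (pow_mem (L.mem _) _)
    (pow_mem (L.mem _) _)) (pow_mem (L.mem _) _)) (pow_mem (L.mem _) _)) (pow_mem (L.mem _) _))
    (pow_mem (L.mem _) _)) (pow_mem M.z_mem _)

theorem Lifts.f_ev {e : Fin 6 → G} (L : Lifts (f := f) (Q := Q) e) {q : ℕ} (hq : q < 128) :
    f (ev z e q) = Fin.ofNat 64 q := by
  have hp : ∀ (i : Fin 6) (n : ℕ), f (e i ^ (n % 2)) = sel (decide (n % 2 = 1)) (bse i) := by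
    intro i n
    rcases Nat.mod_two_eq_zero_or_one n with h | h <;> rw [h]
    · rw [pow_zero, M.f_one]; rfl
    · rw [pow_one, L.f_e]; rfl
  have hzp : ∀ n : ℕ, f (z ^ (n % 2)) = 0 := by
    intro n
    rcases Nat.mod_two_eq_zero_or_one n with h | h <;> rw [h]
    · rw [pow_zero, M.f_one]
    · rw [pow_one, M.f_z]
  have m : ∀ (i : Fin 6) (n : ℕ), e i ^ n ∈ Q := fun i n => pow_mem (L.mem i) n
  unfold ev
  rw [M.f_mul _ (mul_mem (mul_mem (mul_mem (mul_mem (mul_mem (m _ _) (m _ _)) (m _ _)) (m _ _))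
      (m _ _)) (m _ _)) _ (pow_mem M.z_mem _),
    M.f_mul _ (mul_mem (mul_mem (mul_mem (mul_mem (m _ _) (m _ _)) (m _ _)) (m _ _)) (m _ _)) _
      (m _ _),
    M.f_mul _ (mul_mem (mul_mem (mul_mem (m _ _) (m _ _)) (m _ _)) (m _ _)) _ (m _ _),
    M.f_mul _ (mul_mem (mul_mem (m _ _) (m _ _)) (m _ _)) _ (m _ _),
    M.f_mul _ (mul_mem (m _ _) (m _ _)) _ (m _ _),
    M.f_mul _ (m _ _) _ (m _ _)]
  simp only [hp, hzp]
  exact vec_check q hq

theorem Lifts.span {e : Fin 6 → G} (L : Lifts (f := f) (Q := Q) e) {K : Subgroup G}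
    (hz : z ∈ K) (he : ∀ i, e i ∈ K) {q : G} (hq : q ∈ Q) : q ∈ K := by
  have hev : ev z e (f q).val ∈ K := by
    unfold ev
    exact mul_mem (mul_mem (mul_mem (mul_mem (mul_mem (mul_mem (pow_mem (he _) _) (pow_mem (he _) _))
      (pow_mem (he _) _)) (pow_mem (he _) _)) (pow_mem (he _) _)) (pow_mem (he _) _))
      (pow_mem hz _)
  rcases M.eq_or (L.ev_mem M _) hq (by
    rw [L.f_ev M (lt_trans (f q).isLt (by norm_num))]; exact ofNat_val _) with h | h <;> rw [h]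
  · exact hev
  · exact mul_mem hev hz

theorem Lifts.trivial_of_comm {e : Fin 6 → G} (L : Lifts (f := f) (Q := Q) e) {x : G}
    (hx : x ∈ Subgroup.centralizer ({z} : Set G)) (h : ∀ i, x * e i = e i * x) :
    x = 1 ∨ x = z := by
  have hall : ∀ q ∈ Q, x * q = q * x := fun q hq => by
    have := L.span M (K := Subgroup.centralizer ({x} : Set G))
      (Subgroup.mem_centralizer_singleton_iff.2 (M.zc hx).symm)
      (fun i => Subgroup.mem_centralizer_singleton_iff.2 (h i).symm) hq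
    exact (Subgroup.mem_centralizer_singleton_iff.1 this).symm
  have hxQ := M.cent x hx hall
  have hb : ∀ i : Fin 6, bf (f x) (bse i) = false := by
    intro i
    have h' := M.conj_invol hxQ (L.mem i) (by rw [L.f_e]; exact bse_q6 i)
    rw [h i, mul_inv_cancel_right, L.f_e] at h'
    cases hc : bf (f x) (bse i)
    · rfl
    · rw [hc, if_pos rfl] at h'
      exact absurd (left_eq_mul.1 h') M.z_ne
  have hv : ∀ v : Fin 64, bf v (bse 0) = false → bf v (bse 1) = false → bf v (bse 2) = false →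
      bf v (bse 3) = false → bf v (bse 4) = false → bf v (bse 5) = false → v = 0 := by
    decide +kernel
  exact (M.f_ker x hxQ).1 (hv _ (hb 0) (hb 1) (hb 2) (hb 3) (hb 4) (hb 5))

omit M in
/-- conjugation by `x` moves the basis as the list `img` says -/
def Moves (z : G) (e : Fin 6 → G) (x : G) (img : List ℕ) : Prop :=
  x ∈ Subgroup.centralizer ({z} : Set G) ∧ ∀ i : Fin 6, x * e i * x⁻¹ = ev z e (img.getD i 0)

theorem Lifts.exists_moves {e : Fin 6 → G} (L : Lifts (f := f) (Q := Q) e) {img : List ℕ}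
    (himg : ∀ i : Fin 6, img.getD i 0 < 128) {c : Subgroup.centralizer ({z} : Set G)}
    (hc : ∀ i : Fin 6, ρ c (bse i) = Fin.ofNat 64 (img.getD i 0)) :
    ∃ g, Moves z e g img ∧
      ∃ hg : g ∈ Subgroup.centralizer ({z} : Set G), ρ ⟨g, hg⟩ = ρ c := by
  classical
  have hz6 := L.basis M
  have hcase : ∀ i : Fin 6, ∃ b : Bool, (c : G) * e i * (c : G)⁻¹ =
      if b then ev z e (img.getD i 0) * z else ev z e (img.getD i 0) := by
    intro i
    rcases M.eq_or (L.ev_mem M (img.getD i 0)) (M.normal c c.2 (e i) (L.mem i))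
      (by rw [L.f_ev M (himg i), ← M.ρ_conj c _ (L.mem i), L.f_e, hc i]) with h | h
    · exact ⟨false, h⟩
    · exact ⟨true, h⟩
  choose d hd using hcase
  obtain ⟨w, w0, w1, w2, w3, w4, w5⟩ := bf_bits (d 0) (d 1) (d 2) (d 3) (d 4) (d 5)
  obtain ⟨a, ha, hfa⟩ := M.f_surj w
  have hw : ∀ i : Fin 6, bf w (bse i) = d i := by
    intro i
    fin_cases i
    exacts [w0, w1, w2, w3, w4, w5]
  have hg : (c : G) * a ∈ Subgroup.centralizer ({z} : Set G) := mul_mem c.2 (M.le ha)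
  refine ⟨(c : G) * a, ⟨hg, fun i => ?_⟩, hg, ?_⟩
  · have h1 := M.conj_invol ha (L.mem i) (by rw [L.f_e]; exact bse_q6 i)
    rw [hfa, L.f_e, hw i] at h1
    have hcz : (c : G) * z * (c : G)⁻¹ = z := mul_inv_eq_iff_eq_mul.2 (M.zc c.2)
    have h2 : (c : G) * a * e i * ((c : G) * a)⁻¹ = c * (a * e i * a⁻¹) * (c : G)⁻¹ := by group
    rw [h2, h1]
    cases hb : d i <;> simp only [Bool.false_eq_true, if_false, if_true]
    · rw [hd i, hb]; rfl
    · rw [show (c : G) * (e i * z) * (c : G)⁻¹ = (c * e i * (c : G)⁻¹) * (c * z * (c : G)⁻¹) by group,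
        hcz, hd i, hb, if_pos rfl, mul_assoc, M.z_sq, mul_one]
  · have : (⟨(c : G) * a, hg⟩ : Subgroup.centralizer ({z} : Set G)) = c * ⟨a, M.le ha⟩ := rfl
    rw [this, map_mul, (M.ρ_ker ⟨a, M.le ha⟩).2 ha, mul_one]

omit M in
/-- conjugation by `x` is the map `φ` on `ev` -/
def Acts (z : G) (e : Fin 6 → G) (x : G) (φ : ℕ → ℕ) : Prop :=
  x ∈ Subgroup.centralizer ({z} : Set G) ∧
    ∀ q < 128, φ q < 128 ∧ x * ev z e q * x⁻¹ = ev z e (φ q)

omit M in
theorem qFold_lt {img : List ℕ} (himg : ∀ w ∈ img, w < 128) (q : ℕ) : qFold img q < 128 := by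
  have hlt : ∀ i : ℕ, (bif Nat.beq (Nat.mod (Nat.div q (Nat.pow 2 i)) 2) 1 then img.getD i 0
      else 0) < 128 := fun i => by
    cases Nat.beq (Nat.mod (Nat.div q (Nat.pow 2 i)) 2) 1
    · exact (by norm_num : (0 : ℕ) < 128)
    · show img.getD i 0 < 128
      rw [List.getD_eq_getElem?_getD]
      cases e : img[i]? with
      | none => simp
      | some w => simpa using himg w (List.mem_of_getElem? e)
  refine qMul_lt (qMul_lt (qMul_lt (qMul_lt (qMul_lt (qMul_lt (hlt 0) (hlt 1)) (hlt 2)) (hlt 3))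
    (hlt 4)) (hlt 5)) ?_
  show 64 * (q / 64 % 2) < 128
  omega

theorem Lifts.acts {e : Fin 6 → G} (L : Lifts (f := f) (Q := Q) e) {img : List ℕ}
    (himg : ∀ w ∈ img, w < 128) {x : G} (h : Moves z e x img) : Acts z e x (qFold img) :=
  ⟨h.1, fun q _ => ⟨qFold_lt himg q, (L.basis M).conj_ev (M.zc h.1) himg h.2 q⟩⟩

omit M in
theorem Acts.mul {e : Fin 6 → G} {x y : G} {φ ψ : ℕ → ℕ} (hx : Acts z e x φ) (hy : Acts z e y ψ) :
    Acts z e (x * y) (fun q => φ (ψ q)) :=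
  ⟨mul_mem hx.1 hy.1, fun q hq => by
    obtain ⟨l1, e1⟩ := hy.2 q hq
    obtain ⟨l2, e2⟩ := hx.2 (ψ q) l1
    refine ⟨l2, ?_⟩
    rw [← e2, ← e1]
    group⟩

omit M in
theorem Acts.one {e : Fin 6 → G} : Acts z e 1 (fun q => q) :=
  ⟨one_mem _, fun q hq => ⟨hq, by simp⟩⟩

omit M in
theorem Acts.pow {e : Fin 6 → G} {x : G} {φ : ℕ → ℕ} (hx : Acts z e x φ) :
    ∀ n : ℕ, Acts z e (x ^ n) (iterN φ n)
  | 0 => by rw [pow_zero]; exact Acts.one
  | n + 1 => by rw [pow_succ']; exact hx.mul (Acts.pow hx n)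

theorem Lifts.eq_of_acts {e : Fin 6 → G} (L : Lifts (f := f) (Q := Q) e) {x y : G} {φ ψ : ℕ → ℕ}
    (hx : Acts z e x φ) (hy : Acts z e y ψ) (h : ∀ i : Fin 6, φ (2 ^ i.val) = ψ (2 ^ i.val)) :
    x = y ∨ x = y * z := by
  have hi : ∀ i : Fin 6, (y⁻¹ * x) * e i = e i * (y⁻¹ * x) := by
    intro i
    have hlt : 2 ^ i.val < 128 := lt_of_le_of_lt
      (Nat.pow_le_pow_right (by norm_num) (Nat.le_of_lt_succ i.isLt)) (by norm_num)
    have h1 := (hx.2 _ hlt).2
    have h2 := (hy.2 _ hlt).2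
    rw [← h i, ← h1, (L.basis M).ev_single i] at h2
    have h3 : y⁻¹ * x * e i * (y⁻¹ * x)⁻¹ = e i := by
      rw [show y⁻¹ * x * e i * (y⁻¹ * x)⁻¹ = y⁻¹ * (x * e i * x⁻¹) * y by group, ← h2]
      group
    exact mul_inv_eq_iff_eq_mul.1 h3
  rcases L.trivial_of_comm M (mul_mem (inv_mem hy.1) hx.1) hi with h' | h'
  · exact Or.inl (inv_mul_eq_one.1 h').symm
  · exact Or.inr (inv_mul_eq_iff_eq_mul.1 h')

omit M

theorem moves_mul_z {e : Fin 6 → G} {x : G} {img : List ℕ} (B : Basis z e)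
    (h : Moves z e x img) : Moves z e (x * z) img := by
  refine ⟨mul_mem h.1 (Subgroup.mem_centralizer_singleton_iff.2 rfl), fun i => ?_⟩
  rw [← h.2 i, mul_inv_rev]
  calc x * z * e i * (z⁻¹ * x⁻¹) = x * (z * e i * z⁻¹) * x⁻¹ := by group
    _ = x * e i * x⁻¹ := by rw [← (B.hez i).eq, mul_inv_cancel_right]

theorem relator_check : ∀ j < 2, ∀ i : Fin 6,
    iterN (qFold imgF) 7 (2 ^ i.val) = 2 ^ i.val ∧ iterN (qFold imgH) 3 (2 ^ i.val) = 2 ^ i.val ∧
    qFold imgH (qFold imgF (2 ^ i.val)) = qFold imgF (qFold imgF (qFold imgH (2 ^ i.val))) ∧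
    qFold (imgT j) (qFold imgH (2 ^ i.val)) = qFold imgH (qFold imgH (qFold (imgT j) (2 ^ i.val))) ∧
    iterN (fun q => qFold imgF (qFold (imgT j) q)) 3 (2 ^ i.val) = 2 ^ i.val ∧
    qFold (imgT j) (qFold (imgT j) (2 ^ i.val)) = 2 ^ i.val := by decide +kernel

theorem perm_check : ∀ j < 2, ∀ i : Fin 6,
    linF (fI 1) (bse i) = Fin.ofNat 64 (imgF.getD i 0) ∧
    linF (hI 1) (bse i) = Fin.ofNat 64 (imgH.getD i 0) ∧
    linF (tI j) (bse i) = Fin.ofNat 64 ((imgT j).getD i 0) := by decide +kernel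

theorem img_getD_lt : ∀ j < 2, ∀ i : Fin 6,
    imgF.getD i 0 < 128 ∧ imgH.getD i 0 < 128 ∧ (imgT j).getD i 0 < 128 := by decide +kernel

/-- A frame from coordinates in which the action is the standard group. -/
theorem exists_frame_of_coord (M : Coord z Q f ρ) {j : ℕ} (hj : j < 2)
    (hrange : ρ.range = Subgroup.closure {Fp, Hp, Tp j})
    (hcard : Nat.card (Subgroup.centralizer ({z} : Set G)) = 21504) :
    ∃ t, Nonempty (Frame j t z) := by
  classical
  obtain ⟨e, L⟩ := exists_lifts M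
  have B := L.basis M
  obtain ⟨lF, lH, lT⟩ := img_lt j hj
  have hmem : ∀ π ∈ ({Fp, Hp, Tp j} : Set (Perm (Fin 64))), ∃ c, ρ c = π := fun π hπ => by
    have h : π ∈ ρ.range := hrange ▸ Subgroup.subset_closure hπ
    exact h
  obtain ⟨cF, hcF⟩ := hmem Fp (by simp)
  obtain ⟨cH, hcH⟩ := hmem Hp (by simp)
  obtain ⟨cT, hcT⟩ := hmem (Tp j) (by simp)
  obtain ⟨F₀, mF₀, gF, rF₀⟩ := L.exists_moves M (img := imgF) (fun i => (img_getD_lt j hj i).1)
    (c := cF) (fun i => by rw [hcF]; exact (perm_check j hj i).1)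
  obtain ⟨H₀, mH₀, gH, rH₀⟩ := L.exists_moves M (img := imgH) (fun i => (img_getD_lt j hj i).2.1)
    (c := cH) (fun i => by rw [hcH]; exact (perm_check j hj i).2.1)
  obtain ⟨T₀, mT₀, gT, rT₀⟩ := L.exists_moves M (img := imgT j) (fun i => (img_getD_lt j hj i).2.2)
    (c := cT) (fun i => by rw [hcT]; exact (perm_check j hj i).2.2)
  have hzC : z ∈ Subgroup.centralizer ({z} : Set G) := Subgroup.mem_centralizer_singleton_iff.2 rfl
  have hρz : ρ ⟨z, hzC⟩ = 1 := (M.ρ_ker _).2 M.z_mem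
  have cz : ∀ {x : G}, x ∈ Subgroup.centralizer ({z} : Set G) → Commute x z := fun hx => M.zc hx
  have hpow : ∀ (n : ℕ), z ^ (2 * n + 1) = z := fun n => by
    rw [pow_succ, pow_mul, pow_two, M.z_sq, one_pow, one_mul]
  -- adjusting a lift by `z`
  have adjust : ∀ {x : G} {img : List ℕ}, Moves z e x img → ∀ hx : x ∈ Subgroup.centralizer {z},
      Moves z e (x * z) img ∧ ∃ hxz : x * z ∈ Subgroup.centralizer {z},
        ρ ⟨x * z, hxz⟩ = ρ ⟨x, hx⟩ := fun {x img} hm hx => ⟨moves_mul_z B hm, mul_mem hx hzC, by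
      rw [show (⟨x * z, mul_mem hx hzC⟩ : Subgroup.centralizer ({z} : Set G)) =
        ⟨x, hx⟩ * ⟨z, hzC⟩ from rfl, map_mul, hρz, mul_one]⟩
  -- the element of order seven
  obtain ⟨F, mF, hFm, rF, hF7⟩ : ∃ F, Moves z e F imgF ∧
      ∃ hF : F ∈ Subgroup.centralizer ({z} : Set G), ρ ⟨F, hF⟩ = Fp ∧ F ^ 7 = 1 := by
    rcases L.eq_of_acts M ((L.acts M lF mF₀).pow 7) Acts.one
      (fun i => (relator_check j hj i).1) with h | h
    · exact ⟨F₀, mF₀, gF, rF₀.trans hcF, h⟩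
    · obtain ⟨m, hxz, r⟩ := adjust mF₀ gF
      refine ⟨F₀ * z, m, hxz, r.trans (rF₀.trans hcF), ?_⟩
      rw [(cz gF).mul_pow, h, one_mul, show 7 = 2 * 3 + 1 from rfl, hpow, M.z_sq]
  -- the element of order three
  obtain ⟨H, mH, hHm, rH, hH3⟩ : ∃ H, Moves z e H imgH ∧
      ∃ hH : H ∈ Subgroup.centralizer ({z} : Set G), ρ ⟨H, hH⟩ = Hp ∧ H ^ 3 = 1 := by
    rcases L.eq_of_acts M ((L.acts M lH mH₀).pow 3) Acts.one
      (fun i => (relator_check j hj i).2.1) with h | h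
    · exact ⟨H₀, mH₀, gH, rH₀.trans hcH, h⟩
    · obtain ⟨m, hxz, r⟩ := adjust mH₀ gH
      refine ⟨H₀ * z, m, hxz, r.trans (rH₀.trans hcH), ?_⟩
      rw [(cz gH).mul_pow, h, one_mul, show 3 = 2 * 1 + 1 from rfl, hpow, M.z_sq]
  have aF := L.acts M lF mF
  have aH := L.acts M lH mH
  have hHF : H * F * H⁻¹ = F ^ 2 := by
    rcases L.eq_of_acts M (aH.mul aF) (aF.mul (aF.mul aH))
      (fun i => (relator_check j hj i).2.2.1) with h | h
    · rw [h, pow_two]; group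
    · exfalso
      have h1 : H * F * H⁻¹ = F ^ 2 * z := by
        rw [h, pow_two]
        have hz' : H * z * H⁻¹ = z := mul_inv_eq_iff_eq_mul.2 (M.zc hHm)
        calc F * (F * H) * z * H⁻¹ = F * F * (H * z * H⁻¹) := by group
          _ = F * F * z := by rw [hz']
      have h2 : (1 : G) = z := by
        calc (1 : G) = (H * F * H⁻¹) ^ 7 := by rw [conj_pow, hF7, mul_one, mul_inv_cancel]
          _ = (F ^ 2 * z) ^ 7 := by rw [h1]
          _ = z := by
            rw [((cz hFm).pow_left 2).mul_pow, ← pow_mul, mul_comm 2 7, pow_mul, hF7, one_pow,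
              one_mul, show 7 = 2 * 3 + 1 from rfl, hpow]
      exact M.z_ne h2.symm
  -- the involution
  have hTH₀ : T₀ * H * T₀⁻¹ = H⁻¹ := by
    have hH2 : H * H = H⁻¹ := eq_inv_of_mul_eq_one_left (by rw [← pow_two, ← pow_succ, hH3])
    rcases L.eq_of_acts M ((L.acts M lT mT₀).mul aH) (aH.mul (aH.mul (L.acts M lT mT₀)))
      (fun i => (relator_check j hj i).2.2.2.1) with h | h
    · rw [h, ← mul_assoc H H, mul_inv_cancel_right, hH2]
    · exfalso
      have hz' : T₀ * z * T₀⁻¹ = z := mul_inv_eq_iff_eq_mul.2 (M.zc gT)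
      have h1 : T₀ * H * T₀⁻¹ = H⁻¹ * z := by
        rw [h, ← hH2]
        calc H * (H * T₀) * z * T₀⁻¹ = H * H * (T₀ * z * T₀⁻¹) := by group
          _ = H * H * z := by rw [hz']
      have h2 : (1 : G) = z := by
        calc (1 : G) = (T₀ * H * T₀⁻¹) ^ 3 := by rw [conj_pow, hH3, mul_one, mul_inv_cancel]
          _ = (H⁻¹ * z) ^ 3 := by rw [h1]
          _ = z := by
            rw [((cz hHm).inv_left).mul_pow, inv_pow, hH3, inv_one, one_mul,
              show 3 = 2 * 1 + 1 from rfl, hpow]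
      exact M.z_ne h2.symm
  obtain ⟨T, mT, hTm, rT, hTH, hFT⟩ : ∃ T, Moves z e T (imgT j) ∧
      ∃ hT : T ∈ Subgroup.centralizer ({z} : Set G), ρ ⟨T, hT⟩ = Tp j ∧
        T * H * T⁻¹ = H⁻¹ ∧ (F * T) ^ 3 = 1 := by
    rcases L.eq_of_acts M ((aF.mul (L.acts M lT mT₀)).pow 3) Acts.one
      (fun i => (relator_check j hj i).2.2.2.2.1) with h | h
    · exact ⟨T₀, mT₀, gT, rT₀.trans hcT, hTH₀, h⟩
    · obtain ⟨m, hxz, r⟩ := adjust mT₀ gT
      refine ⟨T₀ * z, m, hxz, r.trans (rT₀.trans hcT), ?_, ?_⟩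
      · rw [← hTH₀]
        calc T₀ * z * H * (T₀ * z)⁻¹ = T₀ * (z * H * z⁻¹) * T₀⁻¹ := by group
          _ = T₀ * H * T₀⁻¹ := by rw [← M.zc hHm, mul_inv_cancel_right]
      · rw [← mul_assoc, (cz (mul_mem hFm gT)).mul_pow, h, one_mul,
          show 3 = 2 * 1 + 1 from rfl, hpow, M.z_sq]
  obtain ⟨t, ht, hTT⟩ : ∃ t < 2, T * T = z ^ t := by
    rcases L.eq_of_acts M ((L.acts M lT mT).mul (L.acts M lT mT)) Acts.one
      (fun i => (relator_check j hj i).2.2.2.2.2) with h | h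
    · exact ⟨0, by norm_num, by rw [h, pow_zero]⟩
    · exact ⟨1, by norm_num, by rw [h, one_mul, pow_one]⟩
  refine ⟨t, ⟨⟨hj, ht, B.ord, e, F, H, T, hcard, ?_, B.e_sq, B.e_comm, B.e_pair, mF.2, mH.2,
    mT.2, hF7, hH3, hHF, hTH, hFT, hTT⟩⟩⟩
  -- generation
  refine le_antisymm (fun c hc => ?_) ((Subgroup.closure_le _).2 ?_)
  · set K := Subgroup.closure ({z, F, H, T} ∪ Set.range e) with hK
    have hKz : z ∈ K := Subgroup.subset_closure (Or.inl (by simp))
    have hKe : ∀ i, e i ∈ K := fun i => Subgroup.subset_closure (Or.inr ⟨i, rfl⟩)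
    have hle : ρ.range ≤ (K.subgroupOf (Subgroup.centralizer {z})).map ρ := by
      rw [hrange, Subgroup.closure_le]
      intro π hπ
      simp only [Set.mem_insert_iff, Set.mem_singleton_iff] at hπ
      rcases hπ with rfl | rfl | rfl
      · exact ⟨⟨F, hFm⟩, Subgroup.subset_closure (Or.inl (by simp)), rF⟩
      · exact ⟨⟨H, hHm⟩, Subgroup.subset_closure (Or.inl (by simp)), rH⟩
      · exact ⟨⟨T, hTm⟩, Subgroup.subset_closure (Or.inl (by simp)), rT⟩
    obtain ⟨k, hk, hkc⟩ := hle ⟨⟨c, hc⟩, rfl⟩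
    have hQ' : ((k⁻¹ * ⟨c, hc⟩ : Subgroup.centralizer ({z} : Set G)) : G) ∈ Q :=
      (M.ρ_ker _).1 (by rw [map_mul, map_inv, hkc, inv_mul_cancel])
    have := mul_mem (show (k : G) ∈ K from hk) (L.span M hKz hKe hQ')
    simpa using this
  · rintro x ((rfl | rfl | rfl | rfl) | ⟨i, rfl⟩)
    exacts [hzC, hFm, hHm, hTm, M.le (L.mem i)]

theorem card_sl : Nat.card (Matrix.SpecialLinearGroup (Fin 3) (ZMod 2)) = 168 := by
  show Nat.card {A : Matrix (Fin 3) (Fin 3) (ZMod 2) // A.det = 1} = 168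
  rw [Nat.card_congr (Equiv.subtypeEquivRight (fun A => by rw [Matrix.det_fin_three]) :
    {A : Matrix (Fin 3) (Fin 3) (ZMod 2) // A.det = 1} ≃
    {A : Matrix (Fin 3) (Fin 3) (ZMod 2) // A 0 0 * A 1 1 * A 2 2 - A 0 0 * A 1 2 * A 2 1 -
      A 0 1 * A 1 0 * A 2 2 + A 0 1 * A 1 2 * A 2 0 + A 0 2 * A 1 0 * A 2 1 -
      A 0 2 * A 1 1 * A 2 0 = 1}), Nat.card_eq_fintype_card]
  decide +kernel

/-- generators of the group of order 168 -/
theorem sl_elems : ∃ f h t : Matrix.SpecialLinearGroup (Fin 3) (ZMod 2), f ^ 7 = 1 ∧ f ≠ 1 ∧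
    h ^ 3 = 1 ∧ h * f * h⁻¹ = f ^ 2 ∧ t * t = 1 ∧ t * h * t⁻¹ = h⁻¹ ∧ (f * t) ^ 3 = 1 := by
  refine ⟨⟨!![0, 1, 0; 1, 0, 1; 0, 1, 1], by decide +kernel⟩,
    ⟨!![0, 0, 1; 1, 0, 0; 0, 1, 0], by decide +kernel⟩,
    ⟨!![0, 0, 1; 0, 1, 0; 1, 0, 0], by decide +kernel⟩, ?_, ?_, ?_, ?_, ?_, ?_, ?_⟩ <;>
    first
      | (apply Subtype.ext
         simp only [Matrix.SpecialLinearGroup.coe_mul, Matrix.SpecialLinearGroup.coe_pow,
           Matrix.SpecialLinearGroup.coe_one, Matrix.SpecialLinearGroup.coe_inv]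
         decide +kernel)
      | (intro h
         replace h := congrArg Subtype.val h
         revert h
         decide +kernel)

end FrameO

/-- A1: the centraliser has a frame. -/
theorem exists_frame : StmtFrame.{u} := by
  intro G _ _ z hz Q _ hQ hcard hplus hcent e
  obtain ⟨f, ρ, M, ⟨ψ⟩⟩ := FrameO.exists_coord z hz Q hQ hcard hplus hcent
  let φ : Matrix.SpecialLinearGroup (Fin 3) (ZMod 2) ≃* ρ.range := e.symm.trans ψ
  have hR : Nat.card ρ.range = 168 :=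
    (Nat.card_congr φ.toEquiv).symm.trans FrameO.card_sl
  obtain ⟨a, b, c, a7, a1, b3, bab, c2, cbc, ac⟩ := FrameO.sl_elems
  let θ : Matrix.SpecialLinearGroup (Fin 3) (ZMod 2) →* Perm (Fin 64) :=
    ρ.range.subtype.comp φ.toMonoidHom
  have θinj : Function.Injective θ := ρ.range.subtype_injective.comp φ.injective
  obtain ⟨σ, hσ, j, hj, hmap⟩ := FrameO.exists_coords ρ.range M.range_le hR
    (f := θ a) (h := θ b) (t := θ c) (φ a).2 (φ b).2 (φ c).2
    (by rw [← map_pow, a7, map_one]) (fun h => a1 (θinj (h.trans (map_one θ).symm)))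
    (by rw [← map_pow, b3, map_one]) (by rw [← map_inv, ← map_mul, ← map_mul, bab, map_pow])
    (by rw [← map_mul, c2, map_one]) (by rw [← map_inv, ← map_mul, ← map_mul, cbc, map_inv])
    (by rw [← map_mul, ← map_pow, ac, map_one])
  have hC : Nat.card (Subgroup.centralizer ({z} : Set G)) = 21504 := by
    rw [Subgroup.card_eq_card_quotient_mul_card_subgroup Q, Nat.card_congr e.toEquiv,
      FrameO.card_sl, hcard]
    norm_num
  obtain ⟨t, ht⟩ := FrameO.exists_frame_of_coord (M.change hσ) hj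
    (by rw [MonoidHom.range_comp]; exact hmap) hC
  exact ⟨j, t, ht⟩

end CfsgLib.Spor.HeRecog
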