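import Cfsg.Agent.Lib.Spor.HeRecog.FrameModel.Checks

/-!
# The model of a frame
-/

set_option autoImplicit false
set_option linter.unusedSectionVars false
set_option maxRecDepth 100000

namespace CfsgLib.Spor.HeRecog

universe u

section Sw

variable {G : Type u} [Group G]

/-- `a b = z^n b a` -/
def Sw (z a b : G) (n : ℕ) : Prop := a * b = z ^ n * (b * a)

theorem Sw.mul_left {z a a' b : G} {n n' : ℕ} (ha : Commute a z) (h : Sw z a b n)
    (h' : Sw z a' b n') : Sw z (a * a') b (n + n') := by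
  unfold Sw at *
  calc a * a' * b = a * (z ^ n' * (b * a')) := by rw [mul_assoc, h']
    _ = z ^ n' * (a * b) * a' := by
      rw [← mul_assoc, (ha.pow_right n').eq]; simp only [mul_assoc]
    _ = z ^ (n + n') * (b * (a * a')) := by
      rw [h, add_comm n n', pow_add]; simp only [mul_assoc]

theorem Sw.mul_right {z a b b' : G} {n n' : ℕ} (hb : Commute b z) (h : Sw z a b n)
    (h' : Sw z a b' n') : Sw z a (b * b') (n + n') := by
  unfold Sw at *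
  calc a * (b * b') = z ^ n * (b * (a * b')) := by rw [← mul_assoc, h]; simp only [mul_assoc]
    _ = z ^ n * ((b * z ^ n') * (b' * a)) := by rw [h']; simp only [mul_assoc]
    _ = z ^ (n + n') * (b * b' * a) := by
      rw [(hb.pow_right n').eq, pow_add]; simp only [mul_assoc]

theorem Sw.pow_bit {z a b : G} {s : ℕ} (h : Sw z a b s) :
    ∀ i k : Fin 2, Sw z (a ^ i.val) (b ^ k.val) (i.val * k.val * s) := by
  intro i k
  fin_cases i <;> fin_cases k <;> simp_all [Sw]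

end Sw

namespace Frame

variable {j t : ℕ} {G : Type u} [Group G] {z : G} (Fr : Frame j t z)
include Fr

theorem mem_C {x : G} (hx : x ∈ ({z, Fr.F, Fr.H, Fr.T} ∪ Set.range Fr.e : Set G)) :
    Commute x z :=
  Subgroup.mem_centralizer_singleton_iff.1 (Fr.gen ▸ Subgroup.subset_closure hx)

theorem hFz : Commute Fr.F z := Fr.mem_C (Or.inl (by simp))
theorem hHz : Commute Fr.H z := Fr.mem_C (Or.inl (by simp))
theorem hTz : Commute Fr.T z := Fr.mem_C (Or.inl (by simp))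
theorem hez (i : Fin 6) : Commute (Fr.e i) z := Fr.mem_C (Or.inr ⟨i, rfl⟩)

theorem hzz : z * z = 1 := by rw [← pow_two, ← Fr.ord, pow_orderOf_eq_one]

theorem zpow_mod (n : ℕ) : z ^ n = z ^ (n % 2) := by
  conv_lhs => rw [← pow_mod_orderOf, Fr.ord]

theorem zc {x : G} (hx : Commute x z) (n : ℕ) : x * z ^ n = z ^ n * x := (hx.pow_right n).eq

/-- the part of the first three generators -/
def pA (v : ℕ) : G := Fr.e 0 ^ (v % 2) * Fr.e 1 ^ (v / 2 % 2) * Fr.e 2 ^ (v / 4 % 2)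

/-- the part of the last three generators -/
def pB (v : ℕ) : G := Fr.e 3 ^ (v % 2) * Fr.e 4 ^ (v / 2 % 2) * Fr.e 5 ^ (v / 4 % 2)

theorem pA_z (v : ℕ) : Commute (Fr.pA v) z :=
  (((Fr.hez 0).pow_left _).mul_left ((Fr.hez 1).pow_left _)).mul_left ((Fr.hez 2).pow_left _)

theorem pB_z (v : ℕ) : Commute (Fr.pB v) z :=
  (((Fr.hez 3).pow_left _).mul_left ((Fr.hez 4).pow_left _)).mul_left ((Fr.hez 5).pow_left _)

omit Fr in
theorem triple_mul {a b c : G} (ab : Commute a b) (ac : Commute a c) (bc : Commute b c)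
    (ha : a * a = 1) (hb : b * b = 1) (hc : c * c = 1) : ∀ v w : Fin 8,
    (a ^ (v.val % 2) * b ^ (v.val / 2 % 2) * c ^ (v.val / 4 % 2)) *
      (a ^ (w.val % 2) * b ^ (w.val / 2 % 2) * c ^ (w.val / 4 % 2)) =
    a ^ ((v.val ^^^ w.val) % 2) * b ^ ((v.val ^^^ w.val) / 2 % 2) *
      c ^ ((v.val ^^^ w.val) / 4 % 2) := by
  have red : ∀ (x : G), x * x = 1 → ∀ i k : ℕ, x ^ i * x ^ k = x ^ ((i + k) % 2) := by
    intro x hx i k
    rw [← pow_add]
    conv_lhs => rw [← Nat.mod_add_div (i + k) 2, pow_add, pow_mul, pow_two, hx, one_pow, mul_one]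
  intro v w
  have e1 : ∀ v w : Fin 8, (v.val % 2 + w.val % 2) % 2 = (v.val ^^^ w.val) % 2 ∧
      (v.val / 2 % 2 + w.val / 2 % 2) % 2 = (v.val ^^^ w.val) / 2 % 2 ∧
      (v.val / 4 % 2 + w.val / 4 % 2) % 2 = (v.val ^^^ w.val) / 4 % 2 := by decide +kernel
  obtain ⟨g1, g2, g3⟩ := e1 v w
  rw [← g1, ← g2, ← g3, ← red a ha, ← red b hb, ← red c hc]
  have h1 := (ac.pow_pow (w.val % 2) (v.val / 4 % 2)).eq
  have h2 := (ab.pow_pow (w.val % 2) (v.val / 2 % 2)).eq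
  have h3 := (bc.pow_pow (w.val / 2 % 2) (v.val / 4 % 2)).eq
  simp only [mul_assoc]
  congr 1
  rw [← mul_assoc (c ^ _) (a ^ _), ← h1, mul_assoc, ← mul_assoc (b ^ _) (a ^ _), ← h2, mul_assoc,
    ← mul_assoc (c ^ _) (b ^ _), ← h3, mul_assoc]

theorem pA_mul {v w : ℕ} (hv : v < 8) (hw : w < 8) :
    Fr.pA v * Fr.pA w = Fr.pA (v ^^^ w) :=
  triple_mul (Fr.e_comm 0 1 (by decide) (by decide)) (Fr.e_comm 0 2 (by decide) (by decide))
    (Fr.e_comm 1 2 (by decide) (by decide)) (Fr.e_sq 0) (Fr.e_sq 1) (Fr.e_sq 2) ⟨v, hv⟩ ⟨w, hw⟩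

theorem pB_mul {v w : ℕ} (hv : v < 8) (hw : w < 8) :
    Fr.pB v * Fr.pB w = Fr.pB (v ^^^ w) :=
  triple_mul (Fr.e_comm 3 4 (by decide) (by decide)) (Fr.e_comm 3 5 (by decide) (by decide))
    (Fr.e_comm 4 5 (by decide) (by decide)) (Fr.e_sq 3) (Fr.e_sq 4) (Fr.e_sq 5) ⟨v, hv⟩ ⟨w, hw⟩

theorem swE (i k : Fin 6) (hi : 3 ≤ i.val) (hk : k.val < 3) :
    Sw z (Fr.e i) (Fr.e k) (if k.val + 3 = i.val then 1 else 0) := by
  unfold Sw
  split
  · rename_i h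
    have h2 := Fr.e_pair k i h
    rw [h2, ← mul_assoc, pow_one, Fr.hzz, one_mul]
  · rename_i h
    rw [pow_zero, one_mul, Fr.e_comm i k (by omega) h]

theorem pB_pA (w v : ℕ) :
    Sw z (Fr.pB w) (Fr.pA v) (w % 2 * (v % 2) + w / 2 % 2 * (v / 2 % 2) +
      w / 4 % 2 * (v / 4 % 2)) := by
  have cm : ∀ (k : Fin 6) (i : ℕ), Commute (Fr.e k ^ i) z := fun k i => (Fr.hez k).pow_left i
  have row : ∀ i : Fin 6, 3 ≤ i.val → ∀ a : ℕ, a < 2 → Sw z (Fr.e i ^ a) (Fr.pA v)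
      (a * (v % 2) * (if i.val = 3 then 1 else 0) +
        a * (v / 2 % 2) * (if i.val = 4 then 1 else 0) +
        a * (v / 4 % 2) * (if i.val = 5 then 1 else 0)) := by
    intro i hi a ha
    have s : ∀ k : Fin 6, k.val < 3 → ∀ b : ℕ, b < 2 →
        Sw z (Fr.e i ^ a) (Fr.e k ^ b) (a * b * (if i.val = k.val + 3 then 1 else 0)) := by
      intro k hk b hb
      have h := (Fr.swE i k hi hk).pow_bit ⟨a, ha⟩ ⟨b, hb⟩
      simp only [eq_comm (a := i.val)] at h ⊢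
      exact h
    exact ((s 0 (by decide) _ (Nat.mod_lt _ two_pos)).mul_right (cm 0 _)
      (s 1 (by decide) _ (Nat.mod_lt _ two_pos))).mul_right ((cm 0 _).mul_left (cm 1 _))
      (s 2 (by decide) _ (Nat.mod_lt _ two_pos))
  have h := ((row 3 (by decide) _ (Nat.mod_lt w two_pos)).mul_left (cm 3 _)
    (row 4 (by decide) _ (Nat.mod_lt (w / 2) two_pos))).mul_left ((cm 3 _).mul_left (cm 4 _))
    (row 5 (by decide) _ (Nat.mod_lt (w / 4) two_pos))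
  simpa [pB] using h

theorem ev_eq {q : ℕ} (hq : q < 128) :
    ev z Fr.e q = Fr.pA (q % 8) * Fr.pB (q / 8) * z ^ (q / 64) := by
  unfold ev pA pB
  rw [show q % 8 % 2 = q % 2 by omega, show q % 8 / 2 % 2 = q / 2 % 2 by omega,
    show q % 8 / 4 % 2 = q / 4 % 2 by omega, show q / 8 / 2 % 2 = q / 16 % 2 by omega,
    show q / 8 / 4 % 2 = q / 32 % 2 by omega, show q / 64 % 2 = q / 64 by omega]
  simp only [mul_assoc]

theorem pB_mod (q : ℕ) : Fr.pB q = Fr.pB (q % 8) := by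
  unfold pB
  rw [show q % 8 % 2 = q % 2 by omega, show q % 8 / 2 % 2 = q / 2 % 2 by omega,
    show q % 8 / 4 % 2 = q / 4 % 2 by omega]

theorem ev_mul {a b : ℕ} (ha : a < 128) (hb : b < 128) :
    ev z Fr.e (qMul a b) = ev z Fr.e a * ev z Fr.e b := by
  have hc := qMul_lt ha hb
  have h := allN_spec (allN_spec qMul_check a ha) b hb
  simp only [Bool.and_eq_true] at h
  have h1 : qMul a b % 8 = a % 8 ^^^ b % 8 := Nat.eq_of_beq_eq_true h.1.1
  have h2 : qMul a b / 8 % 8 = a / 8 % 8 ^^^ b / 8 % 8 := Nat.eq_of_beq_eq_true h.1.2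
  have h3 : qMul a b / 64 % 2 = (a / 64 + b / 64 + (a / 8 % 2 * (b % 2) +
      a / 16 % 2 * (b / 2 % 2) + a / 32 % 2 * (b / 4 % 2))) % 2 := Nat.eq_of_beq_eq_true h.2
  rw [Fr.ev_eq hc, Fr.ev_eq ha, Fr.ev_eq hb, h1, Fr.pB_mod (qMul a b / 8), h2,
    ← Fr.pA_mul (by omega) (by omega), ← Fr.pB_mul (by omega) (by omega), ← Fr.pB_mod,
    ← Fr.pB_mod, show qMul a b / 64 = qMul a b / 64 % 2 by omega, h3, ← Fr.zpow_mod]
  have hs := Fr.pB_pA (a / 8) (b % 8)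
  rw [show a / 8 % 2 = a / 8 % 2 from rfl, show a / 8 / 2 % 2 = a / 16 % 2 by omega,
    show a / 8 / 4 % 2 = a / 32 % 2 by omega, show b % 8 % 2 = b % 2 by omega,
    show b % 8 / 2 % 2 = b / 2 % 2 by omega, show b % 8 / 4 % 2 = b / 4 % 2 by omega] at hs
  generalize Fr.pA (a % 8) = A
  generalize a / 8 % 2 * (b % 2) + a / 16 % 2 * (b / 2 % 2) + a / 32 % 2 * (b / 4 % 2) = d at hs ⊢
  have cA := Fr.pA_z (b % 8)
  have cB := Fr.pB_z (a / 8)
  have cB' := Fr.pB_z (b / 8)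
  generalize Fr.pA (b % 8) = A' at hs cA ⊢
  generalize Fr.pB (a / 8) = B at hs cB ⊢
  generalize Fr.pB (b / 8) = B' at cB' ⊢
  generalize a / 64 = s
  generalize b / 64 = s'
  symm
  calc A * B * z ^ s * (A' * B' * z ^ s') = A * (B * A') * z ^ s * B' * z ^ s' := by
        simp only [mul_assoc]
        rw [← mul_assoc (z ^ s) A', ← Fr.zc cA, mul_assoc]
    _ = A * (B * A') * B' * z ^ (s + s') := by
        rw [pow_add]; simp only [mul_assoc]
        rw [← mul_assoc (z ^ s) B', ← Fr.zc cB', mul_assoc]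
    _ = A * (A' * B * z ^ d) * B' * z ^ (s + s') := by
        rw [hs, Fr.zc (cA.mul_left cB)]
    _ = A * A' * (B * B') * z ^ (s + s' + d) := by
        rw [pow_add _ (s + s')]; simp only [mul_assoc]
        rw [← mul_assoc (z ^ d) B', ← Fr.zc cB']
        simp only [mul_assoc]
        rw [← pow_add, ← pow_add, add_comm d]

theorem ev_single (i : Fin 6) : ev z Fr.e (2 ^ i.val) = Fr.e i := by
  fin_cases i <;> simp [ev]

omit Fr in
theorem ev_zero (e : Fin 6 → G) : ev z e 0 = 1 := by simp [ev]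

omit Fr in
theorem ev_sixtyfour (e : Fin 6 → G) : ev z e 64 = z := by simp [ev]

theorem conj_ev {x : G} (hx : Commute x z) {img : List ℕ} (himg : ∀ w ∈ img, w < 128)
    (h : ∀ i : Fin 6, x * Fr.e i * x⁻¹ = ev z Fr.e (img.getD i 0)) (q : ℕ) :
    x * ev z Fr.e q * x⁻¹ = ev z Fr.e (qFold img q) := by
  have hlt : ∀ i : ℕ, img.getD i 0 < 128 := fun i => by
    rw [List.getD_eq_getElem?_getD]
    cases e : img[i]? with
    | none => simp
    | some w => simpa using himg w (List.mem_of_getElem? e)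
  have hp : ∀ i : ℕ, (bif Nat.beq (q / 2 ^ i % 2) 1 then img.getD i 0 else 0) < 128 := fun i => by
    cases Nat.beq (q / 2 ^ i % 2) 1
    · exact (by norm_num : (0 : ℕ) < 128)
    · exact hlt i
  have ep : ∀ i : Fin 6, ev z Fr.e (bif Nat.beq (q / 2 ^ i.val % 2) 1 then img.getD i.val 0 else 0)
      = x * Fr.e i ^ (q / 2 ^ i.val % 2) * x⁻¹ := fun i => by
    rcases Nat.mod_two_eq_zero_or_one (q / 2 ^ i.val) with e | e <;> rw [e]
    · show ev z Fr.e 0 = _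
      simp [ev_zero]
    · show ev z Fr.e (img.getD i.val 0) = _
      rw [pow_one]; exact (h i).symm
  have e64 : ev z Fr.e (64 * (q / 64 % 2)) = z ^ (q / 64 % 2) := by
    rcases Nat.mod_two_eq_zero_or_one (q / 64) with e | e <;> rw [e]
    · simp [ev_zero]
    · simp [ev_sixtyfour]
  have p0 := hp 0
  have p1 := qMul_lt p0 (hp 1)
  have p2 := qMul_lt p1 (hp 2)
  have p3 := qMul_lt p2 (hp 3)
  have p4 := qMul_lt p3 (hp 4)
  have p5 := qMul_lt p4 (hp 5)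
  have r0 := ep 0
  have r1 := ep 1
  have r2 := ep 2
  have r3 := ep 3
  have r4 := ep 4
  have r5 := ep 5
  have efold : qFold img q = qMul (qMul (qMul (qMul (qMul (qMul
    (bif Nat.beq (q / 2 ^ 0 % 2) 1 then img.getD 0 0 else 0)
    (bif Nat.beq (q / 2 ^ 1 % 2) 1 then img.getD 1 0 else 0))
    (bif Nat.beq (q / 2 ^ 2 % 2) 1 then img.getD 2 0 else 0))
    (bif Nat.beq (q / 2 ^ 3 % 2) 1 then img.getD 3 0 else 0))
    (bif Nat.beq (q / 2 ^ 4 % 2) 1 then img.getD 4 0 else 0))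
    (bif Nat.beq (q / 2 ^ 5 % 2) 1 then img.getD 5 0 else 0))
    (64 * (q / 64 % 2)) := by unfold qFold; with_reducible_and_instances rfl
  rw [efold]
  rw [Fr.ev_mul p5 (by omega : 64 * (q / 64 % 2) < 128),
    Fr.ev_mul p4 (hp 5), Fr.ev_mul p3 (hp 4), Fr.ev_mul p2 (hp 3), Fr.ev_mul p1 (hp 2),
    Fr.ev_mul p0 (hp 1)]
  simp only [Fin.val_zero, Fin.val_one, Fin.val_two, show ((3 : Fin 6) : ℕ) = 3 from rfl,
    show ((4 : Fin 6) : ℕ) = 4 from rfl, show ((5 : Fin 6) : ℕ) = 5 from rfl] at r0 r1 r2 r3 r4 r5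
  have e0 : q / 2 ^ 0 % 2 = q % 2 := by simp
  rw [r0, r1, r2, r3, r4, r5, e64, e0]
  have hxz : x * z ^ (q / 64 % 2) * x⁻¹ = z ^ (q / 64 % 2) := by
    rw [Fr.zc hx, mul_inv_cancel_right]
  conv_rhs => rw [← hxz]
  simp only [ev, Nat.reducePow, pow_one]
  group

theorem conj_act {q : ℕ} (hq : q < 128) :
    Fr.F * ev z Fr.e q * Fr.F⁻¹ = ev z Fr.e (qAct (2 * j) fN q) ∧
    Fr.H * ev z Fr.e q * Fr.H⁻¹ = ev z Fr.e (qAct (2 * j) hN q) ∧
    Fr.T * ev z Fr.e q * Fr.T⁻¹ = ev z Fr.e (qAct (2 * j) tN q) := by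
  have h := allN_spec (allN_spec img_check j Fr.hj) q hq
  simp only [Bool.and_eq_true] at h
  have e1 : qAct (2 * j) fN q = qFold imgF q := Nat.eq_of_beq_eq_true h.1.1
  have e2 : qAct (2 * j) hN q = qFold imgH q := Nat.eq_of_beq_eq_true h.1.2
  have e3 : qAct (2 * j) tN q = qFold (imgT j) q := Nat.eq_of_beq_eq_true h.2
  obtain ⟨l1, l2, l3⟩ := img_lt j Fr.hj
  rw [e1, e2, e3]
  exact ⟨Fr.conj_ev Fr.hFz l1 Fr.conjF q, Fr.conj_ev Fr.hHz l2 Fr.conjH q,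
    Fr.conj_ev Fr.hTz l3 Fr.conjT q⟩

theorem conj_iter {x : G} {f : ℕ → ℕ} (hf : ∀ q, f q < 128)
    (h : ∀ q, q < 128 → x * ev z Fr.e q * x⁻¹ = ev z Fr.e (f q)) {q : ℕ} (hq : q < 128) :
    ∀ n : ℕ, iterN f n q < 128 ∧ x ^ n * ev z Fr.e q * (x ^ n)⁻¹ = ev z Fr.e (iterN f n q)
  | 0 => ⟨hq, by simp [iterN]⟩
  | n + 1 => by
    obtain ⟨h1, h2⟩ := conj_iter hf h hq n
    refine ⟨hf _, ?_⟩
    rw [iterN, ← h _ h1, ← h2, pow_succ']
    group

/-- the lift with a given index -/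
def W (k : ℕ) : G :=
  if k < 21 then Fr.F ^ (k / 3) * Fr.H ^ (k % 3)
  else Fr.F ^ (k % 21 / 3) * Fr.H ^ (k % 21 % 3) * Fr.T * Fr.F ^ (k / 21 - 1)

theorem W_z (k : ℕ) : Commute (Fr.W k) z := by
  unfold W
  split
  · exact (Fr.hFz.pow_left _).mul_left (Fr.hHz.pow_left _)
  · exact (((Fr.hFz.pow_left _).mul_left (Fr.hHz.pow_left _)).mul_left Fr.hTz).mul_left
      (Fr.hFz.pow_left _)

theorem F_mod (n : ℕ) : Fr.F ^ n = Fr.F ^ (n % 7) := by
  conv_lhs => rw [← Nat.mod_add_div n 7, pow_add, pow_mul, Fr.F_seven, one_pow, mul_one]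

theorem H_mod (n : ℕ) : Fr.H ^ n = Fr.H ^ (n % 3) := by
  conv_lhs => rw [← Nat.mod_add_div n 3, pow_add, pow_mul, Fr.H_three, one_pow, mul_one]

theorem W_small (a b : ℕ) : Fr.W (smallI a b) = Fr.F ^ a * Fr.H ^ b := by
  show Fr.W (3 * (a % 7) + b % 3) = _
  rw [Fr.F_mod a, Fr.H_mod b, W, if_pos (by omega), show (3 * (a % 7) + b % 3) / 3 = a % 7 by omega,
    show (3 * (a % 7) + b % 3) % 3 = b % 3 by omega]

theorem W_big (a b c : ℕ) :
    Fr.W (bigI a b c) = Fr.F ^ a * Fr.H ^ b * Fr.T * Fr.F ^ c := by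
  show Fr.W (21 * (c % 7 + 1) + 3 * (a % 7) + b % 3) = _
  rw [Fr.F_mod a, Fr.H_mod b, Fr.F_mod c, W, if_neg (by omega),
    show (21 * (c % 7 + 1) + 3 * (a % 7) + b % 3) % 21 / 3 = a % 7 by omega,
    show (21 * (c % 7 + 1) + 3 * (a % 7) + b % 3) % 21 % 3 = b % 3 by omega,
    show (21 * (c % 7 + 1) + 3 * (a % 7) + b % 3) / 21 - 1 = c % 7 by omega]

theorem W_cases {k : ℕ} (hk : k < 168) :
    (k < 21 ∧ Fr.W k = Fr.F ^ (k / 3) * Fr.H ^ (k % 3)) ∨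
      (¬ k < 21 ∧ Fr.W k = Fr.F ^ (k % 21 / 3) * Fr.H ^ (k % 21 % 3) * Fr.T *
        Fr.F ^ (k / 21 - 1)) := by
  by_cases h : k < 21
  · exact Or.inl ⟨h, by rw [W, if_pos h]⟩
  · exact Or.inr ⟨h, by rw [W, if_neg h]⟩

theorem H_F (b x : ℕ) : Fr.H ^ b * Fr.F ^ x = Fr.F ^ (x * 2 ^ b) * Fr.H ^ b := by
  induction b with
  | zero => simp
  | succ b ih =>
    have h1 : ∀ y : ℕ, Fr.H * Fr.F ^ y = Fr.F ^ (2 * y) * Fr.H := fun y => by
      rw [← mul_inv_eq_iff_eq_mul, ← conj_pow, Fr.HF, ← pow_mul]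
    rw [pow_succ', mul_assoc, ih, ← mul_assoc, h1, mul_assoc,
      show 2 * (x * 2 ^ b) = x * 2 ^ (b + 1) by rw [pow_succ]; ring]

theorem T_H : Fr.T * Fr.H = Fr.H ^ 2 * Fr.T := by
  have h : Fr.T * Fr.H = Fr.H⁻¹ * Fr.T := mul_inv_eq_iff_eq_mul.1 Fr.TH
  rw [h]
  congr 1
  exact inv_eq_of_mul_eq_one_right (by rw [← pow_succ']; exact Fr.H_three)

theorem F_H (c : ℕ) : Fr.F ^ c * Fr.H = Fr.H * Fr.F ^ (4 * c) := by
  have h := Fr.H_F 1 (4 * c)
  rw [pow_one, pow_one] at h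
  rw [h, Fr.F_mod c, Fr.F_mod (4 * c * 2)]
  congr 2
  omega

theorem H_T : Fr.H * Fr.T * Fr.H⁻¹ = Fr.T * Fr.H := by
  rw [mul_inv_eq_iff_eq_mul]
  calc Fr.H * Fr.T = Fr.H * (Fr.H ^ 3 * Fr.T) := by rw [Fr.H_three, one_mul]
    _ = Fr.H ^ 2 * (Fr.H ^ 2 * Fr.T) := by simp only [pow_succ, pow_zero, one_mul, mul_assoc]
    _ = Fr.H ^ 2 * (Fr.T * Fr.H) := by rw [Fr.T_H]
    _ = Fr.T * Fr.H * Fr.H := by rw [← mul_assoc, ← Fr.T_H]

theorem TFT_one : Fr.T * Fr.F * Fr.T = z ^ t * (Fr.F ^ 6 * Fr.T * Fr.F ^ 6) := by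
  have h := Fr.FT
  have hF : Fr.F⁻¹ = Fr.F ^ 6 := inv_eq_of_mul_eq_one_right (by
    rw [← pow_succ']; exact Fr.F_seven)
  have hT : Fr.T⁻¹ = z ^ t * Fr.T := by
    refine inv_eq_of_mul_eq_one_right ?_
    rw [← mul_assoc, Fr.zc Fr.hTz, mul_assoc, Fr.T_sq, ← pow_add, Fr.zpow_mod]
    simp [← two_mul]
  have e : Fr.T * Fr.F * Fr.T = Fr.F⁻¹ * Fr.T⁻¹ * Fr.F⁻¹ := by
    rw [pow_three] at h
    calc Fr.T * Fr.F * Fr.T
        = Fr.F⁻¹ * (Fr.F * Fr.T * (Fr.F * Fr.T * (Fr.F * Fr.T))) * (Fr.T⁻¹ * Fr.F⁻¹) := by group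
      _ = _ := by rw [h]; group
  rw [e, hF, hT, ← mul_assoc (Fr.F ^ 6) (z ^ t), Fr.zc (Fr.hFz.pow_left 6)]
  simp only [mul_assoc]

theorem TFT_six : Fr.T * Fr.F ^ 6 * Fr.T = Fr.F * Fr.T * Fr.F := by
  have hF : Fr.F⁻¹ = Fr.F ^ 6 := inv_eq_of_mul_eq_one_right (by
    rw [← pow_succ']; exact Fr.F_seven)
  have h := Fr.FT
  rw [pow_three] at h
  calc Fr.T * Fr.F ^ 6 * Fr.T = Fr.T * Fr.F⁻¹ * Fr.T := by rw [hF]
    _ = (Fr.T * Fr.T) * (Fr.T⁻¹ * Fr.F⁻¹ * Fr.T⁻¹) * (Fr.T * Fr.T) := by group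
    _ = z ^ t * (Fr.T⁻¹ * Fr.F⁻¹ * Fr.T⁻¹) * z ^ t := by rw [Fr.T_sq]
    _ = z ^ t * ((Fr.F * Fr.T * (Fr.F * Fr.T * (Fr.F * Fr.T))) *
          (Fr.T⁻¹ * Fr.F⁻¹ * Fr.T⁻¹)) * z ^ t := by rw [h, one_mul]
    _ = z ^ t * (Fr.F * Fr.T * Fr.F) * z ^ t := by group
    _ = _ := by
      rw [mul_assoc, Fr.zc ((Fr.hFz.mul_left Fr.hTz).mul_left Fr.hFz), ← mul_assoc, ← pow_add,
        Fr.zpow_mod]
      simp [← two_mul]

/-- conjugation by `H` multiplies the exponent in `T F^c T` by four -/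
theorem TFT_step {c a b d x : ℕ}
    (h : Fr.T * Fr.F ^ c * Fr.T = z ^ x * (Fr.F ^ a * Fr.H ^ b * Fr.T * Fr.F ^ d)) :
    Fr.T * Fr.F ^ (4 * c) * Fr.T =
      z ^ x * (Fr.F ^ (2 * a) * Fr.H ^ (b + 5) * Fr.T * Fr.F ^ (16 * d)) := by
  have e1 : Fr.H * (Fr.T * Fr.F ^ c * Fr.T) * Fr.H⁻¹ = Fr.T * Fr.F ^ (4 * c) * Fr.T := by
    calc Fr.H * (Fr.T * Fr.F ^ c * Fr.T) * Fr.H⁻¹
        = (Fr.H * Fr.T * Fr.H⁻¹) * (Fr.H ^ 1 * Fr.F ^ c * Fr.H⁻¹) *
            (Fr.H * Fr.T * Fr.H⁻¹) := by rw [pow_one]; group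
      _ = (Fr.T * Fr.H) * Fr.F ^ (2 * c) * (Fr.T * Fr.H) := by
        rw [Fr.H_T, Fr.H_F 1 c, pow_one (2 : ℕ), pow_one Fr.H, mul_inv_cancel_right, Nat.mul_comm c 2]
      _ = Fr.T * (Fr.H ^ 1 * Fr.F ^ (2 * c)) * (Fr.H ^ 2 * Fr.T) := by
        nth_rewrite 2 [Fr.T_H]; rw [pow_one]; simp only [mul_assoc]
      _ = Fr.T * Fr.F ^ (4 * c) * (Fr.H ^ 3 * Fr.T) := by
        rw [Fr.H_F 1 (2 * c), show 2 * c * 2 ^ 1 = 4 * c by ring, pow_succ Fr.H 2]
        simp only [pow_two, pow_one, mul_assoc]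
      _ = _ := by rw [Fr.H_three, one_mul]
  have hHi : Fr.H⁻¹ = Fr.H * Fr.H := inv_eq_of_mul_eq_one_right (by
    rw [← Fr.H_three, pow_three])
  rw [← e1, h]
  calc Fr.H * (z ^ x * (Fr.F ^ a * Fr.H ^ b * Fr.T * Fr.F ^ d)) * Fr.H⁻¹
      = z ^ x * ((Fr.H ^ 1 * Fr.F ^ a) * Fr.H ^ b * Fr.T * (Fr.F ^ d * Fr.H) * Fr.H) := by
        rw [← mul_assoc Fr.H (z ^ x), Fr.zc Fr.hHz, hHi, pow_one]; simp only [mul_assoc]
    _ = z ^ x * (Fr.F ^ (a * 2) * Fr.H * Fr.H ^ b * (Fr.T * Fr.H) *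
          (Fr.F ^ (4 * d) * Fr.H)) := by
        rw [Fr.H_F 1 a, Fr.F_H d]; simp only [pow_one, mul_assoc]
    _ = z ^ x * (Fr.F ^ (a * 2) * Fr.H * Fr.H ^ b * Fr.H ^ 2 * (Fr.T * Fr.H) *
          Fr.F ^ (4 * (4 * d))) := by
        rw [Fr.F_H (4 * d)]; nth_rewrite 1 [Fr.T_H]; simp only [mul_assoc]
    _ = _ := by
        rw [Fr.T_H, show b + 5 = 1 + b + 2 + 2 by ring, show 16 * d = 4 * (4 * d) by ring,
          Nat.mul_comm 2 a, pow_add, pow_add, pow_add, pow_one]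
        simp only [mul_assoc]

theorem TFT {c : ℕ} (h1 : 1 ≤ c) (h6 : c ≤ 6) :
    Fr.T * Fr.F ^ c * Fr.T = z ^ tftB t c * Fr.W (bigI (tftI c).1 (tftI c).2.1 (tftI c).2.2) := by
  have red : ∀ {c c' a b d a' b' d' x : ℕ}, c % 7 = c' % 7 → a % 7 = a' % 7 → b % 3 = b' % 3 →
      d % 7 = d' % 7 →
      Fr.T * Fr.F ^ c * Fr.T = z ^ x * (Fr.F ^ a * Fr.H ^ b * Fr.T * Fr.F ^ d) →
      Fr.T * Fr.F ^ c' * Fr.T = z ^ x * (Fr.F ^ a' * Fr.H ^ b' * Fr.T * Fr.F ^ d') := by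
    intro c c' a b d a' b' d' x hc ha hb hd e
    rwa [Fr.F_mod c, Fr.F_mod a, Fr.H_mod b, Fr.F_mod d, hc, ha, hb, hd, ← Fr.F_mod, ← Fr.F_mod,
      ← Fr.H_mod, ← Fr.F_mod] at e
  have e1 : Fr.T * Fr.F ^ 1 * Fr.T = z ^ t * (Fr.F ^ 6 * Fr.H ^ 0 * Fr.T * Fr.F ^ 6) := by
    rw [pow_one, pow_zero, mul_one]; exact Fr.TFT_one
  have e4 := red (c' := 4) (a' := 5) (b' := 2) (d' := 5) (by norm_num) (by norm_num) (by norm_num)
    (by norm_num) (Fr.TFT_step e1)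
  have e2 := red (c' := 2) (a' := 3) (b' := 1) (d' := 3) (by norm_num) (by norm_num) (by norm_num)
    (by norm_num) (Fr.TFT_step e4)
  have e6 : Fr.T * Fr.F ^ 6 * Fr.T = z ^ 0 * (Fr.F ^ 1 * Fr.H ^ 0 * Fr.T * Fr.F ^ 1) := by
    simp only [pow_zero, pow_one, one_mul, mul_one]; exact Fr.TFT_six
  have e3 := red (c' := 3) (a' := 2) (b' := 2) (d' := 2) (by norm_num) (by norm_num) (by norm_num)
    (by norm_num) (Fr.TFT_step e6)
  have e5 := red (c' := 5) (a' := 4) (b' := 1) (d' := 4) (by norm_num) (by norm_num) (by norm_num)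
    (by norm_num) (Fr.TFT_step e3)
  rw [Fr.W_big]
  interval_cases c
  · exact e1
  · exact e2
  · exact e3
  · exact e4
  · exact e5
  · exact e6

theorem W_F {k : ℕ} (hk : k < 168) : Fr.W k * Fr.F = Fr.W (rgF k) := by
  rcases Fr.W_cases hk with ⟨h, e⟩ | ⟨h, e⟩
  · rw [e, rgF, show Nat.blt k 21 = true by simp [Nat.blt_eq, h], cond_true, Fr.W_small, mul_assoc]
    conv_lhs => rw [← pow_one Fr.F]
    rw [← pow_mul, one_mul, Fr.H_F, one_mul, ← mul_assoc, ← pow_add]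
    rfl
  · rw [e, rgF, show Nat.blt k 21 = false by simp [Bool.eq_false_iff, Nat.blt_eq, h], cond_false,
      Fr.W_big, mul_assoc _ (Fr.F ^ _) Fr.F, ← pow_succ]
    rfl

theorem W_H {k : ℕ} (hk : k < 168) : Fr.W k * Fr.H = Fr.W (rgH k) := by
  rcases Fr.W_cases hk with ⟨h, e⟩ | ⟨h, e⟩
  · rw [e, rgH, show Nat.blt k 21 = true by simp [Nat.blt_eq, h], cond_true, Fr.W_small, mul_assoc,
      ← pow_succ]
    rfl
  · rw [e, rgH, show Nat.blt k 21 = false by simp [Bool.eq_false_iff, Nat.blt_eq, h], cond_false,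
      Fr.W_big, mul_assoc _ (Fr.F ^ _) Fr.H, Fr.F_H, ← mul_assoc, mul_assoc _ Fr.T Fr.H, Fr.T_H,
      ← mul_assoc, mul_assoc (Fr.F ^ _), ← pow_add]
    rfl

theorem W_T {k : ℕ} (hk : k < 168) :
    Fr.W k * Fr.T = z ^ (rgT t k).1 * Fr.W (rgT t k).2 := by
  rcases Fr.W_cases hk with ⟨h, e⟩ | ⟨h, e⟩
  · rw [e, rgT, show Nat.blt k 21 = true by simp [Nat.blt_eq, h], cond_true, Fr.W_big]
    simp only [pow_zero, mul_one, one_mul]
    rfl
  · have hr : rgT t k = bif Nat.beq (k / 21 - 1) 0 then (t, smallI (k % 21 / 3) (k % 21 % 3))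
        else (tftB t (k / 21 - 1), bigI (k % 21 / 3 + (tftI (k / 21 - 1)).1 * 2 ^ (k % 21 % 3))
          (k % 21 % 3 + (tftI (k / 21 - 1)).2.1) (tftI (k / 21 - 1)).2.2) := by
      rw [rgT, show Nat.blt k 21 = false by simp [Bool.eq_false_iff, Nat.blt_eq, h], cond_false]
      rfl
    rw [e, hr]
    have hc7 : k / 21 - 1 ≤ 6 := by omega
    generalize k / 21 - 1 = c at hc7 ⊢
    rcases Nat.eq_zero_or_pos c with rfl | hc
    · show _ = z ^ t * Fr.W (smallI (k % 21 / 3) (k % 21 % 3))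
      rw [Fr.W_small, pow_zero, mul_one, mul_assoc _ Fr.T Fr.T, Fr.T_sq,
        Fr.zc ((Fr.hFz.pow_left _).mul_left (Fr.hHz.pow_left _))]
    · rw [show Nat.beq c 0 = false by simp [Bool.eq_false_iff, Nat.beq_eq]; omega, cond_false]
      show _ = z ^ tftB t c * Fr.W (bigI (k % 21 / 3 + (tftI c).1 * 2 ^ (k % 21 % 3))
        (k % 21 % 3 + (tftI c).2.1) (tftI c).2.2)
      have h' := Fr.TFT hc hc7
      rw [Fr.W_big] at h' ⊢
      generalize k % 21 / 3 = a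
      generalize k % 21 % 3 = b
      calc Fr.F ^ a * Fr.H ^ b * Fr.T * Fr.F ^ c * Fr.T
          = Fr.F ^ a * Fr.H ^ b * (Fr.T * Fr.F ^ c * Fr.T) := by simp only [mul_assoc]
        _ = z ^ tftB t c * (Fr.F ^ a * Fr.H ^ b * (Fr.F ^ (tftI c).1 * Fr.H ^ (tftI c).2.1 *
              Fr.T * Fr.F ^ (tftI c).2.2)) := by
          rw [h', ← mul_assoc, Fr.zc ((Fr.hFz.pow_left _).mul_left (Fr.hHz.pow_left _)), mul_assoc]
        _ = _ := by
          rw [pow_add, pow_add]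
          simp only [mul_assoc]
          rw [← mul_assoc (Fr.H ^ b) (Fr.F ^ (tftI c).1), Fr.H_F]
          simp only [mul_assoc]

omit Fr in
theorem rg_lt (k : ℕ) : rgF k < 168 ∧ rgH k < 168 ∧ ∀ t, (rgT t k).2 < 168 := by
  have hs : ∀ a b, smallI a b < 168 := fun a b => by
    show 3 * (a % 7) + b % 3 < 168; omega
  have hb : ∀ a b c, bigI a b c < 168 := fun a b c => by
    show 21 * (c % 7 + 1) + 3 * (a % 7) + b % 3 < 168; omega
  unfold rgF rgH rgT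
  refine ⟨?_, ?_, fun t => ?_⟩
  all_goals cases Nat.blt k 21 <;> simp only [cond_true, cond_false] <;> first
    | exact hs _ _
    | exact hb _ _ _
    | (cases Nat.beq (Nat.sub (Nat.div k 21) 1) 0 <;> simp only [cond_true, cond_false] <;>
        first | exact hs _ _ | exact hb _ _ _)

/-- a power of `z` times a lift -/
def wz (p : ℕ × ℕ) : G := z ^ p.1 * Fr.W p.2

theorem fold_iter {s : ℕ × ℕ → ℕ × ℕ} {x : G}
    (hs : ∀ p, p.2 < 168 → (s p).2 < 168 ∧ Fr.wz p * x = Fr.wz (s p)) {p : ℕ × ℕ}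
    (hp : p.2 < 168) : ∀ n, (iterN s n p).2 < 168 ∧ Fr.wz p * x ^ n = Fr.wz (iterN s n p)
  | 0 => ⟨hp, by simp [iterN]⟩
  | n + 1 => by
    obtain ⟨h1, h2⟩ := fold_iter hs hp n
    obtain ⟨h3, h4⟩ := hs _ h1
    exact ⟨h3, by rw [pow_succ, ← mul_assoc, h2, h4, iterN]⟩

theorem W_mul {a b : ℕ} (ha : a < 168) (hb : b < 168) :
    Fr.W a * Fr.W b = z ^ coc t a b * Fr.W (pMul a b) := by
  have sF : ∀ p : ℕ × ℕ, p.2 < 168 → (stF p).2 < 168 ∧ Fr.wz p * Fr.F = Fr.wz (stF p) :=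
    fun p hp => ⟨(rg_lt _).1, by rw [wz, wz, mul_assoc, Fr.W_F hp]; rfl⟩
  have sH : ∀ p : ℕ × ℕ, p.2 < 168 → (stH p).2 < 168 ∧ Fr.wz p * Fr.H = Fr.wz (stH p) :=
    fun p hp => ⟨(rg_lt _).2.1, by rw [wz, wz, mul_assoc, Fr.W_H hp]; rfl⟩
  have sT : ∀ p : ℕ × ℕ, p.2 < 168 → (stT t p).2 < 168 ∧ Fr.wz p * Fr.T = Fr.wz (stT t p) :=
    fun p hp => ⟨(rg_lt _).2.2 t, by
      rw [wz, wz, mul_assoc, Fr.W_T hp, ← mul_assoc, ← pow_add]; rfl⟩
  have key : Fr.W a * Fr.W b = Fr.wz (foldW t a b) := by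
    have h0 : Fr.W a = Fr.wz (0, a) := by rw [wz, pow_zero, one_mul]
    rcases Fr.W_cases hb with ⟨h, e⟩ | ⟨h, e⟩
    · rw [e, h0, foldW, show Nat.blt b 21 = true by simp [Nat.blt_eq, h], cond_true, ← mul_assoc]
      obtain ⟨l1, e1⟩ := Fr.fold_iter sF (p := (0, a)) ha (b / 3)
      rw [e1, (Fr.fold_iter sH l1 (b % 3)).2]
      rfl
    · rw [e, h0, foldW, show Nat.blt b 21 = false by simp [Bool.eq_false_iff, Nat.blt_eq, h],
        cond_false]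
      obtain ⟨l1, e1⟩ := Fr.fold_iter sF (p := (0, a)) ha (b % 21 / 3)
      obtain ⟨l2, e2⟩ := Fr.fold_iter sH l1 (b % 21 % 3)
      obtain ⟨l3, e3⟩ := sT _ l2
      obtain ⟨-, e4⟩ := Fr.fold_iter sF l3 (b / 21 - 1)
      simp only [← mul_assoc]
      rw [e1, e2, e3, e4]
      rfl
  have h := allN_spec (allN_spec (allN_spec fold_check t Fr.ht) a ha) b hb
  simp only [Bool.and_eq_true] at h
  have h1 : coc t a b = (foldW t a b).1 % 2 := Nat.eq_of_beq_eq_true h.1.1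
  have h2 : pMul a b = (foldW t a b).2 := Nat.eq_of_beq_eq_true h.1.2
  rw [key, h1, h2, ← Fr.zpow_mod]
  rfl

theorem qAct_model (l q : ℕ) : qAct (2 * j + t) l q = qAct (2 * j) l q := by
  have hj := Fr.hj
  have ht := Fr.ht
  unfold qAct aTab
  interval_cases j <;> interval_cases t <;> rfl

theorem coc_model (a b : ℕ) : coc (2 * j + t) a b = coc t a b := by
  have ht := Fr.ht
  show (2 * j + t) % 2 * _ = t % 2 * _
  rw [show (2 * j + t) % 2 = t % 2 by omega]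

theorem W_conj {l : ℕ} (hl : l < 168) {q : ℕ} (hq : q < 128) :
    Fr.W l * ev z Fr.e q = ev z Fr.e (qAct (2 * j + t) l q) * Fr.W l := by
  rw [← mul_inv_eq_iff_eq_mul, Fr.qAct_model]
  have h : qAct (2 * j) l q = actW (2 * j) l q :=
    Nat.eq_of_beq_eq_true (allN_spec (allN_spec (allN_spec act_check j Fr.hj) l hl) q hq)
  rw [h]
  have cF : ∀ q, q < 128 → Fr.F * ev z Fr.e q * Fr.F⁻¹ = ev z Fr.e (qAct (2 * j) fN q) :=
    fun q hq => (Fr.conj_act hq).1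
  have cH : ∀ q, q < 128 → Fr.H * ev z Fr.e q * Fr.H⁻¹ = ev z Fr.e (qAct (2 * j) hN q) :=
    fun q hq => (Fr.conj_act hq).2.1
  rcases Fr.W_cases hl with ⟨h21, e⟩ | ⟨h21, e⟩
  · rw [e, actW, show Nat.blt l 21 = true by simp [Nat.blt_eq, h21], cond_true]
    obtain ⟨l1, e1⟩ := Fr.conj_iter (fun _ => qAct_lt _ _ _) cH hq (l % 3)
    obtain ⟨-, e2⟩ := Fr.conj_iter (fun _ => qAct_lt _ _ _) cF l1 (l / 3)
    refine Eq.trans ?_ e2
    rw [← e1]
    group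
  · rw [e, actW, show Nat.blt l 21 = false by simp [Bool.eq_false_iff, Nat.blt_eq, h21],
      cond_false]
    obtain ⟨l1, e1⟩ := Fr.conj_iter (fun _ => qAct_lt _ _ _) cF hq (l / 21 - 1)
    have e2 := (Fr.conj_act l1).2.2
    obtain ⟨l3, e3⟩ := Fr.conj_iter (fun _ => qAct_lt _ _ _) cH
      (qAct_lt (2 * j) tN (iterN (qAct (2 * j) fN) (l / 21 - 1) q)) (l % 21 % 3)
    obtain ⟨-, e4⟩ := Fr.conj_iter (fun _ => qAct_lt _ _ _) cF l3 (l % 21 / 3)
    refine Eq.trans ?_ e4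
    rw [← e3, ← e2, ← e1]
    group

/-- the element with a given number -/
def mval (m : ℕ) : G := ev z Fr.e (m / 168) * Fr.W (m % 168)

theorem mval_qN {q : ℕ} : Fr.mval (168 * q) = ev z Fr.e q := by
  rw [mval, show 168 * q / 168 = q by omega, show 168 * q % 168 = 0 by omega, W, if_pos (by norm_num)]
  simp

theorem mval_mul {m n : ℕ} (hm : m < 21504) (hn : n < 21504) :
    Fr.mval (mulN (2 * j + t) m n) = Fr.mval m * Fr.mval n := by
  have hq : qMul (m / 168) (qAct (2 * j + t) (m % 168) (n / 168)) < 128 :=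
    qMul_lt (by omega) (qAct_lt _ _ _)
  have hc := coc_lt t (m % 168) (n % 168)
  have hp := pMul_lt (m % 168) (n % 168)
  have hflip : ∀ q c : ℕ, q < 128 → c < 2 →
      ev z Fr.e (Nat.xor q (Nat.shiftLeft c 6)) = ev z Fr.e q * z ^ c := by
    intro q c hq hc
    interval_cases c
    · simp
    · rw [pow_one]
      have h : ∀ q, q < 128 → Nat.xor q (Nat.shiftLeft 1 6) = qMul q 64 := by
        intro q hq
        have := allN_spec (n := 128)
          (f := fun q => Nat.beq (Nat.xor q (Nat.shiftLeft 1 6)) (qMul q 64)) (by decide +kernel) q hq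
        exact Nat.eq_of_beq_eq_true this
      rw [h q hq, Fr.ev_mul hq (by norm_num), ev_sixtyfour]
  show Fr.mval (Nat.xor (qMul (m / 168) (qAct (2 * j + t) (m % 168) (n / 168)))
      (Nat.shiftLeft (coc (2 * j + t) (m % 168) (n % 168)) 6) * 168 +
        pMul (m % 168) (n % 168)) = _
  rw [Fr.coc_model]
  set q := qMul (m / 168) (qAct (2 * j + t) (m % 168) (n / 168)) with hqdef
  rw [mval, show ∀ a : ℕ, (a * 168 + pMul (m % 168) (n % 168)) / 168 = a from fun a => by omega,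
    show ∀ a : ℕ, (a * 168 + pMul (m % 168) (n % 168)) % 168 = pMul (m % 168) (n % 168) from
      fun a => by omega, hflip q _ hq hc, hqdef, Fr.ev_mul (by omega) (qAct_lt _ _ _)]
  show _ = ev z Fr.e (m / 168) * Fr.W (m % 168) * (ev z Fr.e (n / 168) * Fr.W (n % 168))
  rw [mul_assoc (ev z Fr.e (m / 168)) (Fr.W _), ← mul_assoc (Fr.W (m % 168)),
    Fr.W_conj (Nat.mod_lt _ (by norm_num)) (by omega), mul_assoc _ (Fr.W (m % 168)),
    Fr.W_mul (Nat.mod_lt _ (by norm_num)) (Nat.mod_lt _ (by norm_num))]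
  simp only [mul_assoc]

theorem mval_zN : Fr.mval zN = z := by
  rw [show zN = 168 * 64 from rfl, Fr.mval_qN, ev_sixtyfour]

variable [Finite G]

/-- The elements with a number form the centraliser. -/
theorem range_mval : ∀ g : G, g * z = z * g ↔ ∃ m < 21504, Fr.mval m = g := by
  have hone : Fr.mval 0 = 1 := by rw [show (0 : ℕ) = 168 * 0 from rfl, Fr.mval_qN, ev_zero]
  have hval : ∀ m, Commute (Fr.mval m) z := fun m => by
    refine Commute.mul_left ?_ (Fr.W_z _)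
    unfold ev
    exact (((((((Fr.hez 0).pow_left _).mul_left ((Fr.hez 1).pow_left _)).mul_left
      ((Fr.hez 2).pow_left _)).mul_left ((Fr.hez 3).pow_left _)).mul_left
      ((Fr.hez 4).pow_left _)).mul_left ((Fr.hez 5).pow_left _)).mul_left
      ((Commute.refl z).pow_left _)
  intro g
  refine ⟨fun hg => ?_, fun ⟨m, _, e⟩ => e ▸ hval m⟩
  let P : Submonoid G :=
    { carrier := {g | ∃ m < 21504, Fr.mval m = g}
      one_mem' := ⟨0, by norm_num, hone⟩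
      mul_mem' := by
        rintro _ _ ⟨m, hm, rfl⟩ ⟨n, hn, rfl⟩
        exact ⟨_, mulN_lt hm _ _, Fr.mval_mul hm hn⟩ }
  have hgen : ({z, Fr.F, Fr.H, Fr.T} ∪ Set.range Fr.e : Set G) ⊆ P := by
    rintro x (hx | ⟨i, rfl⟩)
    · simp only [Set.mem_insert_iff, Set.mem_singleton_iff] at hx
      rcases hx with rfl | rfl | rfl | rfl
      · exact ⟨zN, by decide, Fr.mval_zN⟩
      · exact ⟨3, by norm_num, by simp [mval, ev, W]⟩
      · exact ⟨1, by norm_num, by simp [mval, ev, W]⟩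
      · exact ⟨21, by norm_num, by simp [mval, ev, W]⟩
    · exact ⟨168 * 2 ^ i.val, by fin_cases i <;> norm_num, by rw [Fr.mval_qN, Fr.ev_single]⟩
  have hg' := Subgroup.mem_centralizer_singleton_iff.2 hg
  rw [Fr.gen, ← Subgroup.mem_toSubmonoid, Subgroup.closure_toSubmonoid_of_finite] at hg'
  exact (Submonoid.closure_le.2 hgen) hg'

end Frame

/-- **A2**: a frame yields the model. -/
theorem exists_cen_of_frame : StmtModel.{u} := by
  intro G _ _ z j t Fr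
  have hsurj : Function.Surjective (fun m : Fin 21504 =>
      (⟨Fr.mval m, Subgroup.mem_centralizer_singleton_iff.2
        ((Fr.range_mval _).2 ⟨m, m.isLt, rfl⟩)⟩ : Subgroup.centralizer ({z} : Set G))) := by
    rintro ⟨g, hg⟩
    obtain ⟨m, hm, e⟩ := (Fr.range_mval g).1 (Subgroup.mem_centralizer_singleton_iff.1 hg)
    exact ⟨⟨m, hm⟩, Subtype.ext e⟩
  have hbij := hsurj.bijective_of_nat_card_le (by rw [Fr.card, Nat.card_fin])
  have hj := Fr.hj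
  have ht := Fr.ht
  exact ⟨{
    hk := by omega
    ord := Fr.ord
    val := Fr.mval
    val_mul := fun m n hm hn => Fr.mval_mul hm hn
    val_comm := fun m hm => (Fr.range_mval _).2 ⟨m, hm, rfl⟩
    val_inj := fun m n hm hn h =>
      congrArg Fin.val (@hbij.1 ⟨m, hm⟩ ⟨n, hn⟩ (Subtype.ext h))
    val_surj := fun g hg => (Fr.range_mval g).1 hg
    val_z := Fr.mval_zN }⟩

end CfsgLib.Spor.HeRecog
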