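import Cfsg.Agent.Lib.Spor.SuzRecog.L34Model

/-!
Configurations of involutions in `PSL(3,4)`: the finite checks on matrices coded as numbers.
-/

set_option autoImplicit false
set_option maxRecDepth 100000

namespace CfsgLib.Spor.HeRecog.L34

open CfsgLib.Spor.SuzRecog.L34

/-- the product has order three -/
def o3 (a b : ℕ) : Bool :=
  pe (pwM (mulM a b) 3) oneM && !pe (mulM a b) oneM

/-- the involutions whose product with the standard one has order three -/
def dL : List ℕ :=
  [69889, 86273, 102657, 119041, 4368, 20756, 37144, 53532, 69953, 21569, 236353, 187969, 86084,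
   5456, 252524, 171896, 118924, 6544, 237224, 153524, 102600, 7632, 218852, 187388, 135458,
   168230, 184618, 151854, 70081, 251841, 154305, 40129, 86734, 234710, 137698, 57338, 119370,
   219230, 138594, 38774, 103046, 253082, 136610, 23486, 201011, 250167, 217403, 233791, 70017,
   169601, 55425, 221057, 86923, 185495, 39599, 204211, 119751, 170207, 24299, 202227, 103247,
   154715, 54887, 203123]

/-- the list is complete -/
def dChk : Bool :=
  (List.range 64).all fun v => (List.range 64).all fun u => !invOK v u ||
    (!o3 (invM v u) zM || dL.any fun d => Nat.beq d (invM v u))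

/-- conjugates of the first solution -/
def conjsM (D C : ℕ) : List ℕ :=
  [D, mulM (mulM zM D) zM, mulM (mulM C D) C, mulM (mulM (mulM C zM) D) (mulM zM C)]

/-- the solutions for a pair -/
def solM (F G : ℕ) : List ℕ := dL.filter fun D => o3 D F && o3 D G

/-- the first solution works -/
def firstOK (F G C D : ℕ) : Bool :=
  Nat.beq (detM D % 4) 1 && pe (mulM D D) oneM && !pe D oneM && o3 D zM && o3 D F && o3 D G &&
    !pe (mulM (mulM zM D) zM) D && !pe (mulM (mulM C D) C) D &&
    !pe (mulM (mulM C D) C) (mulM (mulM zM D) zM)

/-- every solution works -/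
def solOK (F G C : ℕ) (Ds : List ℕ) : Bool :=
  firstOK F G C (Ds.getD 0 oneM) &&
    Ds.all fun D => (conjsM (Ds.getD 0 oneM) C).any (fun E => pe D E) &&
      (pe (pwM (mulM C D) 5) oneM && !pe (mulM C D) oneM &&
        pe (pwM (mulM (mulM (mulM C D) F) G) 4) oneM)

/-- all configurations in the centraliser -/
def pairChk : Bool :=
  (List.range 64).all fun f => !pe (mulM (uM f) (uM f)) oneM || (List.range 64).all fun g =>
    !(pe (mulM (uM g) (uM g)) oneM && pe (pwM (mulM (uM f) (uM g)) 2) zM) ||
      (List.range 64).all fun c =>
        !(pe (mulM (uM c) (uM c)) oneM && !pe (uM c) oneM && !pe (uM c) zM &&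
          pe (mulM (uM f) (uM c)) (mulM (uM c) (uM f)) &&
          pe (mulM (uM g) (uM c)) (mulM (uM c) (uM g))) ||
        solOK (uM f) (uM g) (uM c) (solM (uM f) (uM g))

theorem dChk_true : dChk = true := by decide +kernel

theorem pairChk_true : pairChk = true := by decide +kernel

end CfsgLib.Spor.HeRecog.L34
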