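import Cfsg.Agent.Lib.Spor.HeRecog.Interface
import Cfsg.Agent.Lib.Spor.HeRecog.L34ConfigCheck
import Cfsg.Agent.Lib.Spor.SuzRecog.L34Check

/-!
In `PSL(3,4)` a pair of involutions generating a group of order eight and a further involution
centralising both determine the four involutions forming products of order three with the pair and
its central involution.
-/

set_option autoImplicit false

namespace CfsgLib.Spor.HeRecog

open CfsgLib.Spor CfsgLib.Spor.SuzRecog.L34

namespace L34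

variable {X : Type*} [Group X] {φ : X ≃* PP}

theorem o3_iff {x y : X} {m n : ℕ} (hx : Rep φ x m) (hy : Rep φ y n) :
    o3 m n = true ↔ orderOf (x * y) = 3 := by
  haveI : Fact (Nat.Prime 3) := ⟨Nat.prime_three⟩
  rw [o3, Bool.and_eq_true, Rep.pe_iff ((hx.mul hy).pow 3) Rep.one, Bool.not_eq_true',
    ← Bool.not_eq_true, Rep.pe_iff (hx.mul hy) Rep.one]
  constructor
  · exact fun h => orderOf_eq_prime h.1 h.2
  · intro h
    refine ⟨by rw [← h]; exact pow_orderOf_eq_one _, fun h1 => ?_⟩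
    rw [h1, orderOf_one] at h
    exact absurd h (by norm_num)

theorem false_of_rep {x y : X} {m n : ℕ} (hx : Rep φ x m) (hy : Rep φ y n) (h : x ≠ y) :
    pe m n = false := Bool.eq_false_iff.2 fun e => h ((Rep.pe_iff hx hy).1 e)

theorem ne_of_rep {x y : X} {m n : ℕ} (hx : Rep φ x m) (hy : Rep φ y n) (h : (!pe m n) = true) :
    x ≠ y := by
  intro e
  rw [(Rep.pe_iff hx hy).2 e] at h
  exact Bool.noConfusion h

theorem comm_of_sq {f g e : X} (hf : f * f = 1) (hg : g * g = 1) (he : e = f * g * (f * g))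
    (hee : e * e = 1) : e * f = f * e ∧ e * g = g * e := by
  have hi : e⁻¹ = e := inv_eq_of_mul_eq_one_right hee
  have hi' : e = g * f * (g * f) := by
    rw [← hi, he, mul_inv_rev, mul_inv_rev, inv_eq_of_mul_eq_one_right hf,
      inv_eq_of_mul_eq_one_right hg]
  refine ⟨?_, ?_⟩
  · calc e * f = f * g * (f * g) * f := by rw [he]
      _ = f * (g * f * (g * f)) := by group
      _ = f * e := by rw [← hi']
  · calc e * g = g * f * (g * f) * g := by rw [← hi']
      _ = g * (f * g * (f * g)) := by group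
      _ = g * e := by rw [← he]

end L34

universe u

open L34 in
/-- Piece E: a configuration of involutions of `L₃(4)`. -/
theorem l34_config : StmtL34.{u} := by
  intro X _ _ hX f g c e hf hg hc he hee he1 hc1 hce hcf hcg
  obtain ⟨K, _, _, hK, ⟨ε⟩⟩ := hX
  have hq : Fintype.card K = Fintype.card CfsgLib.Spor.QField := by rw [hK]; decide +kernel
  obtain ⟨ε'⟩ := CfsgLib.PSL2.nonempty_psl_congr (n := Fin 3) (FiniteField.ringEquivOfCardEq hq)
  obtain ⟨φ, hz⟩ := exists_normal (ε.trans ε') hee he1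
  obtain ⟨hef, heg⟩ := comm_of_sq hf hg he hee
  have hec : e * c = c * e := by
    have h1 : Commute c (f * g) := Commute.mul_right hcf hcg
    rw [he]; exact (h1.mul_right h1).symm.eq
  have rz : Rep φ e zM := rep_z0 hz
  obtain ⟨i, hi, rf⟩ := exists_uM hz hef
  obtain ⟨j, hj, rg⟩ := exists_uM hz heg
  obtain ⟨l, hl, rc⟩ := exists_uM hz hec
  have t := imp (any_all pairChk_true hi) ((Rep.pe_iff (rf.mul rf) Rep.one).2 hf)
  have t := imp (any_all t hj) (and_intro ((Rep.pe_iff (rg.mul rg) Rep.one).2 hg)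
    ((Rep.pe_iff ((rf.mul rg).pow 2) rz).2 (by rw [pow_two, he])))
  have t := imp (any_all t hl) (and_intro (and_intro (and_intro (and_intro
    ((Rep.pe_iff (rc.mul rc) Rep.one).2 hc) (not_intro (false_of_rep rc Rep.one hc1)))
    (not_intro (false_of_rep rc rz hce))) ((Rep.pe_iff (rf.mul rc) (rc.mul rf)).2 hcf.symm))
    ((Rep.pe_iff (rg.mul rc) (rc.mul rg)).2 hcg.symm))
  rw [solOK, Bool.and_eq_true] at t
  obtain ⟨tfirst, tall⟩ := t
  generalize hD0 : (solM (uM i) (uM j)).getD 0 oneM = D0 at tfirst tall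
  simp only [firstOK, Bool.and_eq_true, Nat.beq_eq] at tfirst
  obtain ⟨⟨⟨⟨⟨⟨⟨⟨tdet, t1⟩, t2⟩, t3⟩, t4⟩, t5⟩, t6⟩, t7⟩, t8⟩ := tfirst
  obtain ⟨d0, rd0⟩ := rep_of_code φ tdet
  have re0 := (rz.mul rd0).mul rz
  have rc0 := (rc.mul rd0).mul rc
  have rce0 := ((rc.mul rz).mul rd0).mul (rz.mul rc)
  have key : ∀ d : X, d * d = 1 → d ≠ 1 → orderOf (d * e) = 3 → orderOf (d * f) = 3 →
      orderOf (d * g) = 3 →
      (d = d0 ∨ d = e * d0 * e ∨ d = c * d0 * c ∨ d = c * e * d0 * (e * c)) ∧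
        orderOf (c * d) = 5 ∧ (c * d * f * g) ^ 4 = 1 := by
    intro d hd hd1 hde hdf hdg
    obtain ⟨v, u, hv, hu, hok, rd⟩ := exists_involution (φ := φ) hd hd1
    have h := any_all (any_all dChk_true hv) hu
    rw [hok, (o3_iff rd rz).2 hde] at h
    simp only [Bool.not_true, Bool.false_or, List.any_eq_true, Nat.beq_eq] at h
    obtain ⟨m, hm, rfl⟩ := h
    have hmem : invM v u ∈ solM (uM i) (uM j) :=
      List.mem_filter.2 ⟨hm, and_intro ((o3_iff rd rf).2 hdf) ((o3_iff rd rg).2 hdg)⟩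
    have h2 := List.all_eq_true.1 tall _ hmem
    simp only [Bool.and_eq_true, List.any_eq_true, conjsM, List.mem_cons, List.not_mem_nil,
      or_false] at h2
    obtain ⟨⟨E, hE, hEd⟩, ⟨h5, h5'⟩, h4⟩ := h2
    refine ⟨?_, ?_, ?_⟩
    · rcases hE with rfl | rfl | rfl | rfl
      · exact Or.inl ((Rep.pe_iff rd rd0).1 hEd)
      · exact Or.inr (Or.inl ((Rep.pe_iff rd re0).1 hEd))
      · exact Or.inr (Or.inr (Or.inl ((Rep.pe_iff rd rc0).1 hEd)))
      · exact Or.inr (Or.inr (Or.inr ((Rep.pe_iff rd rce0).1 hEd)))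
    · haveI : Fact (Nat.Prime 5) := ⟨by norm_num⟩
      exact orderOf_eq_prime ((Rep.pe_iff ((rc.mul rd).pow 5) Rep.one).1 h5)
        (ne_of_rep (rc.mul rd) Rep.one h5')
    · exact (Rep.pe_iff ((((rc.mul rd).mul rf).mul rg).pow 4) Rep.one).1 h4
  exact ⟨d0, (Rep.pe_iff (rd0.mul rd0) Rep.one).1 t1, ne_of_rep rd0 Rep.one t2,
    (o3_iff rd0 rz).1 t3, (o3_iff rd0 rf).1 t4, (o3_iff rd0 rg).1 t5,
    fun d h1 h2 h3 h4 h5 => (key d h1 h2 h3 h4 h5).1, ne_of_rep re0 rd0 t6, ne_of_rep rc0 rd0 t7,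
    ne_of_rep rc0 re0 t8, fun d h1 h2 h3 h4 h5 => (key d h1 h2 h3 h4 h5).2⟩

end CfsgLib.Spor.HeRecog
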