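import Cfsg.Agent.Lib.Spor.SuzRecog.L34Check
import Cfsg.Agent.Lib.Small.SuzOrder.Four.Quot
import Cfsg.Agent.Lib.Recog.CIT.SimpleNormal

/-!
A group with a self-contained nonabelian Sylow two-subgroup of order `64`, generated by
involutions, that is the centraliser of an involution to which every involution is conjugate,
is `PSL(3,4)`.
-/

set_option autoImplicit false
set_option linter.unusedSectionVars false
set_option linter.style.haveILetI false

namespace CfsgLib.Spor.HeRecog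

open Subgroup CfsgLib.Spor

universe u

/-- In `PSL(3,4)` all involutions are conjugate. -/
theorem l34_trans {X : Type*} [Group X] (h : Recog.CIT.IsL34 X) {x y : X} (hx : x * x = 1)
    (hx1 : x ≠ 1) (hy : y * y = 1) (hy1 : y ≠ 1) : ∃ p : X, p * x = y * p := by
  obtain ⟨K, _, _, hK, ⟨ε⟩⟩ := h
  have hq : Fintype.card K = Fintype.card QField := by rw [hK]; decide +kernel
  obtain ⟨ε'⟩ := CfsgLib.PSL2.nonempty_psl_congr (n := Fin 3) (FiniteField.ringEquivOfCardEq hq)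
  set φ := ε.trans ε'
  obtain ⟨w, hw⟩ : ∃ w : X, φ w = SuzRecog.L34.z0 :=
    ⟨φ.symm SuzRecog.L34.z0, φ.apply_symm_apply _⟩
  have key : ∀ a : X, a * a = 1 → a ≠ 1 → ∃ p : X, p * w = a * p := by
    intro a ha ha1
    obtain ⟨v, u, hv, hu, hok, hrep⟩ := SuzRecog.L34.exists_involution (φ := φ) ha ha1
    have h := SuzRecog.L34.any_all (SuzRecog.L34.any_all SuzRecog.L34.invChk_true hv) hu
    rw [Bool.or_eq_true, List.any_eq_true] at h
    rcases h with h | ⟨⟨k, P⟩, -, h⟩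
    · rw [hok] at h; exact Bool.noConfusion h
    simp only [Bool.and_eq_true, Nat.beq_eq] at h
    obtain ⟨-, heq, hdet⟩ := h
    obtain ⟨p, hp⟩ := SuzRecog.L34.rep_of_code φ (n := P) (by omega)
    refine ⟨p, (SuzRecog.L34.Rep.pe_iff (hp.mul (SuzRecog.L34.rep_z0 hw)) (hrep.mul hp)).1 ?_⟩
    simp [SuzRecog.L34.pe, heq]
  obtain ⟨p, hp⟩ := key x hx hx1
  obtain ⟨q, hq'⟩ := key y hy hy1
  refine ⟨q * p⁻¹, ?_⟩
  calc q * p⁻¹ * x = q * p⁻¹ * (x * p) * p⁻¹ := by group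
    _ = q * w * p⁻¹ := by rw [← hp]; group
    _ = y * (q * p⁻¹) := by rw [hq']; group

/-- An involution `τ` whose centraliser is the nonabelian Sylow two-subgroup `P` of order `64`. -/
structure KData {K : Type u} [Group K] (P : Subgroup K) (τ : K) : Prop where
  card_P : Nat.card P = 64
  not_128 : ¬ 128 ∣ Nat.card K
  sq : τ * τ = 1
  ne : τ ≠ 1
  cent : ∀ k : K, k * τ = τ * k ↔ k ∈ P
  conj : ∀ k : K, k * k = 1 → k ≠ 1 → ∃ c, c * τ * c⁻¹ = k
  gen : P ≤ Subgroup.closure {x | x ∈ P ∧ x * x = 1}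
  nab : ∃ a ∈ P, ∃ b ∈ P, a * b ≠ b * a

namespace KData

variable {K : Type u} [Group K] [Finite K] {P : Subgroup K} {τ : K} (h : KData P τ)
include h

theorem cit : Recog.CIT.CIT K := by
  intro t ht k
  obtain ⟨c, rfl⟩ := h.conj t (by rw [← pow_two, ← ht, pow_orderOf_eq_one])
    fun e => by rw [e, orderOf_one] at ht; omega
  have hc : (k : K) * (c * τ * c⁻¹) = c * τ * c⁻¹ * k :=
    mem_centralizer_singleton_iff.1 k.2
  have hP : c⁻¹ * k * c ∈ P := (h.cent _).1 (by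
    calc c⁻¹ * k * c * τ = c⁻¹ * ((k : K) * (c * τ * c⁻¹)) * c := by group
      _ = c⁻¹ * (c * τ * c⁻¹ * k) * c := by rw [hc]
      _ = τ * (c⁻¹ * k * c) := by group)
  have e : (⟨_, hP⟩ : P) ^ 64 = 1 := by rw [← h.card_P]; exact pow_card_eq_one'
  have e' : (c⁻¹ * (k : K) * c⁻¹⁻¹) ^ 64 = 1 := by
    rw [inv_inv]; exact congrArg Subtype.val e
  rw [conj_pow, conj_eq_one_iff] at e'
  exact ⟨6, Subtype.ext (by rw [show (2 : ℕ) ^ 6 = 64 from rfl]; simpa using e')⟩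

/-- A noncentral involution of `P`. -/
theorem exists_noncentral : ∃ x ∈ P, x * x = 1 ∧ x ≠ 1 ∧ ∃ g ∈ P, g * x ≠ x * g := by
  by_contra hno
  push Not at hno
  obtain ⟨a, ha, b, hb, hab⟩ := h.nab
  have hle : Subgroup.closure {x | x ∈ P ∧ x * x = 1} ≤ centralizer (P : Set K) := by
    refine (closure_le _).2 fun x hx => mem_centralizer_iff.2 fun g hg => ?_
    rcases eq_or_ne x 1 with rfl | hx1
    · simp
    · exact hno x hx.1 hx.2 hx1 g hg
  exact hab (mem_centralizer_iff.1 (hle (h.gen hb)) a ha)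

theorem orderOf_invol {x : K} (hx : x * x = 1) (hx1 : x ≠ 1) : orderOf x = 2 := by
  haveI : Fact (Nat.Prime 2) := ⟨Nat.prime_two⟩
  exact orderOf_eq_prime (by rw [pow_two, hx]) hx1

theorem odd_normal {N : Subgroup K} [N.Normal] (ho : Odd (Nat.card N)) : N = ⊥ := by
  obtain ⟨σ, hσP, hσ, hσ1, g, hg, hgσ⟩ := h.exists_noncentral
  have hst : σ * τ = τ * σ := (h.cent σ).2 hσP
  have hne : σ * τ ≠ 1 := fun e => by
    have e' : σ = τ := by
      calc σ = σ * (τ * τ) := by rw [h.sq, mul_one]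
        _ = σ * τ * τ := by group
        _ = τ := by rw [e, one_mul]
    exact hgσ (e' ▸ (h.cent g).2 hg)
  have hsq : σ * τ * (σ * τ) = 1 := by
    calc σ * τ * (σ * τ) = σ * (τ * σ) * τ := by group
      _ = (σ * σ) * (τ * τ) := by rw [← hst]; group
      _ = 1 := by rw [hσ, h.sq, one_mul]
  refine (eq_bot_iff_forall N).2 fun x hx => ?_
  have hn : ∀ s : K, s ∈ normalizer (N : Set K) := fun s => by
    rw [normalizer_eq_top]; exact mem_top _
  have h1 := h.cit.inv_of_odd ho (h.orderOf_invol h.sq h.ne) (hn _) hx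
  have h2 := h.cit.inv_of_odd ho (h.orderOf_invol hσ hσ1) (hn _) (inv_mem hx)
  have h3 := h.cit.inv_of_odd ho (h.orderOf_invol hsq hne) (hn _) hx
  rw [inv_inv] at h2
  have e : x = x⁻¹ := by
    calc x = σ * (τ * x * τ⁻¹) * σ⁻¹ := by rw [h1, h2]
      _ = σ * τ * x * (σ * τ)⁻¹ := by group
      _ = x⁻¹ := h3
  refine Recog.CIT.eq_one_of_odd_isTwo (Recog.CIT.odd_orderOf_of_mem ho hx) ⟨1, ?_⟩
  rw [pow_one, pow_two]
  exact mul_eq_one_iff_eq_inv.2 e

theorem invol_mem {N : Subgroup K} [hN : N.Normal] (hne : N ≠ ⊥) {k : K} (hk : k * k = 1) :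
    k ∈ N := by
  rcases eq_or_ne k 1 with rfl | hk1
  · exact one_mem _
  haveI : Fact (Nat.Prime 2) := ⟨Nat.prime_two⟩
  have he : 2 ∣ Nat.card N := by
    by_contra h2
    exact hne (h.odd_normal (Nat.not_even_iff_odd.1 fun he => h2 he.two_dvd))
  obtain ⟨t, ht⟩ := exists_prime_orderOf_dvd_card' (G := N) 2 he
  rw [← Subgroup.orderOf_coe] at ht
  obtain ⟨c, hc⟩ := h.conj k hk hk1
  obtain ⟨d, hd⟩ := h.conj (t : K) (by rw [← pow_two, ← ht, pow_orderOf_eq_one])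
    fun e => by rw [e, orderOf_one] at ht; omega
  have e : k = c * d⁻¹ * (t : K) * (c * d⁻¹)⁻¹ := by rw [← hc, ← hd]; group
  rw [e]
  exact hN.conj_mem _ t.2 _

theorem P_le {N : Subgroup K} [N.Normal] (hne : N ≠ ⊥) : P ≤ N :=
  h.gen.trans ((closure_le _).2 fun _ hx => h.invol_mem hne hx.2)

theorem isPGroup_P : IsPGroup 2 P :=
  IsPGroup.of_card (n := 6) (by rw [h.card_P]; norm_num)

theorem core : Cfsg.pCore 2 K = ⊥ := by
  by_contra hne
  haveI : Fact (Nat.Prime 2) := ⟨Nat.prime_two⟩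
  obtain ⟨x, hxP, hx, hx1, g, hg, hgx⟩ := h.exists_noncentral
  set O := Cfsg.pCore 2 K with hO
  haveI : O.Normal := Cfsg.pCore_normal 2 K
  have hle : P ≤ O := h.P_le hne
  obtain ⟨n, hn⟩ := (Base.isPGroup_pCore 2 K).exists_card_eq
  have hn6 : n ≤ 6 := by
    by_contra h7
    refine h.not_128 ((dvd_trans ?_ (O.card_subgroup_dvd_card)))
    rw [hn]
    exact (show (128 : ℕ) = 2 ^ 7 from rfl) ▸ pow_dvd_pow 2 (by omega)
  have e : P = O := eq_of_le_of_card_ge hle (by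
    rw [hn, h.card_P]
    exact (Nat.pow_le_pow_right (by norm_num) hn6).trans (le_of_eq (by norm_num)))
  obtain ⟨c, hc⟩ := h.conj x hx hx1
  have hnP : P.Normal := e ▸ inferInstance
  have h2 : c⁻¹ * g * c ∈ P := by
    have := hnP.conj_mem g hg c⁻¹
    rwa [inv_inv] at this
  have h3 := (h.cent _).2 h2
  refine hgx ?_
  calc g * x = c * (c⁻¹ * g * c * τ) * c⁻¹ := by rw [← hc]; group
    _ = c * (τ * (c⁻¹ * g * c)) * c⁻¹ := by rw [h3]
    _ = x * g := by rw [← hc]; group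

theorem not_solvable : ¬ Group.IsSolvable K := by
  intro hs
  haveI : Nontrivial K := ⟨τ, 1, h.ne⟩
  obtain ⟨E, hE⟩ := Base.exists_isMinimalNormal (G := K)
  haveI := hE.normal
  haveI := hs
  obtain ⟨p, hp, -, -, hP⟩ := hE.exists_prime
    (Group.isSolvable_of_isSolvable_injective E.subtype_injective)
  haveI := Fact.mk hp
  rcases hp.eq_two_or_odd' with rfl | ho
  · exact hE.ne_bot (le_bot_iff.1 (h.core ▸ Base.le_pCore hP))
  · obtain ⟨k, hk⟩ := hP.exists_card_eq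
    exact hE.ne_bot (h.odd_normal (by rw [hk]; exact ho.pow))

theorem isL34 : Recog.CIT.IsL34 K := by
  haveI : Fact (Nat.Prime 2) := ⟨Nat.prime_two⟩
  obtain ⟨E, hEn, hEs, hEab, -⟩ :=
    Recog.CIT.exists_simple_normal h.cit h.not_solvable h.core
  haveI := hEn
  haveI := hEs
  have hne : E ≠ ⊥ := by
    rintro rfl
    obtain ⟨a, b, hab⟩ := hEab
    exact hab (Subsingleton.elim _ _)
  have hPE : P ≤ E := h.P_le hne
  have hL : Recog.CIT.IsL34 E := by
    rcases Recog.CIT.known_of_cit hEab (h.cit.subgroup E) with ⟨⟨S, D, q, hS⟩, -⟩ | ho | hl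
    · exfalso
      obtain ⟨x, hx, hxx, -, g, hg, hgx⟩ := h.exists_noncentral
      have hP : IsPGroup 2 (P.subgroupOf E) :=
        h.isPGroup_P.comap_of_injective E.subtype E.subtype_injective
      obtain ⟨R, hR⟩ := hP.exists_le_sylow
      obtain ⟨R', hR'⟩ := hS.isP.exists_le_sylow
      obtain ⟨c, hc⟩ := MulAction.exists_smul_eq E R R'
      have hmem : ∀ k ∈ P.subgroupOf E, c * k * c⁻¹ ∈ S := fun k hk => by
        have h' : c * k * c⁻¹ ∈ (c • R : Sylow 2 E) := by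
          rw [Sylow.smul_def]; exact ⟨k, hR hk, rfl⟩
        rw [hc] at h'
        rw [← hS.maxP R' R'.isPGroup' hR']
        exact h'
      have hxS := hmem ⟨x, hPE hx⟩ hx
      have hgS := hmem ⟨g, hPE hg⟩ hg
      have e := hS.central _ hxS (by
        calc c * ⟨x, hPE hx⟩ * c⁻¹ * (c * ⟨x, hPE hx⟩ * c⁻¹)
            = c * (⟨x, hPE hx⟩ * ⟨x, hPE hx⟩) * c⁻¹ := by group
          _ = 1 := by
            rw [show (⟨x, hPE hx⟩ * ⟨x, hPE hx⟩ : E) = 1 from Subtype.ext hxx, mul_one,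
              mul_inv_cancel]) _ hgS
      refine hgx (congrArg Subtype.val (show
        (⟨g, hPE hg⟩ : E) * ⟨x, hPE hx⟩ = ⟨x, hPE hx⟩ * ⟨g, hPE hg⟩ from ?_))
      calc (⟨g, hPE hg⟩ : E) * ⟨x, hPE hx⟩
          = c⁻¹ * (c * ⟨g, hPE hg⟩ * c⁻¹ * (c * ⟨x, hPE hx⟩ * c⁻¹)) * c := by group
        _ = c⁻¹ * (c * ⟨x, hPE hx⟩ * c⁻¹ * (c * ⟨g, hPE hg⟩ * c⁻¹)) * c := by rw [e]
        _ = ⟨x, hPE hx⟩ * ⟨g, hPE hg⟩ := by group
    · exfalso
      refine Small.SuzOrder.oddType_two ho ⟨?_, fun hd => h.not_128 (hd.trans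
        E.card_subgroup_dvd_card)⟩
      rw [← h.card_P]
      exact card_dvd_of_le hPE
    · exact hl
  have hτ : τ ∈ E := h.invol_mem hne h.sq
  have htop : E = ⊤ := (eq_top_iff' E).2 fun k => by
    have hkE : k * τ * k⁻¹ ∈ E := hEn.conj_mem _ hτ _
    obtain ⟨p, hp⟩ := l34_trans hL (x := ⟨τ, hτ⟩) (y := ⟨_, hkE⟩) (Subtype.ext h.sq)
      (fun e => h.ne (congrArg Subtype.val e)) (Subtype.ext (by
        show k * τ * k⁻¹ * (k * τ * k⁻¹) = 1
        calc k * τ * k⁻¹ * (k * τ * k⁻¹) = k * (τ * τ) * k⁻¹ := by group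
          _ = 1 := by rw [h.sq, mul_one, mul_inv_cancel]))
      (fun e => h.ne (conj_eq_one_iff.1 (congrArg Subtype.val e)))
    have hp' : (p : K) * τ = k * τ * k⁻¹ * p := congrArg Subtype.val hp
    have h2 : (p : K)⁻¹ * k ∈ P := (h.cent _).1 (by
      calc (p : K)⁻¹ * k * τ = (p : K)⁻¹ * (k * τ * k⁻¹ * p) * ((p : K)⁻¹ * k) := by group
        _ = (p : K)⁻¹ * (p * τ) * ((p : K)⁻¹ * k) := by rw [hp']
        _ = τ * ((p : K)⁻¹ * k) := by group)
    simpa using mul_mem p.2 (hPE h2)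
  obtain ⟨F, iF, jF, hF, ⟨e⟩⟩ := hL
  exact ⟨F, iF, jF, hF, ⟨(Subgroup.topEquiv.symm.trans
    (MulEquiv.subgroupCongr htop.symm)).trans e⟩⟩

end KData

end CfsgLib.Spor.HeRecog
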