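import Cfsg.Agent.Lib.Spor.HeRecog.UQuotData
import Cfsg.Agent.Lib.Spor.HeRecog.UQuotSimple

/-!
The centraliser of the four-group modulo it is `PSL(3,4)` (quotient half of step D).
-/

set_option autoImplicit false
set_option linter.unusedSectionVars false
set_option linter.style.haveILetI false

namespace CfsgLib.Spor.HeRecog

open Subgroup

universe u

variable {G : Type u} [Group G] {z u v : G} {T0 : Subgroup G}

/-- the four-group as a subgroup of its centraliser -/
def fourSub (u v : G) : Subgroup (fourCent u v) :=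
  (Subgroup.closure ({u, v} : Set G)).subgroupOf (fourCent u v)

instance fourSub_normal (u v : G) : (fourSub u v).Normal := ⟨fun a ha m => by
  show (m : G) * (a : G) * (m : G)⁻¹ ∈ Subgroup.closure ({u, v} : Set G)
  have hc : Subgroup.closure ({u, v} : Set G) ≤ centralizer ({(m : G)} : Set G) :=
    (closure_le _).2 fun x hx => mem_centralizer_singleton_iff.2
      (mem_centralizer_iff.1 m.2 x hx)
  have e : (a : G) * m = m * a := mem_centralizer_singleton_iff.1 (hc ha)
  rw [← e, mul_inv_cancel_right]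
  exact ha⟩

/-- the quotient by the four-group -/
abbrev qMap (u v : G) : fourCent u v →* fourCent u v ⧸ fourSub u v :=
  QuotientGroup.mk' (fourSub u v)

theorem qMap_eq_one {m : fourCent u v} :
    qMap u v m = 1 ↔ (m : G) ∈ Subgroup.closure ({u, v} : Set G) :=
  QuotientGroup.eq_one_iff m

theorem qMap_eq {a b : fourCent u v} :
    qMap u v a = qMap u v b ↔ (a : G)⁻¹ * b ∈ Subgroup.closure ({u, v} : Set G) :=
  QuotientGroup.eq

namespace QuotData

variable (h : QuotData z u v T0)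
include h

theorem mem_V {x : G} :
    x ∈ Subgroup.closure ({u, v} : Set G) ↔ x = 1 ∨ x = u ∨ x = v ∨ x = u * v := by
  have hui : u⁻¹ = u := inv_eq_of_mul_eq_one_right h.u_sq
  have hvi : v⁻¹ = v := inv_eq_of_mul_eq_one_right h.v_sq
  have huu : ∀ w, u * (u * w) = w := fun w => by rw [← mul_assoc, h.u_sq, one_mul]
  have hvv : ∀ w, v * (v * w) = w := fun w => by rw [← mul_assoc, h.v_sq, one_mul]
  have hvu : ∀ w, v * (u * w) = u * (v * w) := fun w => by rw [← mul_assoc, ← h.uv, mul_assoc]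
  constructor
  · intro hx
    refine closure_induction ?_ (Or.inl rfl) ?_ ?_ hx
    · rintro y (rfl | rfl) <;> simp
    · rintro a b - - ha hb
      rcases ha with rfl | rfl | rfl | rfl <;> rcases hb with rfl | rfl | rfl | rfl <;>
        simp [mul_assoc, h.u_sq, h.v_sq, h.uv.symm, huu, hvv, hvu]
    · rintro a - ha
      rcases ha with rfl | rfl | rfl | rfl <;> simp [hui, hvi, h.uv.symm]
  · rintro (rfl | rfl | rfl | rfl)
    exacts [one_mem _, subset_closure (Set.mem_insert _ _),
      subset_closure (Set.mem_insert_of_mem _ rfl),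
      mul_mem (subset_closure (Set.mem_insert _ _)) (subset_closure (Set.mem_insert_of_mem _ rfl))]

theorem z_notMem : z ∉ Subgroup.closure ({u, v} : Set G) := fun hz => by
  rcases h.mem_V.1 hz with e | e | e | e
  exacts [h.z_out.1 e, h.z_out.2.1 e, h.z_out.2.2.1 e, h.z_out.2.2.2 e]

theorem z_four : z ∈ fourCent u v := h.T0_le h.z_mem

theorem V_le_four : Subgroup.closure ({u, v} : Set G) ≤ fourCent u v := by
  refine (closure_le _).2 ?_
  rintro x (rfl | rfl) <;> refine mem_centralizer_iff.2 ?_ <;> rintro y (rfl | rfl) <;>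
    first | rfl | exact h.uv | exact h.uv.symm

theorem V_le_T0 : Subgroup.closure ({u, v} : Set G) ≤ T0 := fun x hx => by
  refine h.cent x (h.V_le_four hx) ?_
  have hc : Subgroup.closure ({u, v} : Set G) ≤ centralizer ({z} : Set G) :=
    (closure_le _).2 fun y hy => mem_centralizer_singleton_iff.2
      (mem_centralizer_iff.1 h.z_four y hy)
  exact mem_centralizer_singleton_iff.1 (hc hx)

theorem card_V : Nat.card (Subgroup.closure ({u, v} : Set G)) = 4 := by
  have e : ((Subgroup.closure ({u, v} : Set G) : Subgroup G) : Set G) = {1, u, v, u * v} := by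
    ext x; simpa [or_assoc] using h.mem_V
  rw [← SetLike.coe_sort_coe, Nat.card_coe_set_eq, e]
  have h1 : v ≠ u * v := fun e => h.u_ne (by simpa using e)
  have h2 : u ≠ u * v := fun e => h.v_ne (by simpa using e)
  have h3 : (1 : G) ≠ u * v := fun e => h.uv_ne (by
    rw [← inv_eq_of_mul_eq_one_right h.u_sq, inv_eq_of_mul_eq_one_right e.symm])
  rw [Set.ncard_insert_of_notMem (by simp [h.u_ne.symm, h.v_ne.symm, h3]),
    Set.ncard_insert_of_notMem (by simp [h.uv_ne, h2]),
    Set.ncard_pair h1]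

theorem card_fourCent_eq [Finite G] :
    Nat.card (fourCent u v) = Nat.card (fourCent u v ⧸ fourSub u v) * 4 := by
  rw [card_eq_card_quotient_mul_card_subgroup (fourSub u v),
    show Nat.card (fourSub u v) = 4 from
      (Nat.card_congr (subgroupOfEquivOfLe h.V_le_four).toEquiv).trans h.card_V]

theorem kdata [Finite G] :
    KData ((T0.subgroupOf (fourCent u v)).map (qMap u v)) (qMap u v ⟨z, h.z_four⟩) := by
  haveI : Fact (Nat.Prime 2) := ⟨Nat.prime_two⟩
  set M := fourCent u v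
  set T := T0.subgroupOf M with hT
  have hcardT : Nat.card T = 256 :=
    (Nat.card_congr (subgroupOfEquivOfLe h.T0_le).toEquiv).trans h.card_T0
  have hVT : fourSub u v ≤ T := fun x hx => h.V_le_T0 hx
  have hcardP : Nat.card (T.map (qMap u v)) = 64 := by
    let f := (qMap u v).comp T.subtype
    have hf : f.range = T.map (qMap u v) := by
      rw [MonoidHom.range_comp, range_subtype]
    have hker : f.ker = (fourSub u v).subgroupOf T := by
      ext x
      rw [MonoidHom.mem_ker, mem_subgroupOf]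
      exact QuotientGroup.eq_one_iff _
    have hk : Nat.card f.ker = 4 := by
      rw [hker, Nat.card_congr (subgroupOfEquivOfLe hVT).toEquiv]
      exact (Nat.card_congr (subgroupOfEquivOfLe h.V_le_four).toEquiv).trans h.card_V
    have := card_mul_index f.ker
    rw [index_ker, hk, hcardT, hf] at this
    omega
  have h128 : ¬ 128 ∣ Nat.card (M ⧸ fourSub u v) := fun ⟨k, hk⟩ =>
    h.not_512 ⟨k, by rw [h.card_fourCent_eq, hk]; ring⟩
  refine ⟨hcardP, h128, ?_, fun e => h.z_notMem (qMap_eq_one.1 e), fun k => ⟨fun e => ?_, ?_⟩,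
    fun k hk hk1 => ?_, ?_, ?_⟩
  · rw [← map_mul, qMap_eq_one]
    show z * z ∈ _
    rw [h.z_sq]
    exact one_mem _
  · obtain ⟨g, rfl⟩ := QuotientGroup.mk'_surjective (fourSub u v) k
    refine ⟨g, h.cent g g.2 (h.big_unique g g.2 ?_), rfl⟩
    have e' : qMap u v ⟨z, h.z_four⟩ = qMap u v (g * ⟨z, h.z_four⟩ * g⁻¹) := by
      rw [map_mul, map_mul, map_inv, e, mul_inv_cancel_right]
    exact qMap_eq.1 e'
  · rintro ⟨g, hg, rfl⟩
    rw [← map_mul, ← map_mul]
    exact congrArg _ (Subtype.ext (h.z_central g hg))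
  · -- move the involution into the Sylow subgroup
    have ho : orderOf k = 2 := orderOf_eq_prime (by rw [pow_two, hk]) hk1
    have hz : IsPGroup 2 (Subgroup.zpowers k) :=
      IsPGroup.of_card (n := 1) (by rw [Nat.card_zpowers, ho, pow_one])
    obtain ⟨R, hR⟩ := hz.exists_le_sylow
    have hP : IsPGroup 2 (T.map (qMap u v)) :=
      IsPGroup.of_card (n := 6) (by rw [hcardP]; norm_num)
    obtain ⟨R', hR'⟩ := hP.exists_le_sylow
    have heq : T.map (qMap u v) = R' := by
      obtain ⟨n, hn⟩ := R'.isPGroup'.exists_card_eq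
      have hn6 : n ≤ 6 := by
        by_contra h7
        refine h128 ((dvd_trans ?_ (R' : Subgroup (M ⧸ fourSub u v)).card_subgroup_dvd_card))
        rw [hn]
        exact (show (128 : ℕ) = 2 ^ 7 from rfl) ▸ pow_dvd_pow 2 (by omega)
      refine eq_of_le_of_card_ge hR' ?_
      rw [hn, hcardP]
      exact (Nat.pow_le_pow_right (by norm_num) hn6).trans (le_of_eq (by norm_num))
    obtain ⟨d, hd⟩ := MulAction.exists_smul_eq (M ⧸ fourSub u v) R R'
    have hmem : d * k * d⁻¹ ∈ T.map (qMap u v) := by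
      rw [heq]
      show d * k * d⁻¹ ∈ R'
      rw [← hd, Sylow.smul_def]
      exact ⟨k, hR (mem_zpowers k), rfl⟩
    obtain ⟨g, hg, hgk⟩ := hmem
    have hg2 : (g : G) * g ∈ Subgroup.closure ({u, v} : Set G) := by
      refine (qMap_eq_one (m := g * g)).1 ?_
      rw [map_mul, hgk]
      calc d * k * d⁻¹ * (d * k * d⁻¹) = d * (k * k) * d⁻¹ := by group
        _ = 1 := by rw [hk, mul_one, mul_inv_cancel]
    have hg1 : (g : G) ∉ Subgroup.closure ({u, v} : Set G) := fun hv => hk1 (by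
      have h1 : d * k * d⁻¹ = 1 := hgk ▸ qMap_eq_one.2 hv
      rwa [conj_eq_one_iff] at h1)
    obtain ⟨c, hc, hcg⟩ := h.big_exists g hg hg2 hg1
    have e : qMap u v (⟨c, hc⟩ * ⟨z, h.z_four⟩ * ⟨c, hc⟩⁻¹) = qMap u v g := qMap_eq.2 hcg
    refine ⟨d⁻¹ * qMap u v ⟨c, hc⟩, ?_⟩
    calc d⁻¹ * qMap u v ⟨c, hc⟩ * qMap u v ⟨z, h.z_four⟩ * (d⁻¹ * qMap u v ⟨c, hc⟩)⁻¹
        = d⁻¹ * (qMap u v ⟨c, hc⟩ * qMap u v ⟨z, h.z_four⟩ * (qMap u v ⟨c, hc⟩)⁻¹) * d := by
          group
      _ = d⁻¹ * qMap u v g * d := by rw [← map_inv, ← map_mul, ← map_mul, e]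
      _ = k := by rw [hgk]; group
  · rintro _ ⟨g, hg, rfl⟩
    have hle : T0 ≤ ((Subgroup.closure {x | x ∈ T.map (qMap u v) ∧ x * x = 1}).comap
        (qMap u v)).map M.subtype := by
      refine h.gen.trans ((closure_le _).2 ?_)
      rintro y ⟨hy, hy2⟩
      refine ⟨⟨y, h.T0_le hy⟩, mem_comap.2 (subset_closure ⟨⟨_, hy, rfl⟩, ?_⟩), rfl⟩
      rw [← map_mul, show (⟨y, h.T0_le hy⟩ : M) * ⟨y, h.T0_le hy⟩ = 1 from Subtype.ext hy2,
        map_one]
    obtain ⟨g', hg', e⟩ := hle hg
    obtain rfl : g' = g := Subtype.ext e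
    exact hg'
  · obtain ⟨a, ha, b, hb, hab⟩ := h.nab
    refine ⟨_, ⟨⟨a, h.T0_le ha⟩, ha, rfl⟩, _, ⟨⟨b, h.T0_le hb⟩, hb, rfl⟩, fun e => hab ?_⟩
    refine (qMap_eq_one (m := (⟨a, h.T0_le ha⟩ : M) * ⟨b, h.T0_le hb⟩ *
      (⟨a, h.T0_le ha⟩ : M)⁻¹ * (⟨b, h.T0_le hb⟩ : M)⁻¹)).1 ?_
    simp only [map_mul, map_inv]
    rw [e]
    group

/-- The quotient is `PSL(3,4)`. -/
theorem quot_l34 [Finite G] :
    ∃ (K : Type) (_ : Field K) (_ : Fintype K), Fintype.card K = 4 ∧
      Nonempty ((fourCent u v ⧸ fourSub u v) ≃* Matrix.ProjectiveSpecialLinearGroup (Fin 3) K) :=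
  h.kdata.isL34

/-- Every involution of the quotient comes from a conjugate of `z`. -/
theorem quot_invol [Finite G] {d : fourCent u v ⧸ fourSub u v} (hd : d * d = 1) (hd1 : d ≠ 1) :
    ∃ c : fourCent u v, qMap u v (c * ⟨z, h.z_four⟩ * c⁻¹) = d := by
  obtain ⟨k, hk⟩ := h.kdata.conj d hd hd1
  obtain ⟨c, rfl⟩ := QuotientGroup.mk'_surjective (fourSub u v) k
  exact ⟨c, by rw [map_mul, map_mul, map_inv]; exact hk⟩

/-- Conjugates of `z` with the same image are equal. -/
theorem quot_unique {c c' : G} (hc : c ∈ fourCent u v) (hc' : c' ∈ fourCent u v)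
    (e : (c * z * c⁻¹)⁻¹ * (c' * z * c'⁻¹) ∈ Subgroup.closure ({u, v} : Set G)) :
    c * z * c⁻¹ = c' * z * c'⁻¹ := by
  have hm : c⁻¹ * c' ∈ fourCent u v := mul_mem (inv_mem hc) hc'
  have hn : ∀ a ∈ Subgroup.closure ({u, v} : Set G), c⁻¹ * a * c = a := fun a ha => by
    have hcc : Subgroup.closure ({u, v} : Set G) ≤ centralizer ({c} : Set G) :=
      (closure_le _).2 fun x hx => mem_centralizer_singleton_iff.2
        (mem_centralizer_iff.1 hc x hx)
    rw [mul_assoc, mem_centralizer_singleton_iff.1 (hcc ha), inv_mul_cancel_left]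
  have key := h.big_unique _ hm (by
    have := hn _ e
    rw [← this] at e
    have e1 : z⁻¹ * (c⁻¹ * c' * z * (c⁻¹ * c')⁻¹) =
        c⁻¹ * ((c * z * c⁻¹)⁻¹ * (c' * z * c'⁻¹)) * c := by group
    rw [e1]
    exact e)
  calc c * z * c⁻¹ = c * (z * (c⁻¹ * c')) * (c⁻¹ * c')⁻¹ * c⁻¹ := by group
    _ = c' * z * c'⁻¹ := by rw [← key]; group

/-- An element with involutory image is an involution. -/
theorem quot_sq [Finite G] {x : fourCent u v} (hx : qMap u v (x * x) = 1)
    (hx1 : qMap u v x ≠ 1) : x * x = 1 := by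
  obtain ⟨c, hc⟩ := h.quot_invol (d := qMap u v x) (by rw [← map_mul]; exact hx) hx1
  set y : fourCent u v := c * ⟨z, h.z_four⟩ * c⁻¹ with hy
  have hyy : (y : G) * y = 1 := by
    calc (c : G) * z * (c : G)⁻¹ * ((c : G) * z * (c : G)⁻¹) = c * (z * z) * (c : G)⁻¹ := by group
      _ = 1 := by rw [h.z_sq, mul_one, mul_inv_cancel]
  set w := (y : G)⁻¹ * x with hw
  have hwV : w ∈ Subgroup.closure ({u, v} : Set G) := qMap_eq.1 hc
  have hww : w * w = 1 := by
    have hvu : ∀ t, v * (u * t) = u * (v * t) := fun t => by rw [← mul_assoc, ← h.uv, mul_assoc]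
    rcases h.mem_V.1 hwV with e | e | e | e <;>
      simp [e, mul_assoc, h.u_sq, h.v_sq, hvu]
  have hcomm : w * y = y * w := by
    have hcc : Subgroup.closure ({u, v} : Set G) ≤ centralizer ({(y : G)} : Set G) :=
      (closure_le _).2 fun t ht => mem_centralizer_singleton_iff.2
        (mem_centralizer_iff.1 y.2 t ht)
    exact mem_centralizer_singleton_iff.1 (hcc hwV)
  refine Subtype.ext ?_
  show (x : G) * x = 1
  calc (x : G) * x = y * w * (y * w) := by rw [hw]; group
    _ = y * (w * y) * w := by group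
    _ = (y * y) * (w * w) := by rw [hcomm]; group
    _ = 1 := by rw [hyy, hww, one_mul]

theorem quot_card [Finite G] : Nat.card (fourCent u v ⧸ fourSub u v) = 20160 := by
  obtain ⟨E, _, _, hE, ⟨e⟩⟩ := h.quot_l34
  rw [Nat.card_congr e.toEquiv, Classical.card_PSL_fin 3 (by norm_num), Classical.card_SL_fin',
    Nat.card_eq_fintype_card, hE]
  decide

theorem fourCent_card [Finite G] : Nat.card (fourCent u v) = 80640 := by
  rw [h.card_fourCent_eq, h.quot_card]

end QuotData

/-- The quotient half of step D: what remains is the normality of the four-group and the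
description of the big involutions as conjugates of `z`. -/
theorem ucent_of_quot [Finite G] {D : Cen 0 z}
    (h : QuotData z (D.val uN) (D.val vN) T0)
    (hn : ∀ x : G, x * D.val uN = D.val uN * x →
      x * D.val vN * x⁻¹ = D.val vN ∨ x * D.val vN * x⁻¹ = D.val uN * D.val vN)
    (ht : ∀ t : G, IsConj t z → t * D.val uN = D.val uN * t → t * D.val vN = D.val vN * t)
    (hbig : ∀ x ∈ fourCent (D.val uN) (D.val vN),
      Big z (D.val uN) x ↔ ∃ c ∈ fourCent (D.val uN) (D.val vN), c * z * c⁻¹ = x) :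
    Nonempty (UCent D) := ⟨{
  X := fourCent (D.val uN) (D.val vN) ⧸ fourSub (D.val uN) (D.val vN)
  π := qMap (D.val uN) (D.val vN)
  surj := QuotientGroup.mk'_surjective _
  ker := fun _ => qMap_eq_one.trans h.mem_V
  l34 := h.quot_l34
  v_normal := hn
  t_mem := ht
  big_exists := fun d hd hd1 => by
    obtain ⟨c, hc⟩ := h.quot_invol hd hd1
    exact ⟨_, (hbig _ (c * ⟨z, h.z_four⟩ * c⁻¹).2).2 ⟨c, c.2, rfl⟩, hc⟩
  big_unique := fun x y hx hy e => by
    obtain ⟨c, hc, hcx⟩ := (hbig _ x.2).1 hx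
    obtain ⟨c', hc', hcy⟩ := (hbig _ y.2).1 hy
    refine Subtype.ext ?_
    rw [← hcx, ← hcy]
    refine h.quot_unique hc hc' ?_
    rw [hcx, hcy]
    exact qMap_eq.1 e
  sq_invol := fun _ hx hx1 => h.quot_sq hx hx1 }⟩

end CfsgLib.Spor.HeRecog
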