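import Cfsg.Agent.Lib.Spor.HeRecog.Setup
import Cfsg.Prelude.Def_Transfer

/-!
# The steps of the recognition of the Held group

The statements proved in the other files of this folder and put together in `Main`.
-/

set_option autoImplicit false

namespace CfsgLib.Spor.HeRecog

universe u

/-- the element `e(v₁) e'(v₂) z^s` of six elements and a central one -/
def ev {G : Type u} [Monoid G] (z : G) (e : Fin 6 → G) (q : Nat) : G :=
  e 0 ^ (q % 2) * e 1 ^ (q / 2 % 2) * e 2 ^ (q / 4 % 2) * e 3 ^ (q / 8 % 2) *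
    e 4 ^ (q / 16 % 2) * e 5 ^ (q / 32 % 2) * z ^ (q / 64 % 2)

/-- images of `eᵢ` under `F` -/
def imgF : List Nat := [2, 5, 6, 56, 8, 40]

/-- images of `eᵢ` under `H` -/
def imgH : List Nat := [2, 4, 1, 16, 32, 8]

/-- images of `eᵢ` under `T` in the split (`j = 0`) and uniserial case -/
def imgT (j : Nat) : List Nat := if j = 0 then [4, 2, 1, 32, 16, 8] else [68, 66, 65, 35, 21, 14]

/-- Generators and relations of the centraliser of `z`: the action `j` and the twist `t`. -/
structure Frame (j t : ℕ) {G : Type u} [Group G] (z : G) where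
  hj : j < 2
  ht : t < 2
  ord : orderOf z = 2
  e : Fin 6 → G
  F : G
  H : G
  T : G
  card : Nat.card (Subgroup.centralizer ({z} : Set G)) = 21504
  gen : Subgroup.centralizer ({z} : Set G) = Subgroup.closure ({z, F, H, T} ∪ Set.range e)
  e_sq : ∀ i, e i * e i = 1
  e_comm : ∀ i k : Fin 6, (i : ℕ) + 3 ≠ k → (k : ℕ) + 3 ≠ i → e i * e k = e k * e i
  e_pair : ∀ i k : Fin 6, (i : ℕ) + 3 = k → e i * e k = z * (e k * e i)
  conjF : ∀ i : Fin 6, F * e i * F⁻¹ = ev z e (imgF.getD i 0)
  conjH : ∀ i : Fin 6, H * e i * H⁻¹ = ev z e (imgH.getD i 0)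
  conjT : ∀ i : Fin 6, T * e i * T⁻¹ = ev z e ((imgT j).getD i 0)
  F_seven : F ^ 7 = 1
  H_three : H ^ 3 = 1
  HF : H * F * H⁻¹ = F ^ 2
  TH : T * H * T⁻¹ = H⁻¹
  FT : (F * T) ^ 3 = 1
  T_sq : T * T = z ^ t

/-- A group of Held type, with the chosen involution. -/
structure Hyp {G : Type u} [Group G] (z : G) : Prop where
  ord : orderOf z = 2
  card : Nat.card G = 4030387200
  simple : IsSimpleGroup G
  two : ∃ w : G, orderOf w = 2 ∧ ¬ IsConj w z ∧
    ∀ x : G, orderOf x = 2 → IsConj x z ∨ IsConj x w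

/-- the element of the second class -/
def uN : Nat := 1680

/-- the second generator of the normal four-group of the centraliser of `val uN` -/
def vN : Nat := 11185

/-- What the exclusion of the false models leaves. -/
structure Basic {G : Type u} [Group G] {z : G} (D : Cen 0 z) : Prop where
  hyp : Hyp z
  u1680 : ¬ IsConj (D.val 1680) z
  u1777 : ¬ IsConj (D.val 1777) z
  t168 : IsConj (D.val 168) z
  t1344 : IsConj (D.val 1344) z
  t21 : IsConj (D.val 21) z

/-- The fusion of the classes of the centraliser. -/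
structure Fus {G : Type u} [Group G] {z : G} (D : Cen 0 z) : Prop extends Basic D where
  t190 : IsConj (D.val 190) z
  t1366 : IsConj (D.val 1366) z

/-- The configuration that follows if the class `190` is not fused to `z`: the elements come from
the normaliser `2⁶.(S₃ × L₃(2))` of an elementary abelian group of order 64 containing `190`. -/
structure Six {G : Type u} [Group G] {z : G} (D : Cen 0 z) where
  f : G
  h : G
  s : G
  g : G
  L : Subgroup G
  hf : orderOf f = 7
  hh : orderOf h = 3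
  fh : f * h = h * f
  sf : s * f = f * s
  sh : s * h * s⁻¹ = h⁻¹
  sz : IsConj s z
  L_simple : IsSimpleGroup L
  L_card : Nat.card L = 168
  Lh : ∀ x ∈ L, x * h = h * x
  gL : g ∈ L
  gconj : IsConj (D.val hN) g
  gh_mixed : ∀ i : ℕ, i = 1 ∨ i = 2 →
    ∃ w : G, orderOf w = 2 ∧ ¬ IsConj w z ∧ w * (g * h ^ i) = g * h ^ i * w
  line : ∃ n : G, n * D.val hN = D.val hN * n ∧ n * z * n⁻¹ = D.val 9408

/-- `t` is a conjugate of `z` commuting with `u` with `t u` not conjugate to `z`. -/
def Big {G : Type u} [Group G] (z u t : G) : Prop :=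
  IsConj t z ∧ t * u = u * t ∧ ¬ IsConj (t * u) z

/-- The centraliser of an involution of the second class is `2².L₃(4)` extended by two. -/
structure UCent {G : Type u} [Group G] {z : G} (D : Cen 0 z) where
  X : Type u
  [grp : Group X]
  [fin : Finite X]
  π : Subgroup.centralizer ({D.val uN, D.val vN} : Set G) →* X
  surj : Function.Surjective π
  ker : ∀ x, π x = 1 ↔ (x : G) = 1 ∨ (x : G) = D.val uN ∨ (x : G) = D.val vN ∨
    (x : G) = D.val uN * D.val vN
  l34 : ∃ (K : Type) (_ : Field K) (_ : Fintype K), Fintype.card K = 4 ∧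
    Nonempty (X ≃* Matrix.ProjectiveSpecialLinearGroup (Fin 3) K)
  v_normal : ∀ x : G, x * D.val uN = D.val uN * x →
    x * D.val vN * x⁻¹ = D.val vN ∨ x * D.val vN * x⁻¹ = D.val uN * D.val vN
  t_mem : ∀ t : G, IsConj t z → t * D.val uN = D.val uN * t → t * D.val vN = D.val vN * t
  big_exists : ∀ d : X, d * d = 1 → d ≠ 1 → ∃ x : Subgroup.centralizer
    ({D.val uN, D.val vN} : Set G), Big z (D.val uN) x ∧ π x = d
  big_unique : ∀ x y : Subgroup.centralizer ({D.val uN, D.val vN} : Set G),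
    Big z (D.val uN) x → Big z (D.val uN) y → π x = π y → x = y
  sq_invol : ∀ x, π (x * x) = 1 → π x ≠ 1 → x * x = 1

/-- A1: generators of the centraliser. -/
def StmtFrame : Prop :=
  ∀ {G : Type u} [Group G] [Finite G] (z : G), orderOf z = 2 →
    ∀ (Q : Subgroup (Subgroup.centralizer ({z} : Set G))) [Q.Normal],
      Cfsg.IsExtraspecial 2 Q → Nat.card Q = 2 ^ 7 →
      (∃ E : Subgroup Q, Cfsg.IsElementaryAbelian 2 E ∧ Nat.card E = 2 ^ 4) →
      Subgroup.centralizer (Q : Set (Subgroup.centralizer ({z} : Set G))) ≤ Q →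
      ((Subgroup.centralizer ({z} : Set G)) ⧸ Q ≃*
        Matrix.SpecialLinearGroup (Fin 3) (ZMod 2)) →
      ∃ j t, Nonempty (Frame j t z)

/-- A2: the model of a frame. -/
def StmtModel : Prop :=
  ∀ {G : Type u} [Group G] [Finite G] (z : G) (j t : ℕ),
    Frame j t z → Nonempty (Cen (2 * j + t) z)

/-- B1: only the split untwisted model remains. -/
def StmtModelZero : Prop :=
  ∀ {G : Type u} [Group G] [Finite G] (z : G) (k : ℕ), Hyp z → Cen k z → k = 0

/-- B2: the fusion visible inside the centraliser. -/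
def StmtBasic : Prop :=
  ∀ {G : Type u} [Group G] [Finite G] (z : G) (D : Cen 0 z), Hyp z → Basic D

/-- C1: the configuration of an unfused class. -/
def StmtSix : Prop :=
  ∀ {G : Type u} [Group G] [Finite G] (z : G) (D : Cen 0 z),
    Basic D → ¬ IsConj (D.val 190) z → Nonempty (Six D)

/-- C2: the configuration is impossible. -/
def StmtNotSix : Prop :=
  ∀ {G : Type u} [Group G] [Finite G] (z : G) (D : Cen 0 z), Basic D → Six D → False

/-- D: the centraliser of an involution of the second class. -/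
def StmtUCent : Prop :=
  ∀ {G : Type u} [Group G] [Finite G] (z : G) (D : Cen 0 z), Fus D → Nonempty (UCent D)

/-- E: a configuration of involutions of `L₃(4)`. -/
def StmtL34 : Prop :=
  ∀ {X : Type u} [Group X] [Finite X],
    (∃ (K : Type) (_ : Field K) (_ : Fintype K), Fintype.card K = 4 ∧
      Nonempty (X ≃* Matrix.ProjectiveSpecialLinearGroup (Fin 3) K)) →
    ∀ f g c e : X, f * f = 1 → g * g = 1 → c * c = 1 → e = f * g * (f * g) → e * e = 1 → e ≠ 1 →
      c ≠ 1 → c ≠ e → c * f = f * c → c * g = g * c →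
      ∃ d₀ : X, d₀ * d₀ = 1 ∧ d₀ ≠ 1 ∧ orderOf (d₀ * e) = 3 ∧ orderOf (d₀ * f) = 3 ∧
        orderOf (d₀ * g) = 3 ∧
        (∀ d : X, d * d = 1 → d ≠ 1 → orderOf (d * e) = 3 → orderOf (d * f) = 3 →
          orderOf (d * g) = 3 →
          d = d₀ ∨ d = e * d₀ * e ∨ d = c * d₀ * c ∨ d = c * e * d₀ * (e * c)) ∧
        e * d₀ * e ≠ d₀ ∧ c * d₀ * c ≠ d₀ ∧ c * d₀ * c ≠ e * d₀ * e ∧
        (∀ d : X, d * d = 1 → d ≠ 1 → orderOf (d * e) = 3 → orderOf (d * f) = 3 →
          orderOf (d * g) = 3 → orderOf (c * d) = 5 ∧ (c * d * f * g) ^ 4 = 1)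

end CfsgLib.Spor.HeRecog
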