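import Cfsg.Agent.Lib.Spor.HeRecog.BasicData
import Cfsg.Agent.Lib.Spor.HeRecog.Interface

/-!
# The fusion visible inside the centraliser

`1680` and `1777` have no swap partner. A Sylow 2-subgroup of the centraliser of an involution not
conjugate to `z` is conjugate to the centraliser of `1680` in `C(z)`; comparing numbers of square
roots shows that `168`, `1344` and `21` are conjugate to `z`.
-/

set_option autoImplicit false
set_option maxRecDepth 100000
set_option maxHeartbeats 1000000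

namespace CfsgLib.Spor.HeRecog

universe u

/-- a 2-subgroup of `H` is conjugate into a Sylow subgroup of `H` given by its order -/
theorem exists_conj_le {G : Type u} [Group G] [Finite G] {H A B : Subgroup G} (hA : A ≤ H)
    (hB : B ≤ H) {m n : ℕ} (hcA : Nat.card A = 2 ^ m) (hcB : Nat.card B = 2 ^ n)
    (hH : ¬ 2 ^ (n + 1) ∣ Nat.card H) :
    ∃ c ∈ H, A.map (MulAut.conj c).toMonoidHom ≤ B := by
  have : Fact (Nat.Prime 2) := ⟨Nat.prime_two⟩
  have hdvd : 2 ^ n ∣ Nat.card H := hcB ▸ Subgroup.card_dvd_of_le hB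
  have hn : (Nat.card H).factorization 2 = n := by
    have h1 := (Nat.prime_two.pow_dvd_iff_le_factorization Nat.card_pos.ne').1 hdvd
    have h2 : ¬ n + 1 ≤ (Nat.card H).factorization 2 := fun h =>
      hH ((Nat.prime_two.pow_dvd_iff_le_factorization Nat.card_pos.ne').2 h)
    omega
  let SB : Sylow 2 H := Sylow.ofCard (B.subgroupOf H) (by
    rw [Nat.card_congr (Subgroup.subgroupOfEquivOfLe hB).toEquiv, hcB, hn])
  have hp : IsPGroup 2 (A.subgroupOf H) := IsPGroup.of_card (n := m) (by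
    rw [Nat.card_congr (Subgroup.subgroupOfEquivOfLe hA).toEquiv, hcA])
  obtain ⟨SA, hSA⟩ := hp.exists_le_sylow
  obtain ⟨c, hc⟩ := MulAction.exists_smul_eq H SA SB
  refine ⟨c, c.2, ?_⟩
  rintro _ ⟨a, ha, rfl⟩
  have h1 : c * (⟨a, hA ha⟩ : H) * c⁻¹ ∈ (c • SA : Sylow 2 H) :=
    ⟨⟨a, hA ha⟩, hSA ha, rfl⟩
  rw [hc] at h1
  exact h1

/-- the number of square roots of `w` in a subgroup, transported by conjugation -/
theorem card_roots_map {G : Type u} [Group G] [Finite G] (A : Subgroup G) (c w : G) :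
    Nat.card {a : G // a ∈ A.map (MulAut.conj c).toMonoidHom ∧ a * a = c * w * c⁻¹} =
      Nat.card {a : G // a ∈ A ∧ a * a = w} := by
  symm
  refine Nat.card_congr ((MulAut.conj c).toEquiv.subtypeEquiv fun a => ?_)
  show a ∈ A ∧ a * a = w ↔ _ ∈ A.map (MulAut.conj c).toMonoidHom ∧ _
  constructor
  · rintro ⟨h1, h2⟩
    exact ⟨⟨a, h1, rfl⟩, by rw [← h2]; show c * a * c⁻¹ * (c * a * c⁻¹) = _; group⟩
  · rintro ⟨⟨b, hb, e⟩, h2⟩
    have e' : b = a := (MulAut.conj c).injective e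
    exact ⟨e' ▸ hb, (Cen.conj_sq_iff c a w).2 h2⟩

namespace Cen

variable {G : Type u} [Group G] {z : G} (D : Cen 0 z)
include D

/-- the centraliser of `val x` in the centraliser of `z` -/
def CC (x : ℕ) : Subgroup G :=
  Subgroup.centralizer ({z} : Set G) ⊓ Subgroup.centralizer ({D.val x} : Set G)

theorem mem_CC {x : ℕ} {g : G} :
    g ∈ D.CC x ↔ g * z = z * g ∧ g * D.val x = D.val x * g := by
  rw [CC, Subgroup.mem_inf, Subgroup.mem_centralizer_singleton_iff,
    Subgroup.mem_centralizer_singleton_iff]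

theorem card_CC {x : ℕ} (hx : x < 21504) : Nat.card (D.CC x) = centN 0 x := by
  rw [← D.card_centN hx]
  exact Nat.card_congr (Equiv.subtypeEquivRight fun g => D.mem_CC)

theorem roots_CC {x w : ℕ} (hx : x < 21504) (hw : w < 21504) :
    Nat.card {g : G // g ∈ D.CC x ∧ g * g = D.val w} = rootsN 0 x w := by
  rw [← D.card_rootsN hx hw]
  refine Nat.card_congr (Equiv.subtypeEquivRight fun g => ?_)
  rw [D.mem_CC]
  tauto

omit D in
theorem sList_mem_iff {m : ℕ} (hm : m < 21504) :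
    m ∈ sList ↔ mulN 0 m 1680 = mulN 0 1680 m := by
  refine ⟨fun h => beq_true_iff.1 (List.all_eq_true.1 sList_sub m h), fun h => ?_⟩
  have h' := allEls_spec sList_sup m hm
  rw [beq_true_iff.2 h, Bool.not_true, Bool.false_or] at h'
  obtain ⟨a, ha, e⟩ := List.any_eq_true.1 h'
  exact Nat.eq_of_beq_eq_true e ▸ ha

omit D in
theorem sList_bound {m : ℕ} (hm : m ∈ sList) : m < 21504 := by
  have h := List.all_eq_true.1 sList_lt m hm
  exact Nat.le_of_ble_eq_true h

/-- a set in the centraliser of `1680` is counted on the list -/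
theorem card_S (p : Nat → Bool) (q : G → Prop) (h : ∀ m ∈ sList, (p m = true ↔ q (D.val m))) :
    Nat.card {g : G // g ∈ D.CC 1680 ∧ q g} = (sList.filter p).length := by
  rw [← D.card_image (l := sList.filter p) (fun m hm => sList_bound (List.mem_filter.1 hm).1)
    (sList_nodup.filter _)]
  refine Nat.card_congr (Equiv.subtypeEquivRight fun g => ⟨?_, ?_⟩)
  · rintro ⟨hg, hq⟩
    obtain ⟨hgz, hgu⟩ := D.mem_CC.1 hg
    obtain ⟨m, hm, rfl⟩ := D.val_surj g hgz
    have hmS := (sList_mem_iff hm).2 (D.mul_val_eq hm (by norm_num) hgu)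
    exact ⟨m, List.mem_filter.2 ⟨hmS, (h m hmS).2 hq⟩, rfl⟩
  · rintro ⟨m, hm, rfl⟩
    obtain ⟨hmS, hp⟩ := List.mem_filter.1 hm
    have hlt := sList_bound hmS
    exact ⟨D.mem_CC.2 ⟨D.val_comm m hlt,
      D.val_commute hlt (by norm_num) ((sList_mem_iff hlt).1 hmS)⟩, (h m hmS).1 hp⟩

theorem card_CC_u : Nat.card (D.CC 1680) = 512 := by
  have h := D.card_S (fun _ => true) (fun _ => True) (fun _ _ => by simp)
  rw [List.filter_true, sRoots_self.1] at h
  rw [← h]
  exact Nat.card_congr (Equiv.subtypeEquivRight fun g => by simp)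

theorem roots_CC_u : Nat.card {g : G // g ∈ D.CC 1680 ∧ g * g = D.val 1680} = 16 := by
  rw [← sRoots_self.2, sRoots]
  refine D.card_S _ (fun g => g * g = D.val 1680) fun m hm => ?_
  have hlt := sList_bound hm
  obtain ⟨-, h0, h0', -⟩ := model_spec D.hk hlt
  rw [Bool.and_eq_true, beq_true_iff, beq_true_iff, h0, h0']
  refine ⟨fun h => by rw [← D.val_mul m m hlt hlt, h.1], fun h => ⟨?_, rfl⟩⟩
  exact D.val_inj _ _ (mulN_lt hlt _ _) (by norm_num) (by rw [D.val_mul m m hlt hlt, h])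

/-- The preimage of a subgroup of the top in the centraliser of `val x`. -/
def Pre (x : ℕ) (h : List Nat) (hok : sylOK x h = true) (hx : x < 21504) : Subgroup G where
  carrier := {g | ∃ m < 21504, D.val m = g ∧ inSyl x h m = true}
  one_mem' := by
    simp only [sylOK, Bool.and_eq_true] at hok
    refine ⟨0, by norm_num, D.val_zero, ?_⟩
    obtain ⟨-, h0, h0', -⟩ := model_spec D.hk hx
    rw [inSyl, Bool.and_eq_true]
    exact ⟨hok.1.1.1, beq_true_iff.2 (h0.trans h0'.symm)⟩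
  mul_mem' := by
    rintro _ _ ⟨m, hm, rfl, hm'⟩ ⟨n, hn, rfl, hn'⟩
    simp only [sylOK, Bool.and_eq_true, List.all_eq_true] at hok
    simp only [inSyl, Bool.and_eq_true, List.any_eq_true, beq_true_iff] at hm' hn' hok ⊢
    obtain ⟨⟨a, ha, ea⟩, hmx⟩ := hm'
    obtain ⟨⟨b, hb, eb⟩, hnx⟩ := hn'
    refine ⟨mulN 0 m n, mulN_lt hm 0 n, D.val_mul m n hm hn, ?_, ?_⟩
    · obtain ⟨c, hc, ec⟩ := (hok.1.1.2 a ha).2 b hb
      refine ⟨c, hc, ?_⟩
      rw [← ec, ← ea, ← eb]
      show mulParts 0 _ _ _ _ % 168 = pMul (m % 168) (n % 168)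
      simp only [mulParts, Nat.add_eq, Nat.mul_eq]
      rw [Nat.add_comm, Nat.add_mul_mod_self_right, Nat.mod_eq_of_lt (pMul_lt _ _)]
      rfl
    · refine D.mul_val_eq (mulN_lt hm 0 n) hx ?_
      rw [D.val_mul m n hm hn, mul_assoc, D.val_commute hn hx hnx, ← mul_assoc,
        D.val_commute hm hx hmx, mul_assoc]
  inv_mem' := by
    rintro _ ⟨m, hm, rfl, hm'⟩
    simp only [sylOK, Bool.and_eq_true, List.all_eq_true] at hok
    simp only [inSyl, Bool.and_eq_true, List.any_eq_true, beq_true_iff] at hm' hok ⊢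
    obtain ⟨⟨a, ha, ea⟩, hmx⟩ := hm'
    refine ⟨invN 0 m, invN_lt 0 m, D.val_inv hm, ?_, ?_⟩
    · obtain ⟨c, hc, ec⟩ := (hok.1.1.2 a ha).1
      refine ⟨c, hc, ?_⟩
      rw [← ec, ← ea]
      show invParts 0 _ _ _ % 168 = pInv (m % 168)
      simp only [invParts, Nat.add_eq, Nat.mul_eq]
      rw [Nat.add_comm, Nat.add_mul_mod_self_right, Nat.mod_eq_of_lt (pInv_lt _)]
      rfl
    · refine D.mul_val_eq (invN_lt 0 m) hx ?_
      rw [D.val_inv hm]
      exact ((Commute.inv_left (D.val_commute hm hx hmx))).eq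

theorem card_Pre (x : ℕ) (h : List Nat) (hok : sylOK x h = true) (hx : x < 21504) :
    Nat.card (D.Pre x h hok hx) = 512 ∧ D.Pre x h hok hx ≤ D.CC x ∧
      Nat.card {g : G // g ∈ D.Pre x h hok hx ∧ g * g = D.val x} = 48 := by
  have hok' := hok
  simp only [sylOK, Bool.and_eq_true, beq_true_iff] at hok'
  have hle : D.Pre x h hok hx ≤ D.CC x := by
    rintro _ ⟨m, hm, rfl, hm'⟩
    rw [inSyl, Bool.and_eq_true, beq_true_iff] at hm'
    exact D.mem_CC.2 ⟨D.val_comm m hm, D.val_commute hm hx hm'.2⟩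
  have key : ∀ (p : Nat → Bool) (q : G → Prop), (∀ m < 21504, (p m = true ↔
      D.val m ∈ D.Pre x h hok hx ∧ q (D.val m))) →
      Nat.card {g : G // g ∈ D.Pre x h hok hx ∧ q g} = countEls p := by
    intro p q hpq
    rw [← D.card_set p (fun g => g ∈ D.Pre x h hok hx ∧ q g) hpq]
    exact Nat.card_congr (Equiv.subtypeEquivRight fun g =>
      ⟨fun hg => ⟨(D.mem_CC.1 (hle hg.1)).1, hg⟩, fun hg => hg.2⟩)
  have hmem : ∀ m < 21504, (inSyl x h m = true ↔ D.val m ∈ D.Pre x h hok hx) := fun m hm =>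
    ⟨fun e => ⟨m, hm, rfl, e⟩, fun ⟨n, hn, e, hn'⟩ => D.val_inj n m hn hm e ▸ hn'⟩
  refine ⟨?_, hle, ?_⟩
  · rw [← hok'.1.2, ← key (inSyl x h) (fun _ => True) (fun m hm => by rw [hmem m hm]; simp)]
    exact Nat.card_congr (Equiv.subtypeEquivRight fun g => by simp)
  · rw [← hok'.2]
    refine key _ (fun g => g * g = D.val x) fun m hm => ?_
    rw [Bool.and_eq_true, beq_true_iff, hmem m hm]
    constructor
    · rintro ⟨h1, h2⟩
      exact ⟨h2, by rw [← D.val_mul m m hm hm, h1]⟩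
    · rintro ⟨h1, h2⟩
      exact ⟨D.val_inj _ _ (mulN_lt hm _ _) hx (by rw [D.val_mul m m hm hm, h2]), h1⟩

omit D in
theorem conj_mul_commute {g a b b' : G} (h : g * b * g⁻¹ = b') (hab : a * b = b * a) :
    g * a * g⁻¹ * b' = b' * (g * a * g⁻¹) := by
  rw [← h]
  exact (conj_comm_iff g a b).1 hab

variable [Finite G]

/-- an involution not conjugate to `z` centralises no Sylow 2-subgroup -/
theorem not_dvd_cent (hcard : Nat.card G = 4030387200) {v : G} (hv : orderOf v = 2)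
    (hnT : ¬ IsConj v z) : ¬ 2 ^ (9 + 1) ∣ Nat.card (Subgroup.centralizer ({v} : Set G)) := by
  intro hd
  have : Fact (Nat.Prime 2) := ⟨Nat.prime_two⟩
  obtain ⟨P', hP'⟩ := Sylow.exists_subgroup_card_pow_prime 2 (n := 10)
    (G := Subgroup.centralizer ({z} : Set G)) (by rw [D.card_cent]; norm_num)
  obtain ⟨A', hA'⟩ := Sylow.exists_subgroup_card_pow_prime 2 (n := 10)
    (G := Subgroup.centralizer ({v} : Set G)) hd
  set A := A'.map (Subgroup.centralizer ({v} : Set G)).subtype with hA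
  set B := P'.map (Subgroup.centralizer ({z} : Set G)).subtype with hB
  have hcA : Nat.card A = 2 ^ 10 := by
    rw [hA, Subgroup.card_map_of_injective (Subgroup.subtype_injective _), hA']
  have hcB : Nat.card B = 2 ^ 10 := by
    rw [hB, Subgroup.card_map_of_injective (Subgroup.subtype_injective _), hP']
  obtain ⟨c, -, hc⟩ := exists_conj_le (H := (⊤ : Subgroup G)) (A := A) (B := B) le_top le_top
    hcA hcB (by rw [Subgroup.card_top, hcard]; norm_num)
  have hceq : A.map (MulAut.conj c).toMonoidHom = B := Subgroup.eq_of_le_of_card_ge hc (by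
    rw [Subgroup.card_map_of_injective (K := A) (MulAut.conj c).injective, hcA, hcB])
  have hcomm : ∀ b ∈ B, b * (c * v * c⁻¹) = c * v * c⁻¹ * b := by
    rw [← hceq]
    rintro _ ⟨a, ⟨a', -, rfl⟩, rfl⟩
    exact conj_mul_commute rfl (Subgroup.mem_centralizer_singleton_iff.1 a'.2)
  have ho : orderOf (c * v * c⁻¹) = 2 := ((MulAut.conj c).orderOf_eq v).trans hv
  have hn : (Nat.card G).factorization 2 = 10 := by
    have h1 := (Nat.prime_two.pow_dvd_iff_le_factorization Nat.card_pos.ne').1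
      (show 2 ^ 10 ∣ Nat.card G by rw [hcard]; norm_num)
    have h2 : ¬ 11 ≤ (Nat.card G).factorization 2 := fun h => absurd
      ((Nat.prime_two.pow_dvd_iff_le_factorization Nat.card_pos.ne').2 h)
      (by rw [hcard]; norm_num)
    omega
  let S : Sylow 2 G := Sylow.ofCard B (by rw [hcB, hn])
  have hvB : c * v * c⁻¹ ∈ B := by
    have hp : IsPGroup 2 (Subgroup.zpowers (c * v * c⁻¹)) :=
      IsPGroup.of_card (n := 1) (by rw [Nat.card_zpowers, ho, pow_one])
    have hmem : c * v * c⁻¹ ∈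
        Subgroup.zpowers (c * v * c⁻¹) ⊓ Subgroup.normalizer (S : Set G) := by
      refine ⟨Subgroup.mem_zpowers _, Subgroup.mem_normalizer_iff.2 fun b => ?_⟩
      show b ∈ B ↔ _ ∈ B
      constructor
      · intro hb
        rwa [← hcomm b hb, mul_inv_cancel_right]
      · intro hb
        have h := hcomm _ hb
        rw [inv_mul_cancel_right] at h
        rw [mul_left_cancel h]
        exact hb
    rw [hp.inf_normalizer_sylow S] at hmem
    exact hmem.2
  have hBz : ∀ b ∈ B, b * z = z * b := by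
    rintro _ ⟨b, -, rfl⟩
    exact Subgroup.mem_centralizer_singleton_iff.1 b.2
  obtain ⟨m, hm, e, p, hp, hmp⟩ := D.invol_val ho (hBz _ hvB)
  obtain ⟨n, hn', hcj, ha, -⟩ := D.cls_conj hmp
  have hle : B ≤ D.CC m := fun b hb => D.mem_CC.2 ⟨hBz b hb, by rw [e]; exact hcomm b hb⟩
  have hdv : 1024 ∣ centN 0 p.1 := by
    rw [← D.centN_cj hn' ha, hcj, ← D.card_CC hm]
    exact (show (1024 : ℕ) = Nat.card B by rw [hcB]; norm_num) ▸ Subgroup.card_dvd_of_le hle
  rcases sigZero_reps p hp with hz | hr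
  · refine hnT (isConj_iff.2 ⟨c, ?_⟩)
    rw [← e, ← hcj, hz, D.cjN_zN hn', D.val_z]
  · obtain ⟨t, ht, et⟩ := List.any_eq_true.1 hr
    rw [beq_iff_eq] at et
    exact centN_sig t ht (et ▸ Nat.mod_eq_zero_of_dvd hdv)

omit [Finite G] in
theorem fusion_u {a : ℕ} (ha : a = 1680 ∨ a = 1777) : ¬ IsConj (D.val a) z := by
  intro hT
  have hrep : ∀ q ∈ clsL 0, q.1 ≠ zN → ∃ t ∈ sigZero, t.1 = q.1 := fun q hq hqz => by
    obtain ⟨t, ht, e⟩ := List.any_eq_true.1 ((sigZero_reps q hq).resolve_left hqz)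
    exact ⟨t, ht, by simpa using e⟩
  have hspec : ∀ t ∈ sigZero, rootsN 0 t.1 zN = t.2.1 ∧ rootsN 0 t.1 t.1 = t.2.2 :=
    fun t ht => by
      simpa [beq_true_iff] using List.all_eq_true.1 sigZero_spec t ht
  obtain ⟨t, ht, et, hlt, hne⟩ : ∃ t ∈ sigZero, t.1 = a ∧ a < 21504 ∧ a ≠ zN := by
    rcases ha with rfl | rfl
    · exact ⟨(1680, 32, 16), by decide, rfl, by norm_num, by norm_num [zN]⟩
    · exact ⟨(1777, 16, 0), by decide, rfl, by norm_num, by norm_num [zN]⟩
  obtain ⟨y, hy, hyz, hyT, -, -, h1, h2, -⟩ := D.exists_swap hlt hT hne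
  have ho : orderOf (D.val y) = 2 := by
    obtain ⟨c, hc⟩ := isConj_iff.1 hyT
    have h3 := (MulAut.conj c).orderOf_eq (D.val y)
    rw [MulAut.conj_apply, hc] at h3
    exact h3.symm.trans D.ord
  obtain ⟨m, hm, e, q, hq, hmq⟩ := D.invol_val ho (D.val_comm y hy)
  obtain rfl := D.val_inj m y hm hy e
  obtain ⟨n, hn, hc, hq', -⟩ := D.cls_conj hmq
  have hqz : q.1 ≠ zN := fun e => hyz (by rw [← hc, e, D.cjN_zN hn])
  obtain ⟨b, hb, eb⟩ := hrep q hq hqz
  obtain ⟨a1, a2⟩ := hspec t ht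
  obtain ⟨b1, b2⟩ := hspec b hb
  rw [et] at a1 a2
  rw [eb] at b1 b2
  rw [← hc, D.rootsN_cj hn hq' hq', b2, a1] at h1
  have hz' : rootsN 0 (cjN 0 n q.1) zN = rootsN 0 q.1 zN := by
    conv_lhs => rw [← D.cjN_zN hn]
    exact D.rootsN_cj hn hq' zN_lt
  rw [← hc, hz', b1, a2] at h2
  exact sigZero_partner t ht (et.symm ▸ ha) b hb h1 h2

/-- the classes `168` and `1344` -/
theorem fusion_syl (h : Hyp z) {x : ℕ} (l : List Nat) (hok : sylOK x l = true) (hx : x < 21504)
    (hx2 : orderOf (D.val x) = 2) : IsConj (D.val x) z := by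
  by_contra hT
  obtain ⟨w, -, -, htwo⟩ := h.two
  have hu2 : orderOf (D.val 1680) = 2 :=
    D.val_invol (by norm_num) (by decide +kernel) (by norm_num)
  obtain ⟨g, hg⟩ := isConj_iff.1 (((htwo _ hu2).resolve_left (D.fusion_u (Or.inl rfl))).trans
    ((htwo _ hx2).resolve_left hT).symm)
  obtain ⟨hcB, hBle, hrB⟩ := D.card_Pre x l hok hx
  set A := (D.CC 1680).map (MulAut.conj g).toMonoidHom with hA
  have hcA : Nat.card A = 2 ^ 9 := by
    rw [hA, Subgroup.card_map_of_injective (MulAut.conj g).injective, D.card_CC_u]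
    norm_num
  have hAle : A ≤ Subgroup.centralizer ({D.val x} : Set G) := by
    rintro _ ⟨a, ha, rfl⟩
    exact Subgroup.mem_centralizer_singleton_iff.2 (conj_mul_commute hg (D.mem_CC.1 ha).2)
  obtain ⟨k, hk, hle⟩ := exists_conj_le (B := D.Pre x l hok hx) hAle (hBle.trans inf_le_right)
    hcA (hcB.trans (by norm_num)) (D.not_dvd_cent h.card hx2 hT)
  have heq := Subgroup.eq_of_le_of_card_ge hle
    (by rw [Subgroup.card_map_of_injective (MulAut.conj k).injective, hcA, hcB]; norm_num)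
  have hkx : k * D.val x * k⁻¹ = D.val x := by
    rw [Subgroup.mem_centralizer_singleton_iff.1 hk, mul_inv_cancel_right]
  have h16 : Nat.card {a : G // a ∈ A ∧ a * a = D.val x} = 16 := by
    rw [← hg, hA, card_roots_map, D.roots_CC_u]
  have h48 : Nat.card {a : G // a ∈ A ∧ a * a = D.val x} = 48 := by
    rw [← card_roots_map A k (D.val x), hkx, heq, hrB]
  omega

/-- the class `21` -/
theorem fusion_21 (h : Hyp z) : IsConj (D.val 21) z := by
  by_contra hT
  obtain ⟨w, -, -, htwo⟩ := h.two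
  have hlt : 21 < 21504 := by norm_num
  have hlu : 1680 < 21504 := by norm_num
  have hu2 : orderOf (D.val 1680) = 2 := D.val_invol hlu (by decide +kernel) (by norm_num)
  have hx2 : orderOf (D.val 21) = 2 := D.val_invol hlt (by decide +kernel) (by norm_num)
  have huT := D.fusion_u (a := 1680) (Or.inl rfl)
  obtain ⟨g, hg⟩ := isConj_iff.1 (((htwo _ hx2).resolve_left hT).trans
    ((htwo _ hu2).resolve_left huT).symm)
  set A := (D.CC 21).map (MulAut.conj g).toMonoidHom with hA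
  have hcA : Nat.card A = 2 ^ 8 := by
    rw [hA, Subgroup.card_map_of_injective (MulAut.conj g).injective, D.card_CC hlt,
      centN_small.1]
    norm_num
  have hAle : A ≤ Subgroup.centralizer ({D.val 1680} : Set G) := by
    rintro _ ⟨a, ha, rfl⟩
    exact Subgroup.mem_centralizer_singleton_iff.2 (conj_mul_commute hg (D.mem_CC.1 ha).2)
  obtain ⟨c, hc, hle⟩ := exists_conj_le (B := D.CC 1680) hAle inf_le_right hcA
    (D.card_CC_u.trans (by norm_num)) (D.not_dvd_cent h.card hu2 huT)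
  set g' := c * g with hg'
  have hgu : g' * D.val 21 * g'⁻¹ = D.val 1680 := by
    rw [hg', show c * g * D.val 21 * (c * g)⁻¹ = c * (g * D.val 21 * g⁻¹) * c⁻¹ by group, hg,
      Subgroup.mem_centralizer_singleton_iff.1 hc, mul_inv_cancel_right]
  have himg : ∀ a ∈ D.CC 21, g' * a * g'⁻¹ ∈ D.CC 1680 := fun a ha => by
    rw [hg', show c * g * a * (c * g)⁻¹ = c * (g * a * g⁻¹) * c⁻¹ by group]
    exact hle ⟨_, ⟨a, ha, rfl⟩, rfl⟩
  have hzmem : g' * z * g'⁻¹ ∈ D.CC 1680 :=
    himg z (D.mem_CC.2 ⟨rfl, (D.val_comm 21 hlt).symm⟩)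
  obtain ⟨m, hm, hmt⟩ := D.val_surj _ (D.mem_CC.1 hzmem).1
  have hmS : m ∈ sList :=
    (sList_mem_iff hm).2 (D.mul_val_eq hm hlu (by rw [hmt]; exact (D.mem_CC.1 hzmem).2))
  have hmm : mulN 0 m m = 0 := by
    refine D.val_sq hm ?_
    rw [hmt, show g' * z * g'⁻¹ * (g' * z * g'⁻¹) = g' * (z * z) * g'⁻¹ by group, D.zz,
      mul_one, mul_inv_cancel]
  have hback : ∀ a : G, a ∈ D.CC 21 ↔
      g' * a * g'⁻¹ ∈ D.CC 1680 ∧ g' * a * g'⁻¹ * D.val m = D.val m * (g' * a * g'⁻¹) := by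
    intro a
    rw [hmt, ← conj_comm_iff]
    refine ⟨fun ha => ⟨himg a ha, (D.mem_CC.1 ha).1⟩, fun ⟨h1, h2⟩ => D.mem_CC.2 ⟨h2, ?_⟩⟩
    refine (conj_comm_iff g' a (D.val 21)).2 ?_
    rw [hgu]
    exact (D.mem_CC.1 h1).2
  have hcent : sCent m = 256 := by
    rw [← centN_small.1, ← D.card_CC hlt, sCent,
      ← D.card_S _ (fun b => b * D.val m = D.val m * b) fun b hb => beq_true_iff.trans
        ⟨D.val_commute (sList_bound hb) hm, D.mul_val_eq (sList_bound hb) hm⟩]
    exact (card_conj g' _ _ hback).symm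
  have hroots : sRoots m 1680 = 16 := by
    rw [← centN_small.2, ← D.roots_CC hlt hlt, sRoots,
      ← D.card_S _ (fun b => b * b = D.val 1680 ∧ b * D.val m = D.val m * b) fun b hb => ?_]
    · refine (card_conj g' _ _ fun a => ?_).symm
      rw [hback a, conj_sq_iff g' a (D.val 21), hgu]
      tauto
    · have hb' := sList_bound hb
      rw [Bool.and_eq_true, beq_true_iff, beq_true_iff, ← D.val_mul b b hb' hb']
      exact ⟨fun ⟨h1, h2⟩ => ⟨by rw [h1], D.val_commute hb' hm h2⟩,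
        fun ⟨h1, h2⟩ => ⟨D.val_inj _ _ (mulN_lt hb' _ _) hlu h1, D.mul_val_eq hb' hm h2⟩⟩
  have hspec := List.all_eq_true.1 sCent_spec m hmS
  simp only [hmm, hcent, hroots, Nat.beq_refl] at hspec
  exact absurd hspec (by decide)

end Cen

/-- B2: the fusion visible inside the centraliser. -/
theorem basic_fusion : StmtBasic.{u} := fun _ D h =>
  ⟨h, D.fusion_u (Or.inl rfl), D.fusion_u (Or.inr rfl),
    D.fusion_syl h h168 syl168 (by norm_num)
      (D.val_invol (by norm_num) (by decide +kernel) (by norm_num)),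
    D.fusion_syl h h1344 syl1344 (by norm_num)
      (D.val_invol (by norm_num) (by decide +kernel) (by norm_num)),
    D.fusion_21 h⟩

end CfsgLib.Spor.HeRecog
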