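import Cfsg.Agent.Lib.Spor.HeRecog.Setup

/-!
# The swap invariants of an involution in the centraliser

If `val x` is conjugate to `z`, an element of `G` carries the pair `(val x, z)` to `(z, val y)`,
so the numbers of square roots in the centraliser of the pair of `x` and of `y` correspond.
-/

set_option autoImplicit false
set_option maxRecDepth 100000

namespace CfsgLib.Spor.HeRecog

universe u

/-- the number of the numbers below a bound with a property -/
def countN : Nat → (Nat → Bool) → Nat
  | 0, _ => 0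
  | n + 1, f => Nat.add (bif f n then 1 else 0) (countN n f)

theorem countN_eq (f : Nat → Bool) : ∀ n, countN n f = Nat.count (fun i => f i = true) n
  | 0 => rfl
  | n + 1 => by
    rw [countN, Nat.count_succ, countN_eq f n]
    cases f n <;> simp [Nat.add_comm]

/-- the sum below a bound -/
def sumN : Nat → (Nat → Nat) → Nat
  | 0, _ => 0
  | n + 1, f => Nat.add (f n) (sumN n f)

/-- the number of elements of a model with a property -/
def countEls (f : Nat → Bool) : Nat :=
  sumN 128 fun q => countN 168 fun j => f (Nat.add (Nat.mul 168 q) j)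

theorem sumN_count (f : Nat → Bool) (b : Nat) : ∀ a,
    (sumN a fun q => countN b fun j => f (Nat.add (Nat.mul b q) j)) =
      Nat.count (fun i => f i = true) (b * a)
  | 0 => by simp [sumN]
  | a + 1 => by
    rw [sumN, Nat.mul_succ, Nat.count_add, sumN_count f b a, countN_eq, Nat.add_eq, Nat.add_comm]
    rfl

theorem countEls_eq (f : Nat → Bool) :
    countEls f = Nat.count (fun i => f i = true) 21504 :=
  sumN_count f 168 128

/-- the order of the centraliser of `x` in the model -/
def centN (k x : Nat) : Nat := countEls fun m => Nat.beq (mulN k m x) (mulN k x m)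

/-- the number of square roots of `w` in the centraliser of `x` in the model -/
def rootsN (k x w : Nat) : Nat :=
  countEls fun m => Nat.beq (mulN k m m) w && Nat.beq (mulN k m x) (mulN k x m)

theorem beq_true_iff {a b : Nat} : Nat.beq a b = true ↔ a = b :=
  ⟨Nat.eq_of_beq_eq_true, fun h => h ▸ Nat.beq_refl a⟩

namespace Cen

variable {k : ℕ} {G : Type u} [Group G] {z : G} (D : Cen k z)
include D

omit D in
theorem zN_lt : zN < 21504 := by norm_num [zN]

theorem card_set (p : Nat → Bool) (q : G → Prop)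
    (h : ∀ m < 21504, (p m = true ↔ q (D.val m))) :
    Nat.card {g : G // g * z = z * g ∧ q g} = countEls p := by
  classical
  have : Fintype {k : ℕ // k < 21504 ∧ p k = true} := Nat.CountSet.fintype (fun i => p i = true) _
  rw [countEls_eq, Nat.count_eq_card_fintype, Fintype.card_eq_nat_card]
  symm
  refine Nat.card_congr (Equiv.ofBijective
    (fun m => ⟨D.val m.1, D.val_comm _ m.2.1, (h _ m.2.1).1 m.2.2⟩) ⟨fun a b e => ?_, ?_⟩)
  · exact Subtype.ext (D.val_inj _ _ a.2.1 b.2.1 (congrArg Subtype.val e))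
  · rintro ⟨g, hg, hq⟩
    obtain ⟨m, hm, rfl⟩ := D.val_surj g hg
    exact ⟨⟨m, hm, (h m hm).2 hq⟩, rfl⟩

theorem card_centN {x : ℕ} (hx : x < 21504) :
    Nat.card {g : G // g * z = z * g ∧ g * D.val x = D.val x * g} = centN k x :=
  D.card_set _ (fun g => g * D.val x = D.val x * g) fun _ hm => beq_true_iff.trans
    ⟨D.val_commute hm hx, D.mul_val_eq hm hx⟩

theorem card_rootsN {x w : ℕ} (hx : x < 21504) (hw : w < 21504) :
    Nat.card {g : G // g * z = z * g ∧ g * g = D.val w ∧ g * D.val x = D.val x * g} =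
      rootsN k x w :=
  D.card_set _ (fun g => g * g = D.val w ∧ g * D.val x = D.val x * g) fun m hm => by
    rw [Bool.and_eq_true, beq_true_iff, beq_true_iff]
    constructor
    · rintro ⟨h1, h2⟩
      exact ⟨by rw [← D.val_mul m m hm hm, h1], D.val_commute hm hx h2⟩
    · rintro ⟨h1, h2⟩
      exact ⟨D.val_inj _ _ (mulN_lt hm _ _) hw (by rw [D.val_mul m m hm hm, h1]),
        D.mul_val_eq hm hx h2⟩

omit D in
/-- conjugation as a bijection of sets of elements -/
theorem card_conj (g : G) (P Q : G → Prop) (h : ∀ a, P a ↔ Q (g * a * g⁻¹)) :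
    Nat.card {a : G // P a} = Nat.card {a : G // Q a} :=
  Nat.card_congr ((MulAut.conj g).toEquiv.subtypeEquiv h)

omit D in
theorem conj_comm_iff (g a b : G) :
    a * b = b * a ↔ (g * a * g⁻¹) * (g * b * g⁻¹) = (g * b * g⁻¹) * (g * a * g⁻¹) := by
  simp only [← map_mul, ← MulAut.conj_apply, EquivLike.apply_eq_iff_eq]

omit D in
theorem conj_sq_iff (g a b : G) :
    a * a = b ↔ (g * a * g⁻¹) * (g * a * g⁻¹) = g * b * g⁻¹ := by
  simp only [← map_mul, ← MulAut.conj_apply, EquivLike.apply_eq_iff_eq]

/-- The numbers are constant on classes of the model. -/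
theorem centN_cj {n x : ℕ} (hn : n < 21504) (hx : x < 21504) :
    centN k (cjN k n x) = centN k x := by
  rw [← D.card_centN hx, ← D.card_centN (cjN_lt hn k x), D.val_cj hn hx]
  refine (card_conj (D.val n) _ _ fun a => ?_).symm
  rw [conj_comm_iff (D.val n) a z, conj_comm_iff (D.val n) a (D.val x),
    show D.val n * z * (D.val n)⁻¹ = z by rw [D.val_comm n hn, mul_inv_cancel_right]]

theorem rootsN_cj {n x w : ℕ} (hn : n < 21504) (hx : x < 21504) (hw : w < 21504) :
    rootsN k (cjN k n x) (cjN k n w) = rootsN k x w := by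
  rw [← D.card_rootsN hx hw, ← D.card_rootsN (cjN_lt hn k x) (cjN_lt hn k w), D.val_cj hn hx,
    D.val_cj hn hw]
  refine (card_conj (D.val n) _ _ fun a => ?_).symm
  rw [conj_comm_iff (D.val n) a z, conj_comm_iff (D.val n) a (D.val x),
    conj_sq_iff (D.val n) a (D.val w),
    show D.val n * z * (D.val n)⁻¹ = z by rw [D.val_comm n hn, mul_inv_cancel_right]]

theorem cjN_zN {n : ℕ} (hn : n < 21504) : cjN k n zN = zN :=
  D.val_inj _ _ (cjN_lt hn k zN) zN_lt (by
    rw [D.val_cj hn zN_lt, D.val_z, D.val_comm n hn, mul_inv_cancel_right])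

/-- **The swap**: a conjugate `val x ≠ z` of `z` in the centraliser has a partner `val y` with
an element carrying `(val x, z)` to `(z, val y)`; the invariants correspond. -/
theorem exists_swap {x : ℕ} (hx : x < 21504) (hT : IsConj (D.val x) z) (hne : x ≠ zN) :
    ∃ y < 21504, y ≠ zN ∧ IsConj (D.val y) z ∧
      (∃ g : G, g * D.val x * g⁻¹ = z ∧ g * z * g⁻¹ = D.val y) ∧
      centN k y = centN k x ∧ rootsN k y y = rootsN k x zN ∧ rootsN k y zN = rootsN k x x ∧
      rootsN k y (mulN k zN y) = rootsN k x (mulN k zN x) := by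
  obtain ⟨g, hg⟩ := isConj_iff.1 hT
  have hc : g * z * g⁻¹ * z = z * (g * z * g⁻¹) := by
    have h := (conj_comm_iff g (D.val x) z).1 (D.val_comm x hx)
    rw [hg] at h
    exact h.symm
  obtain ⟨y, hy, hyv⟩ := D.val_surj _ hc
  have hswap : ∀ a, a * z = z * a ∧ a * D.val x = D.val x * a ↔
      (g * a * g⁻¹) * z = z * (g * a * g⁻¹) ∧
        (g * a * g⁻¹) * D.val y = D.val y * (g * a * g⁻¹) := by
    intro a
    rw [conj_comm_iff g a z, conj_comm_iff g a (D.val x), hg, ← hyv, and_comm]
  have hroots : ∀ w w' : ℕ, w < 21504 → w' < 21504 → g * D.val w * g⁻¹ = D.val w' →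
      rootsN k y w' = rootsN k x w := by
    intro w w' hw hw' e
    rw [← D.card_rootsN hx hw, ← D.card_rootsN hy hw']
    refine (card_conj g _ _ fun a => ?_).symm
    rw [← e, ← conj_sq_iff]
    have := hswap a
    tauto
  refine ⟨y, hy, fun e => hne ?_, ?_, ⟨g, hg, hyv.symm⟩, ?_, ?_, ?_, ?_⟩
  · refine D.val_inj _ _ hx zN_lt ?_
    rw [D.val_z]
    rw [e, D.val_z] at hyv
    exact mul_left_cancel (mul_right_cancel (hg.trans hyv))
  · exact hyv ▸ (isConj_iff.2 ⟨g, rfl⟩ : IsConj z (g * z * g⁻¹)).symm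
  · rw [← D.card_centN hx, ← D.card_centN hy]
    exact (card_conj g _ _ hswap).symm
  · exact hroots zN y zN_lt hy (by rw [D.val_z, hyv])
  · exact hroots x zN hx zN_lt (by rw [D.val_z, hg])
  · refine hroots _ _ (mulN_lt zN_lt k x) (mulN_lt zN_lt k y) ?_
    rw [D.val_mul _ _ zN_lt hx, D.val_mul _ _ zN_lt hy, D.val_z, hyv,
      show g * (z * D.val x) * g⁻¹ = (g * z * g⁻¹) * (g * D.val x * g⁻¹) by group, hg, hc]

end Cen

end CfsgLib.Spor.HeRecog
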