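import Mathlib.Init

/-!
# The outer automorphism of the split model on the quotient of order 168
-/

set_option autoImplicit false
set_option linter.all false
set_option maxRecDepth 100000

namespace CfsgLib.Spor.HeRecog

/-- images of the elements of the quotient under `F ↦ F⁻¹, H ↦ H, T ↦ T` -/
def mT : Nat := 0x2f2e2d3231303534333837363b3a393e3d3c2c2b2a4443424746454a49484d4c4b504f4e53525141403f5958575c5b5a5f5e5d6261606564636867665655546e6d6c71706f7473727776757a79787d7c7b6b6a698382818685848988878c8b8a8f8e8d929190807f7e9897969b9a999e9d9ca1a09fa4a3a2a7a6a59594931a19181d1c1b201f1e2322212625242928271716150504030807060b0a090e0d0c11100f141312020100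

end CfsgLib.Spor.HeRecog
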