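import Cfsg.Agent.Lib.Spor.HeRecog.Interface
import Cfsg.Agent.Lib.Spor.HeRecog.MirrorData

/-!
# The outer automorphism of the split untwisted model
-/

set_option autoImplicit false
set_option maxRecDepth 100000
set_option maxHeartbeats 1000000

namespace CfsgLib.Spor.HeRecog

universe u

/-- exchange the two halves of an element of the extraspecial group -/
def qSwap (q : Nat) : Nat :=
  Nat.xor
    (Nat.add (Nat.add (Nat.shiftLeft (Nat.mod q 8) 3) (Nat.mod (Nat.shiftRight q 3) 8))
      (Nat.shiftLeft (Nat.mod (Nat.shiftRight q 6) 2) 6))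
    (Nat.shiftLeft (qSign q q) 6)

/-- the automorphism on the quotient -/
def pMir (k : Nat) : Nat := Nat.mod (byteAt mT k) 168

/-- the automorphism of the model -/
def mirN (m : Nat) : Nat :=
  Nat.add (Nat.mul 168 (qSwap (Nat.div m 168))) (pMir (Nat.mod m 168))

theorem qSwap_check : allN 128 (fun a => Nat.ble (qSwap a) 127 && Nat.beq (qSwap (qSwap a)) a &&
    allN 128 fun b => Nat.beq (qSwap (qMul a b)) (qMul (qSwap a) (qSwap b))) = true := by
  decide +kernel

theorem pMir_check : allN 168 (fun a => Nat.beq (pMir (pMir a)) a &&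
    allN 168 fun b => Nat.beq (pMir (pMul a b)) (pMul (pMir a) (pMir b))) = true := by
  decide +kernel

theorem mir_act_check : allN 168 (fun a => allN 128 fun q =>
    Nat.beq (qSwap (qAct 0 a q)) (qAct 0 (pMir a) (qSwap q))) = true := by
  decide +kernel

theorem qSwap_lt {a : Nat} (ha : a < 128) : qSwap a < 128 := by
  have h := allN_spec qSwap_check a ha
  simp only [Bool.and_eq_true] at h
  exact Nat.lt_succ_of_le (Nat.le_of_ble_eq_true h.1.1)

theorem qSwap_qSwap {a : Nat} (ha : a < 128) : qSwap (qSwap a) = a := by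
  have h := allN_spec qSwap_check a ha
  simp only [Bool.and_eq_true] at h
  exact Nat.eq_of_beq_eq_true h.1.2

theorem qSwap_mul {a b : Nat} (ha : a < 128) (hb : b < 128) :
    qSwap (qMul a b) = qMul (qSwap a) (qSwap b) := by
  have h := allN_spec qSwap_check a ha
  simp only [Bool.and_eq_true] at h
  exact Nat.eq_of_beq_eq_true (allN_spec h.2 b hb)

theorem pMir_lt (a : Nat) : pMir a < 168 := Nat.mod_lt _ (by norm_num)

theorem mirN_lt {m : Nat} (hm : m < 21504) : mirN m < 21504 := by
  have h1 := qSwap_lt (show m / 168 < 128 by omega)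
  have h2 := pMir_lt (m % 168)
  show 168 * qSwap (m / 168) + pMir (m % 168) < 21504
  omega

theorem mirN_div {m : Nat} : mirN m / 168 = qSwap (m / 168) ∧ mirN m % 168 = pMir (m % 168) := by
  have h2 := pMir_lt (m % 168)
  show (168 * qSwap (m / 168) + pMir (m % 168)) / 168 = _ ∧
    (168 * qSwap (m / 168) + pMir (m % 168)) % 168 = _
  omega

theorem mirN_mirN {m : Nat} (hm : m < 21504) : mirN (mirN m) = m := by
  obtain ⟨e1, e2⟩ := mirN_div (m := m)
  have h := allN_spec pMir_check (m % 168) (Nat.mod_lt _ (by norm_num))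
  simp only [Bool.and_eq_true] at h
  have e3 := Nat.eq_of_beq_eq_true h.1
  show 168 * qSwap (mirN m / 168) + pMir (mirN m % 168) = m
  rw [e1, e2, e3, qSwap_qSwap (by omega)]
  omega

theorem coc_zero (a b : Nat) : coc 0 a b = 0 := Nat.zero_mul _

theorem mulN_zero_eq (m n : Nat) : mulN 0 m n =
    qMul (m / 168) (qAct 0 (m % 168) (n / 168)) * 168 + pMul (m % 168) (n % 168) := by
  show Nat.xor (qMul (m / 168) (qAct 0 (m % 168) (n / 168)))
    (Nat.shiftLeft (coc 0 (m % 168) (n % 168)) 6) * 168 + pMul (m % 168) (n % 168) = _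
  rw [coc_zero]
  show (qMul (m / 168) (qAct 0 (m % 168) (n / 168)) ^^^ (0 <<< 6)) * 168 + _ = _
  rw [Nat.zero_shiftLeft, Nat.xor_zero]

theorem mirN_mul {m n : Nat} (hm : m < 21504) (hn : n < 21504) :
    mirN (mulN 0 m n) = mulN 0 (mirN m) (mirN n) := by
  rw [mulN_zero_eq, mulN_zero_eq, mirN_div.1, mirN_div.1, mirN_div.2, mirN_div.2]
  obtain ⟨q, hq⟩ : ∃ q, q = qAct 0 (m % 168) (n / 168) := ⟨_, rfl⟩
  have hq' : q < 128 := hq ▸ qAct_lt _ _ _
  have hp := pMul_lt (m % 168) (n % 168)
  have hm' : m / 168 < 128 := by omega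
  have e1 : qSwap q = qAct 0 (pMir (m % 168)) (qSwap (n / 168)) := by
    rw [hq]
    exact Nat.eq_of_beq_eq_true (allN_spec (allN_spec mir_act_check (m % 168)
      (Nat.mod_lt _ (by norm_num))) (n / 168) (by omega))
  have h := allN_spec pMir_check (m % 168) (Nat.mod_lt _ (by norm_num))
  simp only [Bool.and_eq_true] at h
  have e2 := Nat.eq_of_beq_eq_true (allN_spec h.2 (n % 168) (Nat.mod_lt _ (by norm_num)))
  rw [← e1, ← qSwap_mul hm' hq', ← e2, ← hq]
  show 168 * qSwap ((qMul (m / 168) q * 168 + pMul (m % 168) (n % 168)) / 168) +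
    pMir ((qMul (m / 168) q * 168 + pMul (m % 168) (n % 168)) % 168) = _
  rw [show (qMul (m / 168) q * 168 + pMul (m % 168) (n % 168)) / 168 = qMul (m / 168) q by omega,
    show (qMul (m / 168) q * 168 + pMul (m % 168) (n % 168)) % 168 = pMul (m % 168) (n % 168)
      by omega]
  omega

/-- The centraliser seen through the outer automorphism. -/
def Cen.mirror {G : Type u} [Group G] {z : G} (D : Cen 0 z) : Cen 0 z where
  hk := D.hk
  ord := D.ord
  val m := D.val (mirN m)
  val_mul m n hm hn := by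
    rw [mirN_mul hm hn, D.val_mul _ _ (mirN_lt hm) (mirN_lt hn)]
  val_comm m hm := D.val_comm _ (mirN_lt hm)
  val_inj m n hm hn h := by
    have := congrArg mirN (D.val_inj _ _ (mirN_lt hm) (mirN_lt hn) h)
    rwa [mirN_mirN hm, mirN_mirN hn] at this
  val_surj g hg := by
    obtain ⟨m, hm, rfl⟩ := D.val_surj g hg
    exact ⟨mirN m, mirN_lt hm, congrArg D.val (mirN_mirN hm)⟩
  val_z := by
    rw [show mirN zN = zN by decide +kernel, D.val_z]

theorem mirror_classes : mirN 21 = 21 ∧ mirN 168 = 1344 ∧ mirN 1344 = 168 ∧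
    mirN 190 = 1366 ∧ clsOf 0 1680 ≠ [] ∧ (clsOf 0 1680).any (Nat.beq (mirN 1680)) = true ∧
    (clsOf 0 1777).any (Nat.beq (mirN 1777)) = true := by decide +kernel

theorem mirror_basic {G : Type u} [Group G] {z : G} {D : Cen 0 z} (h : Basic D) :
    Basic D.mirror := by
  obtain ⟨e21, e168, e1344, -, -, h5, h7⟩ := mirror_classes
  have hc : ∀ a b : ℕ, (clsOf 0 a).any (Nat.beq b) = true → ¬ IsConj (D.val a) z →
      ¬ IsConj (D.val b) z := by
    intro a b hab hn hb
    obtain ⟨x, hx, hxb⟩ := List.any_eq_true.1 hab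
    rw [← Nat.eq_of_beq_eq_true hxb] at hx
    exact hn ((D.cls_isConj hx).trans hb)
  exact ⟨h.hyp, hc _ _ h5 h.u1680, hc _ _ h7 h.u1777,
    show IsConj (D.val (mirN 168)) z by rw [e168]; exact h.t1344,
    show IsConj (D.val (mirN 1344)) z by rw [e1344]; exact h.t168,
    show IsConj (D.val (mirN 21)) z by rw [e21]; exact h.t21⟩

/-- All classes outside `1680` and `1777` are fused to `z`, given the two steps on an unfused
class `190`. -/
theorem fus_of_steps (hsix : StmtSix.{u}) (hnot : StmtNotSix.{u}) {G : Type u} [Group G] [Finite G]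
    {z : G} (D : Cen 0 z) (h : Basic D) : Fus D := by
  have key : ∀ E : Cen 0 z, Basic E → IsConj (E.val 190) z := by
    intro E hE
    by_contra hn
    obtain ⟨S⟩ := hsix z E hE hn
    exact hnot z E hE S
  refine ⟨h, key D h, ?_⟩
  have h' : IsConj (D.val (mirN 190)) z := key D.mirror (mirror_basic h)
  rwa [mirror_classes.2.2.2.1] at h'

end CfsgLib.Spor.HeRecog
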