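import Cfsg.Agent.Lib.Spor.HeRecog.Swap

/-!
# The swap invariants of the models other than the split untwisted one

An entry `(a, r, s)`: in the centraliser of the class representative `a` there are `r` square
roots of `z` and `s` square roots of `a`.
-/

set_option autoImplicit false
set_option maxRecDepth 100000

namespace CfsgLib.Spor.HeRecog

/-- the invariants of the classes of the models 1, 2, 3 -/
def sigTbl : Nat → List (Nat × Nat × Nat)
  | 1 => [(168, 192, 48), (1344, 192, 48), (1534, 32, 8), (1680, 112, 16)]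
  | 2 => [(21, 56, 8), (168, 192, 48), (1344, 72, 0)]
  | 3 => [(168, 48, 48), (190, 16, 8), (1344, 24, 0), (1404, 8, 0)]
  | _ => []

/-- the check of an entry -/
def sigOK (k : Nat) (t : Nat × Nat × Nat) : Bool :=
  Nat.beq (rootsN k t.1 zN) t.2.1 && Nat.beq (rootsN k t.1 t.1) t.2.2

theorem sig_one : (sigTbl 1).all (sigOK 1) = true := by decide +kernel

theorem sig_two : (sigTbl 2).all (sigOK 2) = true := by decide +kernel

theorem sig_three : (sigTbl 3).all (sigOK 3) = true := by decide +kernel

theorem sig_reps : ∀ k ∈ [1, 2, 3], ∀ p ∈ clsL k,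
    p.1 = zN ∨ (sigTbl k).any (fun t => t.1 == p.1) = true := by decide +kernel

theorem sig_spec {k : Nat} (hk : k = 1 ∨ k = 2 ∨ k = 3) {t : Nat × Nat × Nat}
    (ht : t ∈ sigTbl k) : rootsN k t.1 zN = t.2.1 ∧ rootsN k t.1 t.1 = t.2.2 := by
  have h : (sigTbl k).all (sigOK k) = true := by
    rcases hk with rfl | rfl | rfl
    exacts [sig_one, sig_two, sig_three]
  have := List.all_eq_true.1 h t ht
  rw [sigOK, Bool.and_eq_true, beq_true_iff, beq_true_iff] at this
  exact this

theorem clsOf_zN : ∀ k ∈ List.range 4, clsOf k zN = [zN] := by decide +kernel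

/-- no class of the models 1, 2 has a partner, and only `168` in the model 3 -/
theorem sig_partner : ∀ k ∈ [1, 2, 3], ∀ a ∈ sigTbl k, ∀ b ∈ sigTbl k,
    b.2.2 = a.2.1 → b.2.1 = a.2.2 → k = 3 ∧ a.1 = 168 := by decide +kernel

end CfsgLib.Spor.HeRecog
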