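import Cfsg.Agent.Lib.Spor.HeRecog.Swap

/-!
# Data for the fusion visible in the split untwisted model
-/

set_option autoImplicit false
set_option maxRecDepth 100000
-- one kernel computation at a time: each scan of a model needs about two gigabytes
set_option Elab.async false

namespace CfsgLib.Spor.HeRecog

/-- the centraliser of `1680` in the model -/
def sList : List Nat :=
  [0, 26, 60, 80, 97, 116, 132, 149, 336, 362, 396, 416,
   433, 452, 468, 485, 672, 698, 732, 752, 769, 788, 804, 821,
   1008, 1034, 1068, 1088, 1105, 1124, 1140, 1157, 1344, 1370, 1404, 1424,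
   1441, 1460, 1476, 1493, 1680, 1706, 1740, 1760, 1777, 1796, 1812, 1829,
   2016, 2042, 2076, 2096, 2113, 2132, 2148, 2165, 2352, 2378, 2412, 2432,
   2449, 2468, 2484, 2501, 2856, 2882, 2916, 2936, 2953, 2972, 2988, 3005,
   3192, 3218, 3252, 3272, 3289, 3308, 3324, 3341, 3528, 3554, 3588, 3608,
   3625, 3644, 3660, 3677, 3864, 3890, 3924, 3944, 3961, 3980, 3996, 4013,
   4200, 4226, 4260, 4280, 4297, 4316, 4332, 4349, 4536, 4562, 4596, 4616,
   4633, 4652, 4668, 4685, 4872, 4898, 4932, 4952, 4969, 4988, 5004, 5021,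
   5208, 5234, 5268, 5288, 5305, 5324, 5340, 5357, 5376, 5402, 5436, 5456,
   5473, 5492, 5508, 5525, 5712, 5738, 5772, 5792, 5809, 5828, 5844, 5861,
   6048, 6074, 6108, 6128, 6145, 6164, 6180, 6197, 6384, 6410, 6444, 6464,
   6481, 6500, 6516, 6533, 6720, 6746, 6780, 6800, 6817, 6836, 6852, 6869,
   7056, 7082, 7116, 7136, 7153, 7172, 7188, 7205, 7392, 7418, 7452, 7472,
   7489, 7508, 7524, 7541, 7728, 7754, 7788, 7808, 7825, 7844, 7860, 7877,
   8232, 8258, 8292, 8312, 8329, 8348, 8364, 8381, 8568, 8594, 8628, 8648,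
   8665, 8684, 8700, 8717, 8904, 8930, 8964, 8984, 9001, 9020, 9036, 9053,
   9240, 9266, 9300, 9320, 9337, 9356, 9372, 9389, 9576, 9602, 9636, 9656,
   9673, 9692, 9708, 9725, 9912, 9938, 9972, 9992, 10009, 10028, 10044, 10061,
   10248, 10274, 10308, 10328, 10345, 10364, 10380, 10397, 10584, 10610, 10644, 10664,
   10681, 10700, 10716, 10733, 10752, 10778, 10812, 10832, 10849, 10868, 10884, 10901,
   11088, 11114, 11148, 11168, 11185, 11204, 11220, 11237, 11424, 11450, 11484, 11504,
   11521, 11540, 11556, 11573, 11760, 11786, 11820, 11840, 11857, 11876, 11892, 11909,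
   12096, 12122, 12156, 12176, 12193, 12212, 12228, 12245, 12432, 12458, 12492, 12512,
   12529, 12548, 12564, 12581, 12768, 12794, 12828, 12848, 12865, 12884, 12900, 12917,
   13104, 13130, 13164, 13184, 13201, 13220, 13236, 13253, 13608, 13634, 13668, 13688,
   13705, 13724, 13740, 13757, 13944, 13970, 14004, 14024, 14041, 14060, 14076, 14093,
   14280, 14306, 14340, 14360, 14377, 14396, 14412, 14429, 14616, 14642, 14676, 14696,
   14713, 14732, 14748, 14765, 14952, 14978, 15012, 15032, 15049, 15068, 15084, 15101,
   15288, 15314, 15348, 15368, 15385, 15404, 15420, 15437, 15624, 15650, 15684, 15704,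
   15721, 15740, 15756, 15773, 15960, 15986, 16020, 16040, 16057, 16076, 16092, 16109,
   16128, 16154, 16188, 16208, 16225, 16244, 16260, 16277, 16464, 16490, 16524, 16544,
   16561, 16580, 16596, 16613, 16800, 16826, 16860, 16880, 16897, 16916, 16932, 16949,
   17136, 17162, 17196, 17216, 17233, 17252, 17268, 17285, 17472, 17498, 17532, 17552,
   17569, 17588, 17604, 17621, 17808, 17834, 17868, 17888, 17905, 17924, 17940, 17957,
   18144, 18170, 18204, 18224, 18241, 18260, 18276, 18293, 18480, 18506, 18540, 18560,
   18577, 18596, 18612, 18629, 18984, 19010, 19044, 19064, 19081, 19100, 19116, 19133,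
   19320, 19346, 19380, 19400, 19417, 19436, 19452, 19469, 19656, 19682, 19716, 19736,
   19753, 19772, 19788, 19805, 19992, 20018, 20052, 20072, 20089, 20108, 20124, 20141,
   20328, 20354, 20388, 20408, 20425, 20444, 20460, 20477, 20664, 20690, 20724, 20744,
   20761, 20780, 20796, 20813, 21000, 21026, 21060, 21080, 21097, 21116, 21132, 21149,
   21336, 21362, 21396, 21416, 21433, 21452, 21468, 21485]

theorem sList_sub : sList.all (fun m => Nat.beq (mulN 0 m 1680) (mulN 0 1680 m)) = true := by
  decide +kernel

theorem sList_sup : allEls (fun m =>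
    !(Nat.beq (mulN 0 m 1680) (mulN 0 1680 m)) || sList.any (Nat.beq m)) = true := by
  decide +kernel

theorem sList_lt : sList.all (fun m => Nat.blt m 21504) = true := by decide +kernel

theorem sList_chain : sList.IsChain (· < ·) := by decide +kernel

theorem sList_nodup : sList.Nodup :=
  (List.isChain_iff_pairwise.1 sList_chain).imp fun h => Nat.ne_of_lt h

/-- the number of square roots of `w` in the centraliser of `1680` commuting with `m` -/
def sRoots (m w : Nat) : Nat :=
  (sList.filter fun a => Nat.beq (mulN 0 a a) w && Nat.beq (mulN 0 a m) (mulN 0 m a)).length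

/-- the number of elements of the centraliser of `1680` commuting with `m` -/
def sCent (m : Nat) : Nat :=
  (sList.filter fun a => Nat.beq (mulN 0 a m) (mulN 0 m a)).length

theorem sCent_spec : sList.all (fun m =>
    !(Nat.beq (mulN 0 m m) 0) || !(Nat.beq (sCent m) 256) || Nat.beq (sRoots m 1680) 0) = true := by
  decide +kernel

theorem sRoots_self : sList.length = 512 ∧ sRoots 0 1680 = 16 := by decide +kernel

/-- the top of a Sylow subgroup of the centraliser of `168` -/
def h168 : List Nat := [0, 41, 44, 78, 98, 115, 134, 150]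

/-- the top of a Sylow subgroup of the centraliser of `1344` -/
def h1344 : List Nat := [0, 22, 62, 80, 97, 109, 132, 157]

/-- membership in the preimage of `h` in the centraliser of `x` -/
def inSyl (x : Nat) (h : List Nat) (m : Nat) : Bool :=
  h.any (Nat.beq (Nat.mod m 168)) && Nat.beq (mulN 0 m x) (mulN 0 x m)

/-- `h` is a subgroup, its preimage in the centraliser of `x` has order 512 and 48 roots of `x` -/
def sylOK (x : Nat) (h : List Nat) : Bool :=
  h.any (Nat.beq 0) && h.all (fun a => h.any (Nat.beq (pInv a)) &&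
    h.all (fun b => h.any (Nat.beq (pMul a b)))) &&
  Nat.beq (countEls (inSyl x h)) 512 &&
  Nat.beq (countEls fun m => Nat.beq (mulN 0 m m) x && inSyl x h m) 48

theorem syl168 : sylOK 168 h168 = true := by decide +kernel

theorem syl1344 : sylOK 1344 h1344 = true := by decide +kernel

/-- the invariants of the classes of the model 0 -/
def sigZero : List (Nat × Nat × Nat) :=
  [(21, 16, 16), (168, 48, 48), (190, 8, 8), (1344, 48, 48), (1366, 8, 8), (1680, 32, 16),
   (1777, 16, 0)]

theorem sigZero_spec : sigZero.all (fun t =>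
    Nat.beq (rootsN 0 t.1 zN) t.2.1 && Nat.beq (rootsN 0 t.1 t.1) t.2.2) = true := by
  decide +kernel

theorem sigZero_reps : ∀ p ∈ clsL 0, p.1 = zN ∨ sigZero.any (fun t => t.1 == p.1) = true := by
  decide +kernel

theorem sigZero_partner : ∀ a ∈ sigZero, a.1 = 1680 ∨ a.1 = 1777 →
    ∀ b ∈ sigZero, b.2.2 = a.2.1 → b.2.1 = a.2.2 → False := by decide +kernel

theorem centN_21 : Nat.beq (centN 0 21) 256 = true := by decide +kernel

theorem centN_168 : Nat.beq (centN 0 168) 1536 = true := by decide +kernel

theorem centN_190 : Nat.beq (centN 0 190) 128 = true := by decide +kernel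

theorem centN_1344 : Nat.beq (centN 0 1344) 1536 = true := by decide +kernel

theorem centN_1366 : Nat.beq (centN 0 1366) 128 = true := by decide +kernel

theorem centN_1680 : Nat.beq (centN 0 1680) 512 = true := by decide +kernel

theorem centN_1777 : Nat.beq (centN 0 1777) 256 = true := by decide +kernel

theorem rootsN_21 : Nat.beq (rootsN 0 21 21) 16 = true := by decide +kernel

theorem centN_sig (t : Nat × Nat × Nat) (ht : t ∈ sigZero) : centN 0 t.1 % 1024 ≠ 0 := by
  simp only [sigZero, List.mem_cons, List.not_mem_nil, or_false] at ht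
  rcases ht with rfl | rfl | rfl | rfl | rfl | rfl | rfl <;>
    simp [beq_true_iff.1 centN_21, beq_true_iff.1 centN_168, beq_true_iff.1 centN_190,
      beq_true_iff.1 centN_1344, beq_true_iff.1 centN_1366, beq_true_iff.1 centN_1680,
      beq_true_iff.1 centN_1777]

theorem centN_small : centN 0 21 = 256 ∧ rootsN 0 21 21 = 16 :=
  ⟨beq_true_iff.1 centN_21, beq_true_iff.1 rootsN_21⟩

end CfsgLib.Spor.HeRecog
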