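import Mathlib

/-!
# A conjugation invariant set of involutions on which commuting is transitive

If the cliques have odd size, then all cliques are conjugate: each contains an element centralised
by a Sylow 2-subgroup. So their number divides the order of the group.
-/

set_option autoImplicit false

namespace CfsgLib.Spor.HeRecog

open Subgroup

universe u

/-- the clique of `a` -/
abbrev Clique {H : Type u} [Group H] (S : H → Prop) (a : H) : Type u :=
  {b : H // S b ∧ a * b = b * a}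

theorem clique_stab_mem {H : Type u} [Group H] (S : H → Prop)
    (hconj : ∀ g a : H, S a → S (g * a * g⁻¹))
    (htr : ∀ a b c : H, S a → S b → S c → a * b = b * a → b * c = c * b → a * c = c * a)
    {a b g : H} (ha : S a) (hb : S b) (hab : a * b = b * a)
    (hg : a * (g * a * g⁻¹) = g * a * g⁻¹ * a) : a * (g * b * g⁻¹) = g * b * g⁻¹ * a := by
  refine htr _ _ _ ha (hconj g a ha) (hconj g b hb) hg ?_
  calc g * a * g⁻¹ * (g * b * g⁻¹) = g * (a * b) * g⁻¹ := by group
    _ = g * (b * a) * g⁻¹ := by rw [hab]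
    _ = _ := by group

/-- each clique contains an element centralised by a Sylow 2-subgroup -/
theorem exists_central_in_clique {H : Type u} [Group H] [Finite H] (S : H → Prop)
    (hinv : ∀ a, S a → orderOf a = 2) (hconj : ∀ g a : H, S a → S (g * a * g⁻¹))
    (htr : ∀ a b c : H, S a → S b → S c → a * b = b * a → b * c = c * b → a * c = c * a)
    {a : H} (ha : S a) (hodd : Odd (Nat.card (Clique S a))) :
    ∃ b, S b ∧ a * b = b * a ∧ ∃ P : Sylow 2 H, b ∈ P ∧ ∀ x ∈ P, x * b = b * x := by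
  have : Fact (Nat.Prime 2) := ⟨Nat.prime_two⟩
  let N : Subgroup H :=
    { carrier := {g | a * (g * a * g⁻¹) = g * a * g⁻¹ * a}
      one_mem' := by simp
      mul_mem' := fun {g h} hg hh => by
        show a * (g * h * a * (g * h)⁻¹) = g * h * a * (g * h)⁻¹ * a
        have := clique_stab_mem S hconj htr ha (hconj h a ha) hh hg
        rw [show g * h * a * (g * h)⁻¹ = g * (h * a * h⁻¹) * g⁻¹ by group]
        exact this
      inv_mem' := fun {g} hg => by
        show a * (g⁻¹ * a * g⁻¹⁻¹) = g⁻¹ * a * g⁻¹⁻¹ * a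
        have h1 : g⁻¹ * (a * (g * a * g⁻¹)) * g = g⁻¹ * (g * a * g⁻¹ * a) * g := by rw [hg]
        calc a * (g⁻¹ * a * g⁻¹⁻¹) = g⁻¹ * (g * a * g⁻¹ * a) * g := by group
          _ = g⁻¹ * (a * (g * a * g⁻¹)) * g := h1.symm
          _ = _ := by group }
  obtain ⟨R⟩ : Nonempty (Sylow 2 N) := inferInstance
  let act : MulAction (R : Subgroup N) (Clique S a) :=
    { smul := fun x b => ⟨((x : N) : H) * b.1 * ((x : N) : H)⁻¹, hconj _ _ b.2.1,
        clique_stab_mem S hconj htr ha b.2.1 b.2.2 (x : N).2⟩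
      one_smul := fun b => Subtype.ext (show (1 : H) * b.1 * 1⁻¹ = b.1 by group)
      mul_smul := fun x y b => Subtype.ext (show
        ((x : N) : H) * ((y : N) : H) * b.1 * (((x : N) : H) * ((y : N) : H))⁻¹ =
          ((x : N) : H) * (((y : N) : H) * b.1 * ((y : N) : H)⁻¹) * ((x : N) : H)⁻¹ by group) }
  obtain ⟨⟨t, htS, hat⟩, ht⟩ :=
    @IsPGroup.nonempty_fixed_point_of_prime_not_dvd_card _ (R : Subgroup N) _ R.isPGroup' _
      (Clique S a) act (fun h2 => (Nat.not_even_iff_odd.2 hodd) (even_iff_two_dvd.2 h2))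
  have hfix : ∀ x ∈ (R : Subgroup N), (x : H) * t = t * x := fun x hx =>
    mul_inv_eq_iff_eq_mul.1 (congrArg Subtype.val (ht ⟨x, hx⟩))
  -- `t` lies in `R`
  have htN : t ∈ N := by
    show a * (t * a * t⁻¹) = t * a * t⁻¹ * a
    rw [← hat, mul_inv_cancel_right]
  let t' : N := ⟨t, htN⟩
  have ht2 : orderOf t' = 2 ^ 1 := by rw [pow_one, ← orderOf_coe]; exact hinv t htS
  have htR : t' ∈ (R : Subgroup N) := by
    have hp : IsPGroup 2 (zpowers t') := IsPGroup.of_card (n := 1) (by rw [Nat.card_zpowers, ht2])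
    have hn : t' ∈ normalizer ((R : Subgroup N) : Set N) := by
      rw [Subgroup.mem_normalizer_iff]
      intro x
      have key : ∀ x ∈ (R : Subgroup N), t' * x * t'⁻¹ = x := fun x hx => Subtype.ext
        (show t * (x : H) * t⁻¹ = x by rw [← hfix x hx, mul_inv_cancel_right])
      constructor
      · intro hx
        show t' * x * t'⁻¹ ∈ (R : Subgroup N)
        rw [key x hx]
        exact hx
      · intro hx
        have h1 := key _ hx
        have h2 : t' * x * t'⁻¹ = x := mul_left_cancel (mul_right_cancel h1)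
        rwa [h2] at hx
    exact (hp.inf_normalizer_sylow R ▸ ⟨mem_zpowers t', hn⟩ :
      t' ∈ zpowers t' ⊓ (R : Subgroup N)).2
  obtain ⟨P, hRP⟩ := (R.isPGroup'.map N.subtype).exists_le_sylow
  refine ⟨t, htS, hat, P, hRP ⟨t', htR, rfl⟩, fun x hx => ?_⟩
  -- `R` is the Sylow subgroup
  have hPN : ∀ y ∈ (P : Subgroup H), y ∈ N → y ∈ (R : Subgroup N).map N.subtype := by
    intro y hy hyN
    have hle : (R : Subgroup N) ≤ (P : Subgroup H).subgroupOf N := fun w hw => hRP ⟨w, hw, rfl⟩
    have := R.is_maximal' (P.isPGroup'.comap_of_injective N.subtype N.subtype_injective) hle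
    exact ⟨⟨y, hyN⟩, this ▸ (show (⟨y, hyN⟩ : N) ∈ (P : Subgroup H).subgroupOf N from hy), rfl⟩
  have heq : ((R : Subgroup N).map N.subtype).subgroupOf (P : Subgroup H) = ⊤ := by
    by_contra hne
    have := P.isPGroup'.isNilpotent
    obtain ⟨y, hy1, hy2⟩ := SetLike.exists_of_lt
      (Group.normalizerCondition_of_isNilpotent _ (lt_top_iff_ne_top.2 hne))
    have hmem := (Subgroup.mem_normalizer_iff.1 hy1 ⟨t, hRP ⟨t', htR, rfl⟩⟩).1
      (show (⟨t, _⟩ : (P : Subgroup H)) ∈ ((R : Subgroup N).map N.subtype).subgroupOf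
        (P : Subgroup H) from ⟨t', htR, rfl⟩)
    obtain ⟨w, hw, hwy⟩ : (y : H) * t * (y : H)⁻¹ ∈ (R : Subgroup N).map N.subtype := hmem
    have hcomm : t * ((y : H) * t * (y : H)⁻¹) = (y : H) * t * (y : H)⁻¹ * t := by
      rw [← hwy]
      exact (hfix w hw).symm
    have hyN : (y : H) ∈ N := by
      show a * ((y : H) * a * (y : H)⁻¹) = (y : H) * a * (y : H)⁻¹ * a
      refine (htr _ _ _ (hconj _ a ha) htS ha ?_ hat.symm).symm
      refine htr _ _ _ (hconj _ a ha) (hconj _ t htS) htS ?_ hcomm.symm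
      calc (y : H) * a * (y : H)⁻¹ * ((y : H) * t * (y : H)⁻¹)
          = (y : H) * (a * t) * (y : H)⁻¹ := by group
        _ = (y : H) * (t * a) * (y : H)⁻¹ := by rw [hat]
        _ = _ := by group
    exact hy2 (hPN _ y.2 hyN)
  obtain ⟨w, hw, rfl⟩ := (subgroupOf_eq_top.1 heq) hx
  exact hfix w hw

/-- The cliques are conjugate, so their number divides the group order. -/
theorem clique_contra {H : Type u} [Group H] [Finite H] (S : H → Prop)
    (hinv : ∀ a, S a → orderOf a = 2) (hconj : ∀ g a : H, S a → S (g * a * g⁻¹))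
    (htr : ∀ a b c : H, S a → S b → S c → a * b = b * a → b * c = c * b → a * c = c * a)
    (h0 : ∃ a, S a) (hodd : ∀ a, S a → Odd (Nat.card (Clique S a)))
    (h5 : ∀ a, S a → ¬ 5 ∣ Nat.card (Clique S a))
    (hcard : 192 * Nat.card {a : H // S a} = 5 * Nat.card H) : False := by
  classical
  obtain ⟨a, ha⟩ := h0
  have hmove : ∀ b, S b → ∃ g : H, b * (g * a * g⁻¹) = g * a * g⁻¹ * b := by
    intro b hb
    obtain ⟨a', ha', haa', P, haP, hP⟩ := exists_central_in_clique S hinv hconj htr ha (hodd a ha)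
    obtain ⟨b', hb', hbb', P', hbP', hP'⟩ :=
      exists_central_in_clique S hinv hconj htr hb (hodd b hb)
    obtain ⟨g, hg⟩ := MulAction.exists_smul_eq H P P'
    refine ⟨g, htr _ _ _ hb hb' (hconj g a ha) hbb' ?_⟩
    refine htr _ _ _ hb' (hconj g a' ha') (hconj g a ha) ?_ ?_
    · refine (hP' _ ?_).symm
      rw [← hg]
      exact ⟨a', haP, rfl⟩
    · calc g * a' * g⁻¹ * (g * a * g⁻¹) = g * (a' * a) * g⁻¹ := by group
        _ = g * (a * a') * g⁻¹ := by rw [haa']
        _ = _ := by group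
  let N : Subgroup H :=
    { carrier := {g | a * (g * a * g⁻¹) = g * a * g⁻¹ * a}
      one_mem' := by simp
      mul_mem' := fun {g h} hg hh => by
        show a * (g * h * a * (g * h)⁻¹) = g * h * a * (g * h)⁻¹ * a
        have := clique_stab_mem S hconj htr ha (hconj h a ha) hh hg
        rw [show g * h * a * (g * h)⁻¹ = g * (h * a * h⁻¹) * g⁻¹ by group]
        exact this
      inv_mem' := fun {g} hg => by
        show a * (g⁻¹ * a * g⁻¹⁻¹) = g⁻¹ * a * g⁻¹⁻¹ * a
        have h1 : g⁻¹ * (a * (g * a * g⁻¹)) * g = g⁻¹ * (g * a * g⁻¹ * a) * g := by rw [hg]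
        calc a * (g⁻¹ * a * g⁻¹⁻¹) = g⁻¹ * (g * a * g⁻¹ * a) * g := by group
          _ = g⁻¹ * (a * (g * a * g⁻¹)) * g := h1.symm
          _ = _ := by group }
  let f : (H ⧸ N) × Clique S a → {b : H // S b} :=
    fun x => ⟨x.1.out * x.2.1 * x.1.out⁻¹, hconj _ _ x.2.2.1⟩
  have hf : Function.Bijective f := by
    constructor
    · rintro ⟨q, k⟩ ⟨q', k'⟩ e
      have e' : q.out * k.1 * q.out⁻¹ = q'.out * k'.1 * q'.out⁻¹ := congrArg Subtype.val e
      have hmem : q'.out⁻¹ * q.out ∈ N := by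
        show a * (q'.out⁻¹ * q.out * a * (q'.out⁻¹ * q.out)⁻¹) =
          q'.out⁻¹ * q.out * a * (q'.out⁻¹ * q.out)⁻¹ * a
        have hk : q'.out⁻¹ * q.out * k.1 * (q'.out⁻¹ * q.out)⁻¹ = k'.1 := by
          calc q'.out⁻¹ * q.out * k.1 * (q'.out⁻¹ * q.out)⁻¹
              = q'.out⁻¹ * (q.out * k.1 * q.out⁻¹) * q'.out := by group
            _ = _ := by rw [e']; group
        refine htr _ _ _ ha k'.2.1 (hconj _ a ha) k'.2.2 ?_
        rw [← hk]
        generalize q'.out⁻¹ * q.out = g
        calc g * k.1 * g⁻¹ * (g * a * g⁻¹) = g * (k.1 * a) * g⁻¹ := by group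
          _ = g * (a * k.1) * g⁻¹ := by rw [k.2.2]
          _ = _ := by group
      have hq : q' = q := by
        rw [← QuotientGroup.out_eq' q, ← QuotientGroup.out_eq' q', QuotientGroup.eq]
        exact hmem
      subst hq
      exact Prod.ext rfl (Subtype.ext (mul_left_cancel (mul_right_cancel e')))
    · rintro ⟨b, hb⟩
      obtain ⟨g, hg⟩ := hmove b hb
      obtain ⟨n, hn⟩ := QuotientGroup.mk_out_eq_mul N g
      set q : H := (QuotientGroup.mk g : H ⧸ N).out with hq
      have hk : a * (q⁻¹ * b * q) = q⁻¹ * b * q * a := by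
        have h1 : b * (q * a * q⁻¹) = q * a * q⁻¹ * b := by
          have hn' : g * a * g⁻¹ * (q * a * q⁻¹) = q * a * q⁻¹ * (g * a * g⁻¹) := by
            rw [hn]
            calc g * a * g⁻¹ * (g * n * a * (g * n)⁻¹) = g * (a * (n * a * (n : H)⁻¹)) * g⁻¹ := by
                  group
              _ = g * ((n * a * (n : H)⁻¹) * a) * g⁻¹ := by rw [n.2]
              _ = _ := by group
          exact htr _ _ _ hb (hconj g a ha) (hconj q a ha) hg hn'
        calc a * (q⁻¹ * b * q) = q⁻¹ * (q * a * q⁻¹ * b) * q := by group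
          _ = q⁻¹ * (b * (q * a * q⁻¹)) * q := by rw [h1]
          _ = _ := by group
      refine ⟨(QuotientGroup.mk g, ⟨q⁻¹ * b * q, ?_, hk⟩), Subtype.ext ?_⟩
      · simpa using hconj q⁻¹ b hb
      · show q * (q⁻¹ * b * q) * q⁻¹ = b
        group
  have hc := Nat.card_congr (Equiv.ofBijective f hf)
  rw [Nat.card_prod] at hc
  rw [← hc, ← Subgroup.index_mul_card N] at hcard
  have hi : 0 < N.index := Nat.pos_of_ne_zero Subgroup.index_ne_zero_of_finite
  have h' : N.index * (192 * Nat.card (Clique S a)) = N.index * (5 * Nat.card N) := by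
    rw [← Nat.mul_assoc, Nat.mul_comm N.index 192, ← Nat.mul_assoc N.index, Nat.mul_comm N.index 5,
      Nat.mul_assoc, Nat.mul_assoc]
    exact hcard
  have h'' := Nat.eq_of_mul_eq_mul_left hi h'
  exact h5 a ha ((Nat.Coprime.dvd_mul_left (by norm_num : Nat.Coprime 5 192)).1 ⟨_, h''⟩)

end CfsgLib.Spor.HeRecog
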