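import Cfsg.Agent.Lib.Spor.HeRecog.FrameOrth
import Cfsg.Agent.Lib.ThreeTransp.OutExtraspecial

/-!
# Coordinates of the extraspecial subgroup of the centraliser of an involution

For an extraspecial `Q` of order `2⁷` of plus type, normal and containing its centraliser in the
centraliser of `z`: the map onto bit strings of length six and the action of the centraliser.
-/

set_option autoImplicit false
set_option linter.style.haveILetI false

namespace CfsgLib.Spor.HeRecog.FrameO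

open Equiv CfsgLib.ThreeTransp CfsgLib.ThreeTransp.TwistF2

universe u

/-- Coordinates of the centraliser of `z` and its normal extraspecial subgroup. -/
structure Coord {G : Type u} [Group G] (z : G) (Q : Subgroup G) (f : G → Fin 64)
    (ρ : Subgroup.centralizer ({z} : Set G) →* Perm (Fin 64)) : Prop where
  le : Q ≤ Subgroup.centralizer {z}
  normal : ∀ c ∈ Subgroup.centralizer ({z} : Set G), ∀ q ∈ Q, c * q * c⁻¹ ∈ Q
  z_mem : z ∈ Q
  z_ne : z ≠ 1
  z_sq : z * z = 1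
  f_mul : ∀ q ∈ Q, ∀ r ∈ Q, f (q * r) = vx (f q) (f r)
  f_ker : ∀ q ∈ Q, f q = 0 ↔ q = 1 ∨ q = z
  f_surj : ∀ v, ∃ q ∈ Q, f q = v
  f_sq : ∀ q ∈ Q, q * q = if q6 (f q) then z else 1
  ρ_conj : ∀ (c : Subgroup.centralizer ({z} : Set G)), ∀ q ∈ Q,
    ρ c (f q) = f (c * q * (c : G)⁻¹)
  ρ_ker : ∀ c, ρ c = 1 ↔ (c : G) ∈ Q
  range_le : ρ.range ≤ O
  cent : ∀ c ∈ Subgroup.centralizer ({z} : Set G), (∀ q ∈ Q, c * q = q * c) → c ∈ Q

/-- The vectors of the cocycle model. -/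
abbrev Wv : Type := CfsgLib.LocalEven.Pauli.W 3

/-- the bit string of six coordinates -/
def enc6 (a b c d e g : ZMod 2) : Fin 64 :=
  vx (vx (vx (sel (decide (a = 1)) 1) (sel (decide (b = 1)) 2))
      (vx (sel (decide (c = 1)) 4) (sel (decide (d = 1)) 8)))
    (vx (sel (decide (e = 1)) 16) (sel (decide (g = 1)) 32))

/-- the coordinate map -/
def enc (v : Wv) : Fin 64 :=
  enc6 (v (.inl 0)) (v (.inl 1)) (v (.inl 2)) (v (.inr 0)) (v (.inr 1)) (v (.inr 2))

theorem decide_add : ∀ a b : ZMod 2, decide (a + b = 1) = (decide (a = 1) ^^ decide (b = 1)) := by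
  decide +kernel

theorem enc_add (v w : Wv) : enc (v + w) = vx (enc v) (enc w) := by
  simp only [enc, enc6, Pi.add_apply, decide_add, sel_xor]
  ac_rfl

theorem enc6_zero : ∀ a b c d e g : ZMod 2, enc6 a b c d e g = 0 →
    a = 0 ∧ b = 0 ∧ c = 0 ∧ d = 0 ∧ e = 0 ∧ g = 0 := by decide +kernel

theorem enc6_surj : ∀ x : Fin 64, ∃ a b c d e g : ZMod 2, enc6 a b c d e g = x := by
  decide +kernel

theorem enc6_q6 : ∀ a b c d e g : ZMod 2,
    q6 (enc6 a b c d e g) = decide (d * a + e * b + g * c = 1) := by decide +kernel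

theorem enc_inj : Function.Injective enc := by
  intro v w hvw
  have h : enc (v + w) = 0 := by rw [enc_add, hvw, vx_self]
  obtain ⟨h1, h2, h3, h4, h5, h6⟩ := enc6_zero _ _ _ _ _ _ h
  funext i
  have hi : (v + w) i = 0 := by rcases i with i | i <;> fin_cases i <;> assumption
  have : ∀ a b : ZMod 2, a + b = 0 → a = b := by decide
  exact this _ _ hi

theorem enc_surj (x : Fin 64) : ∃ v : Wv, enc v = x := by
  obtain ⟨a, b, c, d, e, g, h⟩ := enc6_surj x
  exact ⟨Sum.elim ![a, b, c] ![d, e, g], h⟩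

theorem enc_zero : enc 0 = 0 := by decide +kernel

theorem enc_q6 (v : Wv) : q6 (enc v) = decide (beta 2 0 v v = 1) := by
  rw [enc, enc6_q6, beta_apply, CfsgLib.LocalEven.Pauli.coc, Fin.sum_univ_three, zero_mul,
    add_zero]

/-- the coordinates as an equivalence -/
noncomputable def encEquiv : Wv ≃ Fin 64 := Equiv.ofBijective enc ⟨enc_inj, enc_surj⟩

/-- the action of the centraliser preserves sum and form -/
theorem range_le_of {G : Type*} [Group G] {z : G} {Q : Subgroup G} {f : G → Fin 64}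
    {ρ : Subgroup.centralizer ({z} : Set G) →* Perm (Fin 64)}
    (hn : ∀ c ∈ Subgroup.centralizer ({z} : Set G), ∀ q ∈ Q, c * q * c⁻¹ ∈ Q)
    (hm : ∀ q ∈ Q, ∀ r ∈ Q, f (q * r) = vx (f q) (f r)) (hs : ∀ v, ∃ q ∈ Q, f q = v)
    (hq : ∀ q ∈ Q, q * q = if q6 (f q) then z else 1) (hz : z ≠ 1)
    (hc : ∀ (c : Subgroup.centralizer ({z} : Set G)), ∀ q ∈ Q,
      ρ c (f q) = f (c * q * (c : G)⁻¹)) :
    ρ.range ≤ O := by
  rintro _ ⟨c, rfl⟩
  refine ⟨fun v w => ?_, fun v => ?_⟩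
  · obtain ⟨q, hqQ, rfl⟩ := hs v
    obtain ⟨r, hr, rfl⟩ := hs w
    rw [← hm q hqQ r hr, hc c _ (mul_mem hqQ hr), hc c q hqQ, hc c r hr,
      ← hm _ (hn c c.2 q hqQ) _ (hn c c.2 r hr)]
    exact congrArg f (by group)
  · obtain ⟨q, hqQ, rfl⟩ := hs v
    rw [hc c q hqQ]
    have h1 := hq _ (hn c c.2 q hqQ)
    rw [show (c : G) * q * (c : G)⁻¹ * ((c : G) * q * (c : G)⁻¹) = c * (q * q) * (c : G)⁻¹ by
      group, hq q hqQ] at h1
    revert h1
    cases q6 (f q) <;> cases q6 (f ((c : G) * q * (c : G)⁻¹)) <;>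
      simp [Subgroup.mem_centralizer_singleton_iff.1 c.2, hz, hz.symm]

/-- Coordinates exist, and the image of the action is the quotient by `Q`. -/
theorem exists_coord {G : Type u} [Group G] [Finite G] (z : G) (hz : orderOf z = 2)
    (Q : Subgroup (Subgroup.centralizer ({z} : Set G))) [Q.Normal]
    (hQ : Cfsg.IsExtraspecial 2 Q) (hcard : Nat.card Q = 2 ^ 7)
    (hplus : ∃ E : Subgroup Q, Cfsg.IsElementaryAbelian 2 E ∧ Nat.card E = 2 ^ 4)
    (hcent : Subgroup.centralizer (Q : Set (Subgroup.centralizer ({z} : Set G))) ≤ Q) :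
    ∃ f ρ, Coord z (Q.map (Subgroup.centralizer ({z} : Set G)).subtype) f ρ ∧
      Nonempty ((Subgroup.centralizer ({z} : Set G)) ⧸ Q ≃* ρ.range) := by
  classical
  haveI : Fact (Nat.Prime 2) := ⟨Nat.prime_two⟩
  let C := Subgroup.centralizer ({z} : Set G)
  obtain ⟨E⟩ := OutExtra.iso_model hQ (m := 2) (by rw [hcard]) 0
    (iff_of_true ((OutExtra.hasMax_iff hQ.1.1 3).2 hplus) rfl)
  have hβ : Nondeg (beta 2 0) := beta_nondeg 0
  have mem_of_centralize : ∀ c : C, (∀ q ∈ Q, q * c = c * q) → c ∈ Q := fun c h =>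
    hcent (Subgroup.mem_centralizer_iff.2 h)
  have mem_of_inner : ∀ c : C, MulAut.conjNormal (H := Q) c ∈ Cfsg.Inn Q → c ∈ Q := by
    intro c hc
    obtain ⟨a, ha⟩ := hc
    have h : (a : C)⁻¹ * c ∈ Q := mem_of_centralize _ fun q hq => by
      have h1 : (a : C) * q * (a : C)⁻¹ = c * q * c⁻¹ := by
        have h2 := congrArg (fun φ : MulAut Q => ((φ ⟨q, hq⟩ : Q) : C)) ha
        simpa [MulAut.conjNormal_apply] using h2
      calc q * ((a : C)⁻¹ * c) = (a : C)⁻¹ * ((a : C) * q * (a : C)⁻¹) * c := by group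
        _ = (a : C)⁻¹ * c * q := by rw [h1]; group
    simpa using mul_mem a.2 h
  have hzC : z ∈ C := Subgroup.mem_centralizer_singleton_iff.2 rfl
  have hzcen : ∀ c : C, c * ⟨z, hzC⟩ = ⟨z, hzC⟩ * c := fun c =>
    Subtype.ext (Subgroup.mem_centralizer_singleton_iff.1 c.2)
  have hzQ : (⟨z, hzC⟩ : C) ∈ Q := mem_of_centralize _ fun q _ => hzcen q
  have hz1 : z ≠ 1 := fun h => by rw [h, orderOf_one] at hz; omega
  have hEz : E ⟨⟨z, hzC⟩, hzQ⟩ = ⟨0, 1⟩ := by
    have hv : (E ⟨⟨z, hzC⟩, hzQ⟩).v = 0 :=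
      (mem_center hβ _).1 (Subgroup.mem_center_iff.2 fun t => by
        obtain ⟨q, rfl⟩ := E.surjective t
        rw [← map_mul, ← map_mul]
        exact congrArg E (Subtype.ext (hzcen q)))
    refine Tw.ext hv (z2_ne _ fun hs => hz1 ?_)
    have h1 : E ⟨⟨z, hzC⟩, hzQ⟩ = E 1 := by rw [map_one]; exact Tw.ext hv hs
    exact congrArg (fun q : Q => ((q : C) : G)) (E.injective h1)
  let Qg : Subgroup G := Q.map C.subtype
  have hmemQ : ∀ x ∈ Qg, ∃ q : Q, ((q : C) : G) = x := by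
    rintro _ ⟨y, hy, rfl⟩
    exact ⟨⟨y, hy⟩, rfl⟩
  let f : G → Fin 64 := fun x =>
    if h : ∃ q : Q, ((q : C) : G) = x then enc (E h.choose).v else 0
  have hf : ∀ q : Q, f ((q : C) : G) = enc (E q).v := by
    intro q
    have h : ∃ r : Q, ((r : C) : G) = ((q : C) : G) := ⟨q, rfl⟩
    show dite _ _ _ = _
    rw [dif_pos h, show h.choose = q from Subtype.ext (Subtype.ext h.choose_spec)]
  let ψ : C →* MulAut (Tw (beta 2 0)) :=
    (MulAut.congr E).toMonoidHom.comp (MulAut.conjNormal (H := Q))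
  have hψ : ∀ (c : C) (q : Q), ψ c (E q) = E (MulAut.conjNormal c q) := fun c q => by
    simp [ψ]
  let L : C → Fin 64 → Fin 64 := fun c x =>
    enc (OutExtra.toLin hβ (ψ c) (encEquiv.symm x))
  have hLf : ∀ (c : C) (q : Q), L c (enc (E q).v) = enc (E (MulAut.conjNormal c q)).v := by
    intro c q
    show enc (OutExtra.toLin hβ (ψ c) (encEquiv.symm (encEquiv (E q).v))) = _
    rw [Equiv.symm_apply_apply, OutExtra.toLin_apply, ← OutExtra.aut_v hβ, hψ]
  have hL1 : ∀ x, L 1 x = x := fun x => by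
    show enc (OutExtra.toLin hβ (ψ 1) (encEquiv.symm x)) = x
    rw [map_one, OutExtra.toLin_one]
    exact encEquiv.apply_symm_apply x
  have hLmul : ∀ c d x, L (c * d) x = L c (L d x) := fun c d x => by
    show enc (OutExtra.toLin hβ (ψ (c * d)) _) =
      enc (OutExtra.toLin hβ (ψ c) (encEquiv.symm (encEquiv _)))
    rw [Equiv.symm_apply_apply, map_mul, OutExtra.toLin_mul]
    rfl
  let ρ : C →* Perm (Fin 64) := MonoidHom.mk'
    (fun c => ⟨L c, L c⁻¹, fun x => by rw [← hLmul, inv_mul_cancel, hL1],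
      fun x => by rw [← hLmul, mul_inv_cancel, hL1]⟩)
    (fun c d => Equiv.ext fun x => hLmul c d x)
  have hρker : ρ.ker = Q := by
    refine le_antisymm (fun c hc => mem_of_inner c ?_) fun c hc => ?_
    · obtain ⟨a, ha⟩ := OutExtra.inner_of_trivial hβ (ψ c) (LinearMap.ext fun v => by
        have h := congrArg (fun p : Perm (Fin 64) => p (encEquiv v)) (MonoidHom.mem_ker.1 hc)
        have h' : enc (OutExtra.toLin hβ (ψ c) (encEquiv.symm (encEquiv v))) = enc v := h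
        rw [Equiv.symm_apply_apply] at h'
        exact enc_inj h')
      refine ⟨E.symm a, MulEquiv.ext fun q => E.injective ?_⟩
      rw [← hψ, ← ha]
      simp
    · refine MonoidHom.mem_ker.2 (Equiv.ext fun x => ?_)
      obtain ⟨v, rfl⟩ := encEquiv.surjective x
      obtain ⟨q, hq⟩ := E.surjective ⟨v, 0⟩
      have hv : v = (E q).v := by rw [hq]
      show L c (enc v) = enc v
      rw [hv, hLf]
      congr 1
      have : MulAut.conjNormal c q = (⟨c, hc⟩ : Q) * q * (⟨c, hc⟩ : Q)⁻¹ :=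
        Subtype.ext (by simp [MulAut.conjNormal_apply])
      rw [this, map_mul, map_mul, map_inv, mul_v, mul_v]
      show (E ⟨c, hc⟩).v + (E q).v + (E ⟨c, hc⟩).v = (E q).v
      rw [add_comm ((E ⟨c, hc⟩).v), add_assoc, vec_two, add_zero]
  have hnorm : ∀ c ∈ C, ∀ q ∈ Qg, c * q * c⁻¹ ∈ Qg := by
    intro c hc q hq
    obtain ⟨r, rfl⟩ := hmemQ q hq
    exact ⟨_, Subgroup.Normal.conj_mem inferInstance (r : C) r.2 ⟨c, hc⟩, rfl⟩
  have hfm : ∀ q ∈ Qg, ∀ r ∈ Qg, f (q * r) = vx (f q) (f r) := by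
    intro q hq r hr
    obtain ⟨a, rfl⟩ := hmemQ q hq
    obtain ⟨b, rfl⟩ := hmemQ r hr
    rw [hf, hf, ← enc_add, ← mul_v, ← map_mul, ← hf]
    rfl
  have hfk : ∀ q ∈ Qg, f q = 0 ↔ q = 1 ∨ q = z := by
    intro q hq
    obtain ⟨a, rfl⟩ := hmemQ q hq
    rw [hf]
    constructor
    · intro h
      rw [← enc_zero] at h
      have hv := enc_inj h
      rcases z2_cases (E a).s with hs | hs
      · left
        have h1 : E a = E 1 := by rw [map_one]; exact Tw.ext hv hs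
        rw [E.injective h1]; rfl
      · right
        have h1 : E a = E ⟨⟨z, hzC⟩, hzQ⟩ := by rw [hEz]; exact Tw.ext hv hs
        rw [E.injective h1]
    · rintro (h | h)
      · rw [show a = 1 from Subtype.ext (Subtype.ext h), map_one]; exact enc_zero
      · rw [show a = ⟨⟨z, hzC⟩, hzQ⟩ from Subtype.ext (Subtype.ext h), hEz]; exact enc_zero
  have hfs : ∀ v, ∃ q ∈ Qg, f q = v := by
    intro v
    obtain ⟨w, rfl⟩ := enc_surj v
    obtain ⟨q, hq⟩ := E.surjective ⟨w, 0⟩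
    exact ⟨((q : C) : G), ⟨q, q.2, rfl⟩, by rw [hf, hq]⟩
  have hfq : ∀ q ∈ Qg, q * q = if q6 (f q) then z else 1 := by
    intro q hq
    obtain ⟨a, rfl⟩ := hmemQ q hq
    rw [hf, enc_q6]
    have h : E (a * a) = ⟨0, beta 2 0 (E a).v (E a).v⟩ := by rw [map_mul, ← sq, sq_eq]
    rcases z2_cases (beta 2 0 (E a).v (E a).v) with hb | hb
    · rw [hb] at h ⊢
      have h1 : a * a = 1 := E.injective (by rw [h, map_one]; rfl)
      simpa using congrArg (fun q : Q => ((q : C) : G)) h1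
    · rw [hb] at h ⊢
      have h1 : a * a = ⟨⟨z, hzC⟩, hzQ⟩ := E.injective (by rw [h, hEz])
      simpa using congrArg (fun q : Q => ((q : C) : G)) h1
  have hconj : ∀ (c : C), ∀ q ∈ Qg, ρ c (f q) = f (c * q * (c : G)⁻¹) := by
    intro c q hq
    obtain ⟨a, rfl⟩ := hmemQ q hq
    rw [hf]
    show L c _ = _
    rw [hLf, ← hf]
    exact congrArg f (by simp [MulAut.conjNormal_apply])
  refine ⟨f, ρ, ⟨Subgroup.map_subtype_le Q, hnorm, ⟨_, hzQ, rfl⟩, hz1,
    by rw [← sq, ← hz, pow_orderOf_eq_one], hfm, hfk, hfs, hfq, hconj, fun c => ?_,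
    range_le_of hnorm hfm hfs hfq hz1 hconj, fun c hc h => ⟨⟨c, hc⟩, ?_, rfl⟩⟩,
    ⟨(QuotientGroup.quotientMulEquivOfEq hρker.symm).trans
      (QuotientGroup.quotientKerEquivRange ρ)⟩⟩
  · rw [← MonoidHom.mem_ker, hρker]
    exact (Subgroup.mem_map_iff_mem C.subtype_injective).symm
  · exact mem_of_centralize _ fun q hq => Subtype.ext (h q ⟨q, hq, rfl⟩).symm

/-- A change of coordinates. -/
theorem Coord.change {G : Type u} [Group G] {z : G} {Q : Subgroup G} {f : G → Fin 64}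
    {ρ : Subgroup.centralizer ({z} : Set G) →* Perm (Fin 64)} (M : Coord z Q f ρ)
    {σ : Perm (Fin 64)} (hσ : σ ∈ O) :
    Coord z Q (fun x => σ⁻¹ (f x)) ((MulAut.conj σ⁻¹).toMonoidHom.comp ρ) where
  le := M.le
  normal := M.normal
  z_mem := M.z_mem
  z_ne := M.z_ne
  z_sq := M.z_sq
  f_mul q hq r hr := by rw [M.f_mul q hq r hr, (inv_mem hσ).1]
  f_ker q hq := by
    rw [← M.f_ker q hq]
    exact ⟨fun h => σ⁻¹.injective (h.trans (map_zero (inv_mem hσ)).symm),
      fun h => by rw [h, map_zero (inv_mem hσ)]⟩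
  f_surj v := by
    obtain ⟨q, hq, e⟩ := M.f_surj (σ v)
    exact ⟨q, hq, by rw [e]; exact σ.symm_apply_apply v⟩
  f_sq q hq := by rw [(inv_mem hσ).2]; exact M.f_sq q hq
  ρ_conj c q hq := by
    show (σ⁻¹ * ρ c * σ⁻¹⁻¹) (σ⁻¹ (f q)) = σ⁻¹ (f _)
    rw [← M.ρ_conj c q hq, inv_inv, Perm.mul_apply, Perm.mul_apply]
    exact congrArg (fun x => σ⁻¹ (ρ c x)) (σ.apply_symm_apply (f q))
  ρ_ker c := by
    rw [← M.ρ_ker c]
    exact map_eq_one_iff _ (MulAut.conj σ⁻¹).injective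
  range_le := by
    rintro _ ⟨c, rfl⟩
    exact mul_mem (mul_mem (inv_mem hσ) (M.range_le ⟨c, rfl⟩)) (inv_mem (inv_mem hσ))
  cent := M.cent

end CfsgLib.Spor.HeRecog.FrameO
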