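import Cfsg.Agent.Lib.Spor.HeRecog.FrameModel
import Cfsg.Agent.Lib.Spor.HeRecog.FrameCoord

/-!
# Six involutions with the commutators of the models

The arithmetic of `ev` needs only the six involutions of a frame and the central involution; it is
used to find the lifts of a frame.
-/

set_option autoImplicit false
set_option linter.unusedSectionVars false
set_option maxRecDepth 100000

namespace CfsgLib.Spor.HeRecog.FrameO

universe u

/-- Six involutions with the commutators of the models. -/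
structure Basis {G : Type u} [Group G] (z : G) (e : Fin 6 → G) : Prop where
  ord : orderOf z = 2
  e_sq : ∀ i, e i * e i = 1
  e_comm : ∀ i k : Fin 6, (i : ℕ) + 3 ≠ k → (k : ℕ) + 3 ≠ i → e i * e k = e k * e i
  e_pair : ∀ i k : Fin 6, (i : ℕ) + 3 = k → e i * e k = z * (e k * e i)
  hez : ∀ i, Commute (e i) z

namespace Basis

variable {G : Type u} [Group G] {z : G} {e₀ : Fin 6 → G} (Fr : Basis z e₀)
include Fr

theorem hzz : z * z = 1 := by rw [← pow_two, ← Fr.ord, pow_orderOf_eq_one]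

theorem zpow_mod (n : ℕ) : z ^ n = z ^ (n % 2) := by
  conv_lhs => rw [← pow_mod_orderOf, Fr.ord]

theorem zc {x : G} (hx : Commute x z) (n : ℕ) : x * z ^ n = z ^ n * x := (hx.pow_right n).eq

omit Fr in
/-- the part of the first three generators -/
def pA (_Fr : Basis z e₀) (v : ℕ) : G := e₀ 0 ^ (v % 2) * e₀ 1 ^ (v / 2 % 2) * e₀ 2 ^ (v / 4 % 2)

omit Fr in
/-- the part of the last three generators -/
def pB (_Fr : Basis z e₀) (v : ℕ) : G := e₀ 3 ^ (v % 2) * e₀ 4 ^ (v / 2 % 2) * e₀ 5 ^ (v / 4 % 2)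

theorem pA_z (v : ℕ) : Commute (Fr.pA v) z :=
  (((Fr.hez 0).pow_left _).mul_left ((Fr.hez 1).pow_left _)).mul_left ((Fr.hez 2).pow_left _)

theorem pB_z (v : ℕ) : Commute (Fr.pB v) z :=
  (((Fr.hez 3).pow_left _).mul_left ((Fr.hez 4).pow_left _)).mul_left ((Fr.hez 5).pow_left _)

theorem pA_mul {v w : ℕ} (hv : v < 8) (hw : w < 8) :
    Fr.pA v * Fr.pA w = Fr.pA (v ^^^ w) :=
  Frame.triple_mul (Fr.e_comm 0 1 (by decide) (by decide)) (Fr.e_comm 0 2 (by decide) (by decide))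
    (Fr.e_comm 1 2 (by decide) (by decide)) (Fr.e_sq 0) (Fr.e_sq 1) (Fr.e_sq 2) ⟨v, hv⟩ ⟨w, hw⟩

theorem pB_mul {v w : ℕ} (hv : v < 8) (hw : w < 8) :
    Fr.pB v * Fr.pB w = Fr.pB (v ^^^ w) :=
  Frame.triple_mul (Fr.e_comm 3 4 (by decide) (by decide)) (Fr.e_comm 3 5 (by decide) (by decide))
    (Fr.e_comm 4 5 (by decide) (by decide)) (Fr.e_sq 3) (Fr.e_sq 4) (Fr.e_sq 5) ⟨v, hv⟩ ⟨w, hw⟩

theorem swE (i k : Fin 6) (hi : 3 ≤ i.val) (hk : k.val < 3) :
    Sw z (e₀ i) (e₀ k) (if k.val + 3 = i.val then 1 else 0) := by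
  unfold Sw
  split
  · rename_i h
    have h2 := Fr.e_pair k i h
    rw [h2, ← mul_assoc, pow_one, Fr.hzz, one_mul]
  · rename_i h
    rw [pow_zero, one_mul, Fr.e_comm i k (by omega) h]

theorem pB_pA (w v : ℕ) :
    Sw z (Fr.pB w) (Fr.pA v) (w % 2 * (v % 2) + w / 2 % 2 * (v / 2 % 2) +
      w / 4 % 2 * (v / 4 % 2)) := by
  have cm : ∀ (k : Fin 6) (i : ℕ), Commute (e₀ k ^ i) z := fun k i => (Fr.hez k).pow_left i
  have row : ∀ i : Fin 6, 3 ≤ i.val → ∀ a : ℕ, a < 2 → Sw z (e₀ i ^ a) (Fr.pA v)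
      (a * (v % 2) * (if i.val = 3 then 1 else 0) +
        a * (v / 2 % 2) * (if i.val = 4 then 1 else 0) +
        a * (v / 4 % 2) * (if i.val = 5 then 1 else 0)) := by
    intro i hi a ha
    have s : ∀ k : Fin 6, k.val < 3 → ∀ b : ℕ, b < 2 →
        Sw z (e₀ i ^ a) (e₀ k ^ b) (a * b * (if i.val = k.val + 3 then 1 else 0)) := by
      intro k hk b hb
      have h := (Fr.swE i k hi hk).pow_bit ⟨a, ha⟩ ⟨b, hb⟩
      simp only [eq_comm (a := i.val)] at h ⊢
      exact h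
    exact ((s 0 (by decide) _ (Nat.mod_lt _ two_pos)).mul_right (cm 0 _)
      (s 1 (by decide) _ (Nat.mod_lt _ two_pos))).mul_right ((cm 0 _).mul_left (cm 1 _))
      (s 2 (by decide) _ (Nat.mod_lt _ two_pos))
  have h := ((row 3 (by decide) _ (Nat.mod_lt w two_pos)).mul_left (cm 3 _)
    (row 4 (by decide) _ (Nat.mod_lt (w / 2) two_pos))).mul_left ((cm 3 _).mul_left (cm 4 _))
    (row 5 (by decide) _ (Nat.mod_lt (w / 4) two_pos))
  simpa [pB] using h

theorem ev_eq {q : ℕ} (hq : q < 128) :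
    ev z e₀ q = Fr.pA (q % 8) * Fr.pB (q / 8) * z ^ (q / 64) := by
  unfold ev pA pB
  rw [show q % 8 % 2 = q % 2 by omega, show q % 8 / 2 % 2 = q / 2 % 2 by omega,
    show q % 8 / 4 % 2 = q / 4 % 2 by omega, show q / 8 / 2 % 2 = q / 16 % 2 by omega,
    show q / 8 / 4 % 2 = q / 32 % 2 by omega, show q / 64 % 2 = q / 64 by omega]
  simp only [mul_assoc]

theorem pB_mod (q : ℕ) : Fr.pB q = Fr.pB (q % 8) := by
  unfold pB
  rw [show q % 8 % 2 = q % 2 by omega, show q % 8 / 2 % 2 = q / 2 % 2 by omega,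
    show q % 8 / 4 % 2 = q / 4 % 2 by omega]

theorem ev_mul {a b : ℕ} (ha : a < 128) (hb : b < 128) :
    ev z e₀ (qMul a b) = ev z e₀ a * ev z e₀ b := by
  have hc := qMul_lt ha hb
  have h := allN_spec (allN_spec qMul_check a ha) b hb
  simp only [Bool.and_eq_true] at h
  have h1 : qMul a b % 8 = a % 8 ^^^ b % 8 := Nat.eq_of_beq_eq_true h.1.1
  have h2 : qMul a b / 8 % 8 = a / 8 % 8 ^^^ b / 8 % 8 := Nat.eq_of_beq_eq_true h.1.2
  have h3 : qMul a b / 64 % 2 = (a / 64 + b / 64 + (a / 8 % 2 * (b % 2) +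
      a / 16 % 2 * (b / 2 % 2) + a / 32 % 2 * (b / 4 % 2))) % 2 := Nat.eq_of_beq_eq_true h.2
  rw [Fr.ev_eq hc, Fr.ev_eq ha, Fr.ev_eq hb, h1, Fr.pB_mod (qMul a b / 8), h2,
    ← Fr.pA_mul (by omega) (by omega), ← Fr.pB_mul (by omega) (by omega), ← Fr.pB_mod,
    ← Fr.pB_mod, show qMul a b / 64 = qMul a b / 64 % 2 by omega, h3, ← Fr.zpow_mod]
  have hs := Fr.pB_pA (a / 8) (b % 8)
  rw [show a / 8 % 2 = a / 8 % 2 from rfl, show a / 8 / 2 % 2 = a / 16 % 2 by omega,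
    show a / 8 / 4 % 2 = a / 32 % 2 by omega, show b % 8 % 2 = b % 2 by omega,
    show b % 8 / 2 % 2 = b / 2 % 2 by omega, show b % 8 / 4 % 2 = b / 4 % 2 by omega] at hs
  generalize Fr.pA (a % 8) = A
  generalize a / 8 % 2 * (b % 2) + a / 16 % 2 * (b / 2 % 2) + a / 32 % 2 * (b / 4 % 2) = d at hs ⊢
  have cA := Fr.pA_z (b % 8)
  have cB := Fr.pB_z (a / 8)
  have cB' := Fr.pB_z (b / 8)
  generalize Fr.pA (b % 8) = A' at hs cA ⊢
  generalize Fr.pB (a / 8) = B at hs cB ⊢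
  generalize Fr.pB (b / 8) = B' at cB' ⊢
  generalize a / 64 = s
  generalize b / 64 = s'
  symm
  calc A * B * z ^ s * (A' * B' * z ^ s') = A * (B * A') * z ^ s * B' * z ^ s' := by
        simp only [mul_assoc]
        rw [← mul_assoc (z ^ s) A', ← Fr.zc cA, mul_assoc]
    _ = A * (B * A') * B' * z ^ (s + s') := by
        rw [pow_add]; simp only [mul_assoc]
        rw [← mul_assoc (z ^ s) B', ← Fr.zc cB', mul_assoc]
    _ = A * (A' * B * z ^ d) * B' * z ^ (s + s') := by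
        rw [hs, Fr.zc (cA.mul_left cB)]
    _ = A * A' * (B * B') * z ^ (s + s' + d) := by
        rw [pow_add _ (s + s')]; simp only [mul_assoc]
        rw [← mul_assoc (z ^ d) B', ← Fr.zc cB']
        simp only [mul_assoc]
        rw [← pow_add, ← pow_add, add_comm d]

theorem ev_single (i : Fin 6) : ev z e₀ (2 ^ i.val) = e₀ i := by
  fin_cases i <;> simp [ev]

omit Fr in
theorem ev_zero (e : Fin 6 → G) : ev z e 0 = 1 := by simp [ev]

omit Fr in
theorem ev_sixtyfour (e : Fin 6 → G) : ev z e 64 = z := by simp [ev]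

theorem conj_ev {x : G} (hx : Commute x z) {img : List ℕ} (himg : ∀ w ∈ img, w < 128)
    (h : ∀ i : Fin 6, x * e₀ i * x⁻¹ = ev z e₀ (img.getD i 0)) (q : ℕ) :
    x * ev z e₀ q * x⁻¹ = ev z e₀ (qFold img q) := by
  have hlt : ∀ i : ℕ, img.getD i 0 < 128 := fun i => by
    rw [List.getD_eq_getElem?_getD]
    cases e : img[i]? with
    | none => simp
    | some w => simpa using himg w (List.mem_of_getElem? e)
  have hp : ∀ i : ℕ, (bif Nat.beq (q / 2 ^ i % 2) 1 then img.getD i 0 else 0) < 128 := fun i => by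
    cases Nat.beq (q / 2 ^ i % 2) 1
    · exact (by norm_num : (0 : ℕ) < 128)
    · exact hlt i
  have ep : ∀ i : Fin 6, ev z e₀ (bif Nat.beq (q / 2 ^ i.val % 2) 1 then img.getD i.val 0 else 0)
      = x * e₀ i ^ (q / 2 ^ i.val % 2) * x⁻¹ := fun i => by
    rcases Nat.mod_two_eq_zero_or_one (q / 2 ^ i.val) with e | e <;> rw [e]
    · show ev z e₀ 0 = _
      simp [ev_zero]
    · show ev z e₀ (img.getD i.val 0) = _
      rw [pow_one]; exact (h i).symm
  have e64 : ev z e₀ (64 * (q / 64 % 2)) = z ^ (q / 64 % 2) := by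
    rcases Nat.mod_two_eq_zero_or_one (q / 64) with e | e <;> rw [e]
    · simp [ev_zero]
    · simp [ev_sixtyfour]
  have p0 := hp 0
  have p1 := qMul_lt p0 (hp 1)
  have p2 := qMul_lt p1 (hp 2)
  have p3 := qMul_lt p2 (hp 3)
  have p4 := qMul_lt p3 (hp 4)
  have p5 := qMul_lt p4 (hp 5)
  have r0 := ep 0
  have r1 := ep 1
  have r2 := ep 2
  have r3 := ep 3
  have r4 := ep 4
  have r5 := ep 5
  have efold : qFold img q = qMul (qMul (qMul (qMul (qMul (qMul
    (bif Nat.beq (q / 2 ^ 0 % 2) 1 then img.getD 0 0 else 0)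
    (bif Nat.beq (q / 2 ^ 1 % 2) 1 then img.getD 1 0 else 0))
    (bif Nat.beq (q / 2 ^ 2 % 2) 1 then img.getD 2 0 else 0))
    (bif Nat.beq (q / 2 ^ 3 % 2) 1 then img.getD 3 0 else 0))
    (bif Nat.beq (q / 2 ^ 4 % 2) 1 then img.getD 4 0 else 0))
    (bif Nat.beq (q / 2 ^ 5 % 2) 1 then img.getD 5 0 else 0))
    (64 * (q / 64 % 2)) := by unfold qFold; with_reducible_and_instances rfl
  rw [efold]
  rw [Fr.ev_mul p5 (by omega : 64 * (q / 64 % 2) < 128),
    Fr.ev_mul p4 (hp 5), Fr.ev_mul p3 (hp 4), Fr.ev_mul p2 (hp 3), Fr.ev_mul p1 (hp 2),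
    Fr.ev_mul p0 (hp 1)]
  simp only [Fin.val_zero, Fin.val_one, Fin.val_two, show ((3 : Fin 6) : ℕ) = 3 from rfl,
    show ((4 : Fin 6) : ℕ) = 4 from rfl, show ((5 : Fin 6) : ℕ) = 5 from rfl] at r0 r1 r2 r3 r4 r5
  have e0 : q / 2 ^ 0 % 2 = q % 2 := by simp
  rw [r0, r1, r2, r3, r4, r5, e64, e0]
  have hxz : x * z ^ (q / 64 % 2) * x⁻¹ = z ^ (q / 64 % 2) := by
    rw [Fr.zc hx, mul_inv_cancel_right]
  conv_rhs => rw [← hxz]
  simp only [ev, Nat.reducePow, pow_one]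
  group

end Basis

end CfsgLib.Spor.HeRecog.FrameO
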