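import Mathlib.Init

/-!
# Isometries of `O⁺(6, 2)` carrying basis vectors around

Row `k` lists for every image of the `k`-th basis vector under an isometry fixing the earlier ones
the images of the six basis vectors under such an isometry.
-/

set_option autoImplicit false

namespace CfsgLib.Spor.HeRecog.FrameO

/-- the coset representatives -/
def repRows : List (List (List Nat)) := [
  [[1, 2, 4, 8, 16, 32],
   [2, 1, 4, 16, 8, 32],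
   [3, 1, 4, 16, 24, 32],
   [4, 1, 2, 32, 8, 16],
   [5, 1, 2, 32, 40, 16],
   [6, 1, 2, 32, 8, 48],
   [7, 1, 2, 32, 40, 48],
   [8, 2, 4, 1, 16, 32],
   [10, 2, 4, 1, 17, 32],
   [12, 2, 4, 1, 16, 33],
   [14, 2, 4, 1, 17, 33],
   [16, 1, 4, 2, 8, 32],
   [17, 1, 4, 2, 10, 32],
   [20, 1, 4, 2, 8, 34],
   [21, 1, 4, 2, 10, 34],
   [24, 3, 4, 1, 16, 32],
   [27, 3, 4, 1, 17, 32],
   [28, 3, 4, 1, 16, 33],
   [31, 3, 4, 1, 17, 33],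
   [32, 1, 2, 4, 8, 16],
   [33, 1, 2, 4, 12, 16],
   [34, 1, 2, 4, 8, 20],
   [35, 1, 2, 4, 12, 20],
   [40, 2, 5, 1, 16, 32],
   [42, 2, 5, 1, 17, 32],
   [45, 2, 5, 1, 16, 33],
   [47, 2, 5, 1, 17, 33],
   [48, 1, 6, 2, 8, 32],
   [49, 1, 6, 2, 10, 32],
   [54, 1, 6, 2, 8, 34],
   [55, 1, 6, 2, 10, 34],
   [56, 3, 5, 1, 16, 32],
   [59, 3, 5, 1, 17, 32],
   [61, 3, 5, 1, 16, 33],
   [62, 3, 5, 1, 17, 33]],
  [[1, 2, 4, 8, 16, 32],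
   [1, 3, 4, 24, 16, 32],
   [1, 4, 2, 8, 32, 16],
   [1, 5, 2, 40, 32, 16],
   [1, 6, 2, 8, 32, 48],
   [1, 7, 2, 40, 32, 48],
   [1, 16, 4, 8, 2, 32],
   [1, 17, 4, 10, 2, 32],
   [1, 20, 4, 8, 2, 34],
   [1, 21, 4, 10, 2, 34],
   [1, 32, 2, 8, 4, 16],
   [1, 33, 2, 12, 4, 16],
   [1, 34, 2, 8, 4, 20],
   [1, 35, 2, 12, 4, 20],
   [1, 48, 6, 8, 2, 32],
   [1, 49, 6, 10, 2, 32],
   [1, 54, 6, 8, 2, 34],
   [1, 55, 6, 10, 2, 34]],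
  [[1, 2, 4, 8, 16, 32],
   [1, 2, 5, 40, 16, 32],
   [1, 2, 6, 8, 48, 32],
   [1, 2, 7, 40, 48, 32],
   [1, 2, 32, 8, 16, 4],
   [1, 2, 33, 12, 16, 4],
   [1, 2, 34, 8, 20, 4],
   [1, 2, 35, 12, 20, 4]],
  [[1, 2, 4, 8, 16, 32],
   [1, 2, 4, 10, 17, 32],
   [1, 2, 4, 12, 16, 33],
   [1, 2, 4, 14, 17, 33]],
  [[1, 2, 4, 8, 16, 32],
   [1, 2, 4, 8, 20, 34]],
  [[1, 2, 4, 8, 16, 32]]]

end CfsgLib.Spor.HeRecog.FrameO
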