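import Cfsg.Agent.Lib.Spor.HeRecog.Setup
import Cfsg.Agent.Lib.Spor.HeRecog.FrameData

/-!
# Coordinates for a group of order 168 of isometries of `O⁺(6, 2)`

A subgroup of order 168 of the isometry group of `v₁ · v₂` on the bit strings `v₁ + 8 v₂` that
contains elements satisfying the relations of the models' lifts contains, after a change of
coordinates, the standard maps.
-/

set_option autoImplicit false
set_option maxRecDepth 100000
set_option linter.style.haveILetI false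

namespace CfsgLib.Spor.HeRecog.FrameO

open Equiv

/-- addition of vectors -/
def vx (v w : Fin 64) : Fin 64 := v ^^^ w

/-- a coordinate -/
def bit (v : Fin 64) (i : ℕ) : Bool := v.val.testBit i

/-- a multiple of a vector -/
def sel (b : Bool) (x : Fin 64) : Fin 64 := if b then x else 0

/-- the quadratic form -/
def q6 (v : Fin 64) : Bool := Nat.beq (qSign v.val v.val) 1

/-- its bilinear form -/
def bf (v w : Fin 64) : Bool := q6 (vx v w) ^^ (q6 v ^^ q6 w)

/-- the linear map with given images of the six basis vectors -/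
def linF (l : List (Fin 64)) (v : Fin 64) : Fin 64 :=
  vx (vx (vx (sel (bit v 0) (l.getD 0 0)) (sel (bit v 1) (l.getD 1 0)))
      (vx (sel (bit v 2) (l.getD 2 0)) (sel (bit v 3) (l.getD 3 0))))
    (vx (sel (bit v 4) (l.getD 4 0)) (sel (bit v 5) (l.getD 5 0)))

/-- the basis vectors -/
def bse (i : ℕ) : Fin 64 := Fin.ofNat 64 (2 ^ i)

theorem vx_comm : ∀ v w, vx v w = vx w v := by decide +kernel

theorem vx_assoc (u v w : Fin 64) : vx (vx u v) w = vx u (vx v w) := by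
  refine Fin.ext ?_
  show ((u.val ^^^ v.val) % 64 ^^^ w.val) % 64 = (u.val ^^^ (v.val ^^^ w.val) % 64) % 64
  have h1 : u.val ^^^ v.val < 64 := Nat.xor_lt_two_pow (n := 6) u.isLt v.isLt
  have h2 : v.val ^^^ w.val < 64 := Nat.xor_lt_two_pow (n := 6) v.isLt w.isLt
  rw [Nat.mod_eq_of_lt h1, Nat.mod_eq_of_lt h2, Nat.xor_assoc]

instance : Std.Associative (α := Fin 64) vx := ⟨vx_assoc⟩

instance : Std.Commutative (α := Fin 64) vx := ⟨vx_comm⟩

theorem vx_self : ∀ v, vx v v = 0 := by decide +kernel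

theorem zero_vx : ∀ v, vx 0 v = v := by decide +kernel

theorem bit_vx : ∀ i < 6, ∀ v w, bit (vx v w) i = (bit v i ^^ bit w i) := by decide +kernel

theorem sel_xor : ∀ b c x, sel (b ^^ c) x = vx (sel b x) (sel c x) := by decide +kernel

theorem decomp : ∀ v, linF [1, 2, 4, 8, 16, 32] v = v := by decide +kernel

theorem linF_add (l : List (Fin 64)) (v w : Fin 64) :
    linF l (vx v w) = vx (linF l v) (linF l w) := by
  simp only [linF, bit_vx 0 (by omega), bit_vx 1 (by omega), bit_vx 2 (by omega),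
    bit_vx 3 (by omega), bit_vx 4 (by omega), bit_vx 5 (by omega), sel_xor]
  ac_rfl

/-- The isometries. -/
def O : Subgroup (Perm (Fin 64)) where
  carrier := {π | (∀ v w, π (vx v w) = vx (π v) (π w)) ∧ ∀ v, q6 (π v) = q6 v}
  one_mem' := ⟨fun _ _ => rfl, fun _ => rfl⟩
  mul_mem' {a b} ha hb := ⟨fun v w => by simp only [Perm.mul_apply, hb.1, ha.1],
    fun v => by simp only [Perm.mul_apply, ha.2, hb.2]⟩
  inv_mem' {a} ha := ⟨fun v w => a.injective (by
      rw [ha.1, show ∀ x, a (a⁻¹ x) = x from a.apply_symm_apply,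
        show ∀ x, a (a⁻¹ x) = x from a.apply_symm_apply,
        show ∀ x, a (a⁻¹ x) = x from a.apply_symm_apply]),
    fun v => by rw [← ha.2, show ∀ x, a (a⁻¹ x) = x from a.apply_symm_apply]⟩

theorem map_zero {π : Perm (Fin 64)} (hπ : π ∈ O) : π 0 = 0 := by
  have h := hπ.1 0 0
  rwa [vx_self, vx_self] at h

theorem map_sel {π : Perm (Fin 64)} (hπ : π ∈ O) (b : Bool) (x : Fin 64) :
    π (sel b x) = sel b (π x) := by
  cases b
  · exact map_zero hπ
  · rfl

theorem eq_linF {π : Perm (Fin 64)} (hπ : π ∈ O) (v : Fin 64) :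
    π v = linF [π 1, π 2, π 4, π 8, π 16, π 32] v := by
  conv_lhs => rw [← decomp v]
  simp only [linF, hπ.1, map_sel hπ, List.getD_cons_zero, List.getD_cons_succ]

theorem map_bf {π : Perm (Fin 64)} (hπ : π ∈ O) (v w : Fin 64) : bf (π v) (π w) = bf v w := by
  simp only [bf, ← hπ.1, hπ.2]

/-- a list of images gives an isometry -/
def isoOK (l : List (Fin 64)) : Prop :=
  ∀ v : Fin 64, q6 (linF l v) = q6 v ∧ (linF l v = 0 → v = 0)

instance (l : List (Fin 64)) : Decidable (isoOK l) :=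
  inferInstanceAs (Decidable (∀ v : Fin 64, _ ∧ _))

theorem linF_bij {l : List (Fin 64)} (h : isoOK l) : Function.Bijective (linF l) := by
  refine Finite.injective_iff_bijective.1 fun v w e => ?_
  have h1 := (h (vx v w)).2 (by rw [linF_add, e, vx_self])
  calc v = vx 0 v := (zero_vx v).symm
    _ = vx (vx v w) v := by rw [h1]
    _ = vx (vx v v) w := by ac_rfl
    _ = w := by rw [vx_self, zero_vx]

/-- the isometry with given images -/
noncomputable def isoOf (l : List (Fin 64)) (h : isoOK l) : Perm (Fin 64) :=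
  Equiv.ofBijective (linF l) (linF_bij h)

theorem isoOf_mem (l : List (Fin 64)) (h : isoOK l) : isoOf l h ∈ O :=
  ⟨fun v w => linF_add l v w, fun v => (h v).1⟩

theorem isoOf_apply (l : List (Fin 64)) (h : isoOK l) (v : Fin 64) : isoOf l h v = linF l v :=
  rfl

/-- the isometries fixing the first `k` basis vectors -/
def stab (k : ℕ) : Subgroup (Perm (Fin 64)) where
  carrier := {π | π ∈ O ∧ ∀ i < k, π (bse i) = bse i}
  one_mem' := ⟨one_mem O, fun _ _ => rfl⟩
  mul_mem' {a b} ha hb := ⟨mul_mem ha.1 hb.1,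
    fun i hi => by rw [Perm.mul_apply, hb.2 i hi, ha.2 i hi]⟩
  inv_mem' {a} ha := ⟨inv_mem ha.1, fun i hi => a.injective (by
    rw [show ∀ x, a (a⁻¹ x) = x from a.apply_symm_apply, ha.2 i hi])⟩

/-- a possible image of the basis vector `k` under `stab k` -/
def Good (k : ℕ) (v : Fin 64) : Prop :=
  2 ^ k ≤ v.val ∧ q6 v = false ∧ ∀ i < k, bf v (bse i) = bf (bse k) (bse i)

instance (k : ℕ) (v : Fin 64) : Decidable (Good k v) := inferInstanceAs (Decidable (_ ∧ _))

theorem low_bits : ∀ k < 6, ∀ i < 6, ∀ v : Fin 64, v.val < 2 ^ k → k ≤ i → bit v i = false := by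
  decide +kernel

theorem bse_val : bse 0 = 1 ∧ bse 1 = 2 ∧ bse 2 = 4 ∧ bse 3 = 8 ∧ bse 4 = 16 ∧ bse 5 = 32 := by
  decide +kernel

theorem bse_facts : ∀ k < 6, q6 (bse k) = false ∧ 2 ^ k ≤ (bse k).val := by decide +kernel

theorem fix_low {k : ℕ} (hk : k < 6) {π : Perm (Fin 64)} (hπ : π ∈ stab k) {v : Fin 64}
    (hv : v.val < 2 ^ k) : π v = v := by
  have h : ∀ i < 6, sel (bit v i) (π (bse i)) = sel (bit v i) (bse i) := fun i hi => by
    by_cases hik : i < k
    · rw [hπ.2 i hik]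
    · rw [low_bits k hk i hi v hv (by omega)]
      rfl
  obtain ⟨b0, b1, b2, b3, b4, b5⟩ := bse_val
  have h0 := h 0 (by omega); have h1 := h 1 (by omega); have h2 := h 2 (by omega)
  have h3 := h 3 (by omega); have h4 := h 4 (by omega); have h5 := h 5 (by omega)
  rw [b0] at h0; rw [b1] at h1; rw [b2] at h2; rw [b3] at h3; rw [b4] at h4; rw [b5] at h5
  conv_rhs => rw [← decomp v]
  rw [eq_linF hπ.1]
  simp only [linF, List.getD_cons_zero, List.getD_cons_succ, h0, h1, h2, h3, h4, h5]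

theorem good_image {k : ℕ} (hk : k < 6) {π : Perm (Fin 64)} (hπ : π ∈ stab k) :
    Good k (π (bse k)) := by
  refine ⟨?_, by rw [hπ.1.2]; exact (bse_facts k hk).1, fun i hi => ?_⟩
  · by_contra h
    have h' : (π (bse k)).val < 2 ^ k := by omega
    have h1 := π.injective (fix_low hk hπ h')
    rw [h1] at h'
    have := (bse_facts k hk).2
    omega
  · conv_lhs => rw [← hπ.2 i hi]
    exact map_bf hπ.1 _ _

/-- the representatives as vectors -/
def rowV (k : ℕ) : List (List (Fin 64)) := (repRows.getD k []).map fun r => r.map (Fin.ofNat 64)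

theorem rows_ok : ∀ k < 6, ∀ l ∈ rowV k, isoOK l ∧ ∀ i < k, linF l (bse i) = bse i := by
  decide +kernel

theorem rows_cover : ∀ k < 6, ∀ v : Fin 64, Good k v → ∃ l ∈ rowV k, linF l (bse k) = v := by
  decide +kernel

theorem exists_rep {k : ℕ} (hk : k < 6) {v : Fin 64} (hv : Good k v) :
    ∃ π ∈ stab k, π (bse k) = v := by
  obtain ⟨l, hl, e⟩ := rows_cover k hk v hv
  obtain ⟨h1, h2⟩ := rows_ok k hk l hl
  exact ⟨isoOf l h1, ⟨isoOf_mem l h1, fun i hi => h2 i hi⟩, e⟩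

theorem card_step {k : ℕ} (hk : k < 6) :
    Nat.card (stab k) = Nat.card {v : Fin 64 // Good k v} * Nat.card (stab (k + 1)) := by
  rw [← Nat.card_prod]
  choose r hr hrv using fun v : {v : Fin 64 // Good k v} => exists_rep hk v.2
  refine Nat.card_congr
    { toFun := fun π => (⟨π.1 (bse k), good_image hk π.2⟩,
        ⟨(r ⟨π.1 (bse k), good_image hk π.2⟩)⁻¹ * π.1,
          ⟨mul_mem (inv_mem (hr _).1) π.2.1, fun i hi => ?_⟩⟩)
      invFun := fun p => ⟨r p.1 * p.2.1, mul_mem (hr p.1)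
        ⟨p.2.2.1, fun i hi => p.2.2.2 i (by omega)⟩⟩
      left_inv := fun π => Subtype.ext (mul_inv_cancel_left _ _)
      right_inv := fun p => ?_ }
  · rw [Perm.mul_apply, Perm.inv_eq_iff_eq]
    rcases Nat.lt_succ_iff_lt_or_eq.1 hi with h | rfl
    · rw [(hr _).2 i h, π.2.2 i h]
    · exact (hrv ⟨π.1 (bse i), good_image hk π.2⟩).symm
  · have h1 : (⟨(r p.1 * p.2.1) (bse k), good_image hk (mul_mem (hr p.1)
        ⟨p.2.2.1, fun i hi => p.2.2.2 i (by omega)⟩)⟩ : {v : Fin 64 // Good k v}) = p.1 :=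
      Subtype.ext (by
        show r p.1 (p.2.1 (bse k)) = _
        rw [p.2.2.2 k (by omega), hrv])
    refine Prod.ext h1 (Subtype.ext ?_)
    show (r _)⁻¹ * (r p.1 * p.2.1) = p.2.1
    rw [h1, inv_mul_cancel_left]

theorem stab_six : stab 6 = ⊥ := by
  refine (Subgroup.eq_bot_iff_forall _).2 fun π hπ => Equiv.ext fun v => ?_
  obtain ⟨b0, b1, b2, b3, b4, b5⟩ := bse_val
  have h0 := hπ.2 0 (by omega); have h1 := hπ.2 1 (by omega); have h2 := hπ.2 2 (by omega)
  have h3 := hπ.2 3 (by omega); have h4 := hπ.2 4 (by omega); have h5 := hπ.2 5 (by omega)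
  rw [b0] at h0; rw [b1] at h1; rw [b2] at h2; rw [b3] at h3; rw [b4] at h4; rw [b5] at h5
  rw [eq_linF hπ.1, h0, h1, h2, h3, h4, h5, decomp]
  rfl

theorem card_good : ∀ k < 6,
    Fintype.card {v : Fin 64 // Good k v} = [35, 18, 8, 4, 2, 1].getD k 0 := by
  decide +kernel

theorem card_O : Nat.card O = 40320 := by
  have h0 : stab 0 = O := le_antisymm (fun _ h => h.1)
    fun _ h => ⟨h, fun i hi => absurd hi (Nat.not_lt_zero i)⟩
  rw [← h0, card_step (k := 0) (by omega), card_step (k := 1) (by omega),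
    card_step (k := 2) (by omega), card_step (k := 3) (by omega), card_step (k := 4) (by omega),
    card_step (k := 5) (by omega), stab_six, Subgroup.card_bot]
  simp only [Nat.card_eq_fintype_card, card_good 0 (by omega), card_good 1 (by omega),
    card_good 2 (by omega), card_good 3 (by omega), card_good 4 (by omega),
    card_good 5 (by omega)]
  rfl

theorem conj_of_seven {E : Type*} [Group E] [Finite E] (hE : Nat.card E = 40320) {x y : E}
    (hx : orderOf x = 7) (hy : orderOf y = 7) :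
    ∃ σ : E, ∃ i : ℕ, σ * y ^ i * σ⁻¹ = x := by
  haveI : Fact (Nat.Prime 7) := ⟨by norm_num⟩
  have hfac : (7 : ℕ) ^ (Nat.card E).factorization 7 = 7 := by
    rw [hE, show (40320 : ℕ) = 7 ^ 1 * 5760 from rfl,
      Nat.factorization_mul (by norm_num) (by norm_num), Finsupp.add_apply,
      Nat.Prime.factorization_pow (by norm_num), Finsupp.single_eq_same,
      Nat.factorization_eq_zero_of_not_dvd (by norm_num), add_zero, pow_one]
  let P : Sylow 7 E := Sylow.ofCard (Subgroup.zpowers y) (by rw [Nat.card_zpowers, hy, hfac])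
  let P' : Sylow 7 E := Sylow.ofCard (Subgroup.zpowers x) (by rw [Nat.card_zpowers, hx, hfac])
  obtain ⟨σ, hσ⟩ := MulAction.exists_smul_eq E P P'
  have hmem : x ∈ (Subgroup.zpowers y).map (MulAut.conj σ).toMonoidHom := by
    have h1 : x ∈ ((σ • P : Sylow 7 E) : Subgroup E) := by
      rw [hσ]
      show x ∈ Subgroup.zpowers x
      exact Subgroup.mem_zpowers x
    exact h1
  obtain ⟨_, hn, hnx⟩ := hmem
  obtain ⟨i, rfl⟩ := mem_powers_iff_mem_zpowers.2 hn
  exact ⟨σ, i, hnx⟩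

/-! ### the standard maps -/

/-- the images under `F ^ i` -/
def fI (i : ℕ) : List (Fin 64) :=
  [[1, 2, 4, 8, 16, 32], [2, 5, 6, 56, 8, 40], [5, 4, 3, 24, 56, 16], [4, 6, 7, 48, 24, 8],
   [6, 3, 1, 32, 48, 56], [3, 7, 2, 40, 32, 24], [7, 1, 5, 16, 40, 48]].getD i []

/-- the images under `H ^ i` -/
def hI (i : ℕ) : List (Fin 64) :=
  [[1, 2, 4, 8, 16, 32], [2, 4, 1, 16, 32, 8], [4, 1, 2, 32, 8, 16]].getD i []

/-- the images under `T` -/
def tI (j : ℕ) : List (Fin 64) :=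
  if j = 0 then [4, 2, 1, 32, 16, 8] else [4, 2, 1, 35, 21, 14]

/-- the images under the exchange of the two halves -/
def sI : List (Fin 64) := [8, 16, 32, 1, 2, 4]

theorem std_ok : isoOK (fI 1) ∧ isoOK (hI 1) ∧ isoOK (tI 0) ∧ isoOK (tI 1) ∧ isoOK sI := by
  decide +kernel

/-- `F` -/
noncomputable def Fp : Perm (Fin 64) := isoOf (fI 1) std_ok.1

/-- `H` -/
noncomputable def Hp : Perm (Fin 64) := isoOf (hI 1) std_ok.2.1

theorem tI_ok (j : ℕ) : isoOK (tI j) := by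
  by_cases hj : j = 0
  · rw [hj]; exact std_ok.2.2.1
  · rw [show tI j = tI 1 by simp [tI, hj]]; exact std_ok.2.2.2.1

/-- `T` -/
noncomputable def Tp (j : ℕ) : Perm (Fin 64) := isoOf (tI j) (tI_ok j)

/-- the exchange of the two halves -/
noncomputable def Sp : Perm (Fin 64) := isoOf sI std_ok.2.2.2.2

theorem Fp_mem : Fp ∈ O := isoOf_mem _ _

theorem Hp_mem : Hp ∈ O := isoOf_mem _ _

theorem Tp_mem (j : ℕ) : Tp j ∈ O := isoOf_mem _ _

theorem Sp_mem : Sp ∈ O := isoOf_mem _ _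

theorem fI_check : ∀ i < 7, ∀ v,
    linF (fI 1) (linF (fI i) v) = linF (fI ((i + 1) % 7)) v := by decide +kernel

theorem hI_check : ∀ i < 3, ∀ v,
    linF (hI 1) (linF (hI i) v) = linF (hI ((i + 1) % 3)) v := by decide +kernel

theorem Fp_pow (i : ℕ) (v : Fin 64) : (Fp ^ i) v = linF (fI (i % 7)) v := by
  induction i with
  | zero => exact (decomp v).symm
  | succ i ih =>
    rw [pow_succ', Perm.mul_apply, ih, Fp, isoOf_apply, fI_check (i % 7) (Nat.mod_lt _ (by omega)),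
      Nat.mod_add_mod]

theorem Hp_pow (i : ℕ) (v : Fin 64) : (Hp ^ i) v = linF (hI (i % 3)) v := by
  induction i with
  | zero => exact (decomp v).symm
  | succ i ih =>
    rw [pow_succ', Perm.mul_apply, ih, Hp, isoOf_apply, hI_check (i % 3) (Nat.mod_lt _ (by omega)),
      Nat.mod_add_mod]

theorem Fp_seven : Fp ^ 7 = 1 := Equiv.ext fun v => by
  rw [Fp_pow]; exact decomp v

theorem Hp_three : Hp ^ 3 = 1 := Equiv.ext fun v => by
  rw [Hp_pow]; exact decomp v

theorem orderOf_Fp : orderOf Fp = 7 := by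
  haveI : Fact (Nat.Prime 7) := ⟨by norm_num⟩
  refine orderOf_eq_prime Fp_seven fun h => ?_
  have h1 := congrArg (fun π : Perm (Fin 64) => π 1) h
  rw [Fp, isoOf_apply] at h1
  exact absurd h1 (by decide +kernel)

/-! ### the searches -/

/-- images under a map `π` with `π F = F² π` from those of `1` and `16` -/
def hIm (x y : Fin 64) : List (Fin 64) :=
  [x, linF (fI 2) x, vx (linF (fI 4) x) x, linF (fI 2) y, y,
    vx (vx (linF (fI 4) y) (linF (fI 2) y)) y]

/-- images under a map `π` with `π H = H⁻¹ π` from those of `1` and `8` -/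
def tIm (x y : Fin 64) : List (Fin 64) :=
  [x, linF (hI 2) x, linF (hI 1) x, y, linF (hI 2) y, linF (hI 1) y]

/-- two lists of images give the same map -/
def sameB (f g : Fin 64 → Fin 64) : Bool :=
  Nat.beq (f 1).val (g 1).val && Nat.beq (f 2).val (g 2).val && Nat.beq (f 4).val (g 4).val &&
    Nat.beq (f 8).val (g 8).val && Nat.beq (f 16).val (g 16).val && Nat.beq (f 32).val (g 32).val

/-- preservation of the form -/
def qB (f : Fin 64 → Fin 64) : Bool :=
  allN 64 fun v => Bool.xor (q6 (f (Fin.ofNat 64 v))) (!(q6 (Fin.ofNat 64 v)))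

/-- the goal of the search for `h` -/
def hGood (π : Fin 64 → Fin 64) : Bool :=
  !(allN 7 fun m => !(sameB (fun v => linF (fI m) (π v)) fun v => linF (hI 1) (linF (fI m) v)))

/-- the search for `h` -/
theorem h_check : (allN 64 fun x => allN 64 fun y =>
    let π := linF (hIm (Fin.ofNat 64 x) (Fin.ofNat 64 y))
    !(!(q6 (π 1)) && !(q6 (π 16)) && qB π &&
      sameB (fun v => π (linF (fI 1) v)) (fun v => linF (fI 2) (π v)) &&
      sameB (fun v => π (π (π v))) (fun v => v)) || hGood π) = true := by decide +kernel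

/-- the goal of the search for `t` -/
def tGood (π : Fin 64 → Fin 64) : Bool :=
  !(allN 3 fun b => !(sameB (fun v => linF (hI b) (π v)) (linF (tI 0)) ||
    sameB (fun v => linF (hI b) (π v)) (linF (tI 1)) ||
    sameB (fun v => linF (hI b) (π v)) fun v => linF sI (linF (tI 1) (linF sI v))))

/-- the search for `t` -/
theorem t_check : (allN 64 fun x => allN 64 fun y =>
    let π := linF (tIm (Fin.ofNat 64 x) (Fin.ofNat 64 y))
    !(!(q6 (π 1)) && !(q6 (π 8)) && qB π && sameB (fun v => π (π v)) (fun v => v) &&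
      !(allN 6 fun i => !(sameB (fun v => linF (fI (i + 1)) (π (linF (fI (i + 1)) (π
        (linF (fI (i + 1)) (π v)))))) fun v => v))) || tGood π) = true := by decide +kernel

theorem eq_of_same {π σ : Perm (Fin 64)} (hπ : π ∈ O) (hσ : σ ∈ O) (h : sameB π σ = true) :
    π = σ := by
  simp only [sameB, Bool.and_eq_true, Nat.beq_eq, Fin.val_inj] at h
  obtain ⟨⟨⟨⟨⟨a, b⟩, c⟩, d⟩, e⟩, g⟩ := h
  exact Equiv.ext fun v => by rw [eq_linF hπ, eq_linF hσ, a, b, c, d, e, g]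

theorem same_of_eq {f g : Fin 64 → Fin 64} (h : f = g) : sameB f g = true := by
  subst h
  simp [sameB]

theorem qB_of {f : Fin 64 → Fin 64} (h : ∀ v, q6 (f v) = q6 v) : qB f = true := by
  have : ∀ n, allN n (fun v => Bool.xor (q6 (f (Fin.ofNat 64 v))) (!(q6 (Fin.ofNat 64 v))))
      = true := by
    intro n
    induction n with
    | zero => rfl
    | succ n ih => rw [allN, ih, h]; cases q6 (Fin.ofNat 64 n) <;> rfl
  exact this 64

theorem ofNat_val (x : Fin 64) : Fin.ofNat 64 x.val = x :=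
  Fin.ext (Nat.mod_eq_of_lt x.isLt)

theorem allN_false {f : ℕ → Bool} : ∀ {n}, allN n f = false → ∃ i < n, f i = false
  | 0, h => absurd h (by simp [allN])
  | n + 1, h => by
    rw [allN, Bool.and_eq_false_iff] at h
    rcases h with h | h
    · exact ⟨n, by omega, h⟩
    · obtain ⟨i, hi, h'⟩ := allN_false h
      exact ⟨i, by omega, h'⟩

theorem basis_facts : linF (fI 1) 1 = 2 ∧ vx (linF (fI 1) 2) 1 = 4 ∧ linF (fI 1) 16 = 8 ∧
    vx (vx (linF (fI 1) 8) 8) 16 = 32 ∧ linF (hI 1) 1 = 2 ∧ linF (hI 2) 1 = 4 ∧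
    linF (hI 1) 8 = 16 ∧ linF (hI 2) 8 = 32 ∧ (∀ v, linF (fI 2) (linF (fI 2) v) = linF (fI 4) v) := by
  decide +kernel

theorem h_solve {π : Perm (Fin 64)} (hπ : π ∈ O) (hF : π * Fp = Fp ^ 2 * π) (h3 : π ^ 3 = 1) :
    ∃ m, π = (Fp ^ m)⁻¹ * Hp * Fp ^ m := by
  obtain ⟨e1, e2, e3, e4, -, -, -, -, e22⟩ := basis_facts
  have hc : ∀ v, π (linF (fI 1) v) = linF (fI 2) (π v) := fun v => by
    have := congrArg (fun p : Perm (Fin 64) => p v) hF
    rw [Perm.mul_apply, Perm.mul_apply, Fp_pow] at this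
    exact this
  have a2 : π 2 = linF (fI 2) (π 1) := by rw [← hc, e1]
  have a4 : π 4 = vx (linF (fI 4) (π 1)) (π 1) := by
    rw [← e2, hπ.1, hc, a2, e22]
  have a8 : π 8 = linF (fI 2) (π 16) := by rw [← hc, e3]
  have a32 : π 32 = vx (vx (linF (fI 4) (π 16)) (linF (fI 2) (π 16))) (π 16) := by
    rw [← e4, hπ.1, hπ.1, hc, a8, e22]
  have hfun : linF (hIm (π 1) (π 16)) = π := funext fun v => Eq.trans
    (by rw [a2, a4, a8, a32]; rfl) (eq_linF hπ v).symm
  have h := allN_spec (allN_spec h_check (π 1).val (π 1).isLt) (π 16).val (π 16).isLt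
  simp only [ofNat_val, hfun] at h
  have h' : sameB (fun v => π (π (π v))) (fun v => v) = true := same_of_eq (funext fun v => by
    have := congrArg (fun p : Perm (Fin 64) => p v) h3
    simpa [pow_succ, Perm.mul_apply] using this)
  rw [qB_of hπ.2, same_of_eq (funext hc), h', hπ.2, hπ.2,
    show q6 1 = false from by decide +kernel, show q6 16 = false from by decide +kernel] at h
  simp only [Bool.not_false, Bool.and_self, Bool.not_true, Bool.false_or, hGood,
    Bool.not_eq_true'] at h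
  obtain ⟨m, hm, hs⟩ := allN_false h
  rw [Bool.not_eq_false'] at hs
  refine ⟨m, ?_⟩
  have e : Fp ^ m * π = Hp * Fp ^ m := by
    refine eq_of_same (mul_mem (pow_mem Fp_mem m) hπ) (mul_mem Hp_mem (pow_mem Fp_mem m)) ?_
    convert hs using 2 <;> funext v <;>
      simp [Fp_pow, Nat.mod_eq_of_lt hm, Hp, isoOf_apply]
  rw [mul_assoc, ← e, inv_mul_cancel_left]

theorem t_solve {π : Perm (Fin 64)} (hπ : π ∈ O) (hH : π * Hp = Hp ^ 2 * π) (h2 : π * π = 1)
    {i : ℕ} (hi : i < 7) (hi0 : i ≠ 0) (h3 : (Fp ^ i * π) ^ 3 = 1) :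
    ∃ b, Hp ^ b * π = Tp 0 ∨ Hp ^ b * π = Tp 1 ∨ Hp ^ b * π = Sp * Tp 1 * Sp := by
  obtain ⟨-, -, -, -, e1, e2, e3, e4, -⟩ := basis_facts
  have hc : ∀ v, π (linF (hI 1) v) = linF (hI 2) (π v) := fun v => by
    have := congrArg (fun p : Perm (Fin 64) => p v) hH
    rw [Perm.mul_apply, Perm.mul_apply, Hp_pow] at this
    exact this
  have hc2 : ∀ v, π (linF (hI 2) v) = linF (hI 1) (π v) := fun v => by
    have h22 : ∀ w, linF (hI 2) (linF (hI 2) w) = linF (hI 1) w := by decide +kernel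
    have h11 : linF (hI 1) (linF (hI 1) v) = linF (hI 2) v := hI_check 1 (by omega) v
    rw [← h11, hc, hc, h22]
  have a2 : π 2 = linF (hI 2) (π 1) := by rw [← hc, e1]
  have a4 : π 4 = linF (hI 1) (π 1) := by rw [← hc2, e2]
  have a16 : π 16 = linF (hI 2) (π 8) := by rw [← hc, e3]
  have a32 : π 32 = linF (hI 1) (π 8) := by rw [← hc2, e4]
  have hfun : linF (tIm (π 1) (π 8)) = π := funext fun v => Eq.trans
    (by rw [a2, a4, a16, a32]; rfl) (eq_linF hπ v).symm
  have h := allN_spec (allN_spec t_check (π 1).val (π 1).isLt) (π 8).val (π 8).isLt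
  simp only [ofNat_val, hfun] at h
  have h' : sameB (fun v => π (π v)) (fun v => v) = true := same_of_eq (funext fun v => by
    have := congrArg (fun p : Perm (Fin 64) => p v) h2
    simpa using this)
  have h'' : (allN 6 fun i => !(sameB (fun v => linF (fI (i + 1)) (π (linF (fI (i + 1)) (π
        (linF (fI (i + 1)) (π v)))))) fun v => v)) = false := by
    rw [Bool.eq_false_iff]
    intro hall
    have h4 := allN_spec hall (i - 1) (by omega)
    rw [show i - 1 + 1 = i by omega, Bool.not_eq_true', Bool.eq_false_iff] at h4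
    refine h4 (same_of_eq (funext fun v => ?_))
    have := congrArg (fun p : Perm (Fin 64) => p v) h3
    simpa [pow_succ, Perm.mul_apply, Fp_pow, Nat.mod_eq_of_lt hi] using this
  rw [qB_of hπ.2, h', h'', hπ.2, hπ.2,
    show q6 1 = false from by decide +kernel, show q6 8 = false from by decide +kernel] at h
  simp only [Bool.not_false, Bool.and_self, Bool.not_true, Bool.false_or, tGood,
    Bool.not_eq_true'] at h
  obtain ⟨b, hb, hs⟩ := allN_false h
  rw [Bool.not_eq_false', Bool.or_eq_true, Bool.or_eq_true] at hs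
  have hl : (fun v => linF (hI b) (π v)) = ⇑(Hp ^ b * π) := funext fun v => by
    rw [Perm.mul_apply, Hp_pow, Nat.mod_eq_of_lt hb]
  rw [hl] at hs
  refine ⟨b, ?_⟩
  have hm : Hp ^ b * π ∈ O := mul_mem (pow_mem Hp_mem b) hπ
  rcases hs with (hs | hs) | hs
  · exact Or.inl (eq_of_same hm (Tp_mem 0) hs)
  · exact Or.inr (Or.inl (eq_of_same hm (Tp_mem 1) hs))
  · exact Or.inr (Or.inr (eq_of_same hm (mul_mem (mul_mem Sp_mem (Tp_mem 1)) Sp_mem) hs))

theorem S_facts : (∀ v, linF sI (linF sI v) = v) ∧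
    (∀ v, linF sI (linF (fI 1) (linF sI v)) = linF (fI 6) v) ∧
    ∀ v, linF sI (linF (hI 1) (linF sI v)) = linF (hI 1) v := by decide +kernel

theorem S_inv : Sp⁻¹ = Sp :=
  inv_eq_of_mul_eq_one_right (Equiv.ext fun v => S_facts.1 v)

theorem S_conjF : Sp * Fp * Sp⁻¹ = Fp ^ 6 := by
  rw [S_inv]
  exact Equiv.ext fun v => by rw [Fp_pow]; exact S_facts.2.1 v

theorem S_conjH : Sp * Hp * Sp⁻¹ = Hp := by
  rw [S_inv]
  exact Equiv.ext fun v => S_facts.2.2 v

/-- Coordinates in which three elements with the relations of the models generate the standard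
group. -/
theorem exists_std (R : Subgroup (Perm (Fin 64))) (hR : R ≤ O) {f h t : Perm (Fin 64)}
    (hf : f ∈ R) (hh : h ∈ R) (ht : t ∈ R) (f7 : f ^ 7 = 1) (f1 : f ≠ 1) (h3 : h ^ 3 = 1)
    (hhf : h * f * h⁻¹ = f ^ 2) (t2 : t * t = 1) (hth : t * h * t⁻¹ = h⁻¹)
    (hft : (f * t) ^ 3 = 1) :
    ∃ σ ∈ O, ∃ j < 2, σ * Fp * σ⁻¹ ∈ R ∧ σ * Hp * σ⁻¹ ∈ R ∧ σ * Tp j * σ⁻¹ ∈ R := by
  haveI : Fact (Nat.Prime 7) := ⟨by norm_num⟩
  obtain ⟨σ₀, i₀, hσ₀⟩ := conj_of_seven (E := O) card_O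
    (x := ⟨f, hR hf⟩) (y := ⟨Fp, Fp_mem⟩)
    (by rw [← Subgroup.orderOf_coe]; exact orderOf_eq_prime f7 f1)
    (by rw [← Subgroup.orderOf_coe]; exact orderOf_Fp)
  replace hσ₀ := congrArg Subtype.val hσ₀
  simp only [Subgroup.coe_mul, Subgroup.coe_inv, SubmonoidClass.coe_pow] at hσ₀
  set σ := (σ₀ : Perm (Fin 64)) with hσdef
  have hσ : σ ∈ O := σ₀.2
  obtain ⟨i, hi, rfl⟩ : ∃ i < 7, σ * Fp ^ i * σ⁻¹ = f :=
    ⟨i₀ % 7, Nat.mod_lt _ (by omega), by rw [← pow_eq_pow_mod i₀ Fp_seven, hσ₀]⟩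
  have hi0 : i ≠ 0 := fun e => f1 (by rw [e, pow_zero, mul_one, mul_inv_cancel])
  obtain ⟨k, hk⟩ : ∃ k, (i * k) % 7 = 1 :=
    (show ∀ i < 7, i ≠ 0 → ∃ k < 7, (i * k) % 7 = 1 by decide) i hi hi0 |>.imp fun _ h => h.2
  have hFk : (Fp ^ i) ^ k = Fp := by
    rw [← pow_mul, pow_eq_pow_mod _ Fp_seven, hk, pow_one]
  -- the element of order three
  set h₀ := σ⁻¹ * h * σ with hh0
  have hh₀ : h₀ ∈ O := mul_mem (mul_mem (inv_mem hσ) (hR hh)) hσ
  have hconj : h₀ * Fp ^ i * h₀⁻¹ = (Fp ^ i) ^ 2 := by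
    have e1 : h₀ * Fp ^ i * h₀⁻¹ = σ⁻¹ * (h * (σ * Fp ^ i * σ⁻¹) * h⁻¹) * σ := by
      rw [hh0]; group
    rw [e1, hhf, conj_pow]
    group
  have hcomm : h₀ * Fp = Fp ^ 2 * h₀ := by
    have e := congrArg (· ^ k) hconj
    simp only [conj_pow] at e
    rw [hFk, ← pow_mul, mul_comm 2 k, pow_mul, hFk] at e
    rwa [mul_inv_eq_iff_eq_mul] at e
  have h₀3 : h₀ ^ 3 = 1 := by
    have := conj_pow (i := 3) (a := σ⁻¹) (b := h)
    rw [inv_inv] at this
    rw [hh0, this, h3, mul_one, inv_mul_cancel]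
  obtain ⟨m, hm⟩ := h_solve hh₀ hcomm h₀3
  set σ₂ := σ * (Fp ^ m)⁻¹ with hσ₂
  have hσ₂O : σ₂ ∈ O := mul_mem hσ (inv_mem (pow_mem Fp_mem m))
  have hF2 : σ₂ * Fp ^ i * σ₂⁻¹ = σ * Fp ^ i * σ⁻¹ := by
    rw [hσ₂]; group
  have hH2 : σ₂ * Hp * σ₂⁻¹ = h := by
    have : σ₂ * Hp * σ₂⁻¹ = σ * ((Fp ^ m)⁻¹ * Hp * Fp ^ m) * σ⁻¹ := by rw [hσ₂]; group
    rw [this, ← hm, hh0]; group
  have hFR : σ₂ * Fp * σ₂⁻¹ ∈ R := by
    have : σ₂ * Fp * σ₂⁻¹ = (σ₂ * Fp ^ i * σ₂⁻¹) ^ k := by rw [conj_pow, hFk]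
    rw [this, hF2]
    exact pow_mem hf k
  -- the involution
  set t₀ := σ₂⁻¹ * t * σ₂ with ht0
  have ht₀ : t₀ ∈ O := mul_mem (mul_mem (inv_mem hσ₂O) (hR ht)) hσ₂O
  have htH : t₀ * Hp = Hp ^ 2 * t₀ := by
    have e1 : t₀ * Hp * t₀⁻¹ = σ₂⁻¹ * (t * (σ₂ * Hp * σ₂⁻¹) * t⁻¹) * σ₂ := by rw [ht0]; group
    rw [hH2, hth, ← hH2] at e1
    rw [show σ₂⁻¹ * (σ₂ * Hp * σ₂⁻¹)⁻¹ * σ₂ = Hp⁻¹ by group, mul_inv_eq_iff_eq_mul] at e1
    rw [e1, inv_eq_of_mul_eq_one_left (a := Hp ^ 2) (by rw [← pow_succ, Hp_three])]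
  have t₀2 : t₀ * t₀ = 1 := by
    rw [show t₀ * t₀ = σ₂⁻¹ * (t * t) * σ₂ by rw [ht0]; group, t2, mul_one, inv_mul_cancel]
  have hft0 : (Fp ^ i * t₀) ^ 3 = 1 := by
    have e1 : Fp ^ i * t₀ = σ₂⁻¹ * ((σ₂ * Fp ^ i * σ₂⁻¹) * t) * σ₂⁻¹⁻¹ := by rw [ht0]; group
    rw [e1, conj_pow, hF2, hft, mul_one, mul_inv_cancel]
  obtain ⟨b, hb⟩ := t_solve ht₀ htH t₀2 hi hi0 hft0
  have hTR : σ₂ * (Hp ^ b * t₀) * σ₂⁻¹ ∈ R := by
    have : σ₂ * (Hp ^ b * t₀) * σ₂⁻¹ = (σ₂ * Hp * σ₂⁻¹) ^ b * t := by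
      rw [conj_pow, ht0]; group
    rw [this, hH2]
    exact mul_mem (pow_mem hh b) ht
  rcases hb with e | e | e <;> rw [e] at hTR
  · exact ⟨σ₂, hσ₂O, 0, by omega, hFR, hH2 ▸ hh, hTR⟩
  · exact ⟨σ₂, hσ₂O, 1, by omega, hFR, hH2 ▸ hh, hTR⟩
  · refine ⟨σ₂ * Sp, mul_mem hσ₂O Sp_mem, 1, by omega, ?_, ?_, ?_⟩
    · rw [show σ₂ * Sp * Fp * (σ₂ * Sp)⁻¹ = σ₂ * (Sp * Fp * Sp⁻¹) * σ₂⁻¹ by group, S_conjF,
        ← conj_pow]
      exact pow_mem hFR 6
    · rw [show σ₂ * Sp * Hp * (σ₂ * Sp)⁻¹ = σ₂ * (Sp * Hp * Sp⁻¹) * σ₂⁻¹ by group, S_conjH, hH2]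
      exact hh
    · rw [show σ₂ * Sp * Tp 1 * (σ₂ * Sp)⁻¹ = σ₂ * (Sp * Tp 1 * Sp⁻¹) * σ₂⁻¹ by group, S_inv]
      exact hTR

/-- the word of an element of the standard group -/
def wordAt (j k : ℕ) (v : Fin 64) : Fin 64 :=
  if k < 21 then linF (fI (k / 3)) (linF (hI (k % 3)) v)
  else linF (fI (k % 21 / 3)) (linF (hI (k % 3)) (linF (tI j) (linF (fI (k / 21 - 1)) v)))

theorem word_check : ∀ j < 2,
    ((List.range 168).map fun k => 64 * (64 * (64 * (64 * (64 * (wordAt j k 1).val +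
      (wordAt j k 2).val) + (wordAt j k 4).val) + (wordAt j k 8).val) + (wordAt j k 16).val) +
      (wordAt j k 32).val).Nodup := by
  decide +kernel

theorem le_card_closure {j : ℕ} (hj : j < 2) :
    168 ≤ Nat.card (Subgroup.closure ({Fp, Hp, Tp j} : Set (Perm (Fin 64)))) := by
  set K := Subgroup.closure ({Fp, Hp, Tp j} : Set (Perm (Fin 64)))
  have hw : ∀ k : Fin 168, ∃ π : K, ∀ v, π.1 v = wordAt j k v := fun k => by
    have hF : Fp ∈ K := Subgroup.subset_closure (by simp)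
    have hH : Hp ∈ K := Subgroup.subset_closure (by simp)
    have hT : Tp j ∈ K := Subgroup.subset_closure (by simp)
    have hk := k.isLt
    by_cases h : k.val < 21
    · refine ⟨⟨Fp ^ (k.val / 3) * Hp ^ (k.val % 3),
        mul_mem (pow_mem hF _) (pow_mem hH _)⟩, fun v => ?_⟩
      simp [wordAt, h, Fp_pow, Hp_pow, Nat.mod_eq_of_lt (show k.val / 3 < 7 by omega)]
    · refine ⟨⟨Fp ^ (k.val % 21 / 3) * Hp ^ (k.val % 3) * Tp j * Fp ^ (k.val / 21 - 1),
        mul_mem (mul_mem (mul_mem (pow_mem hF _) (pow_mem hH _)) hT) (pow_mem hF _)⟩, fun v => ?_⟩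
      simp [wordAt, h, Fp_pow, Hp_pow, Tp, isoOf_apply,
        Nat.mod_eq_of_lt (show k.val % 21 / 3 < 7 by omega),
        Nat.mod_eq_of_lt (show k.val / 21 - 1 < 7 by omega)]
  choose π hπ using hw
  have h := Nat.card_le_card_of_injective π fun a b e => by
    refine Fin.ext (List.inj_on_of_nodup_map (word_check j hj) (List.mem_range.2 a.isLt)
      (List.mem_range.2 b.isLt) ?_)
    simp only [← hπ, e]
  simpa using h

/-- Coordinates for a group of order 168. -/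
theorem exists_coords (R : Subgroup (Perm (Fin 64))) (hR : R ≤ O) (hcard : Nat.card R = 168)
    {f h t : Perm (Fin 64)}
    (hf : f ∈ R) (hh : h ∈ R) (ht : t ∈ R) (f7 : f ^ 7 = 1) (f1 : f ≠ 1) (h3 : h ^ 3 = 1)
    (hhf : h * f * h⁻¹ = f ^ 2) (t2 : t * t = 1) (hth : t * h * t⁻¹ = h⁻¹)
    (hft : (f * t) ^ 3 = 1) :
    ∃ σ ∈ O, ∃ j < 2,
      R.map (MulAut.conj σ⁻¹).toMonoidHom = Subgroup.closure {Fp, Hp, Tp j} := by
  obtain ⟨σ, hσ, j, hj, hF, hH, hT⟩ := exists_std R hR hf hh ht f7 f1 h3 hhf t2 hth hft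
  refine ⟨σ, hσ, j, hj, (Subgroup.eq_of_le_of_card_ge ((Subgroup.closure_le _).2 ?_) ?_).symm⟩
  · rintro x hx
    simp only [Set.mem_insert_iff, Set.mem_singleton_iff] at hx
    refine ⟨σ * x * σ⁻¹, ?_, by simp [mul_assoc]⟩
    rcases hx with rfl | rfl | rfl
    exacts [hF, hH, hT]
  · rw [Subgroup.card_map_of_injective (MulAut.conj σ⁻¹).injective, hcard]
    exact le_card_closure hj

end CfsgLib.Spor.HeRecog.FrameO
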