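import Cfsg.Agent.Lib.Spor.HeRecog.Tri
import Cfsg.Agent.Lib.Spor.HeRecog.Interface

/-!
# The generator `d` outside the centraliser of `z`
-/

set_option autoImplicit false
set_option maxHeartbeats 1000000

namespace CfsgLib.Spor.HeRecog

universe u

/-- The elements of the centraliser of `z` and the structure of the centraliser of `u`. -/
structure Setting {G : Type u} [Group G] (z u v τ b f g k : G) where
  X : Type u
  [grp : Group X]
  π : Subgroup.centralizer ({u, v} : Set G) →* X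
  surj : Function.Surjective π
  ker : ∀ x, π x = 1 ↔ (x : G) = 1 ∨ (x : G) = u ∨ (x : G) = v ∨ (x : G) = u * v
  big_exists : ∀ d : X, d * d = 1 → d ≠ 1 →
    ∃ x : Subgroup.centralizer ({u, v} : Set G), Big z u x ∧ π x = d
  big_unique : ∀ x y : Subgroup.centralizer ({u, v} : Set G),
    Big z u x → Big z u y → π x = π y → x = y
  sq_invol : ∀ x, π (x * x) = 1 → π x ≠ 1 → x * x = 1
  t_mem : ∀ t : G, IsConj t z → t * u = u * t → t * v = v * t
  zz : z * z = 1
  zne : z ≠ 1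
  uu : u * u = 1
  une : u ≠ 1
  vv : v * v = 1
  uv : u * v = v * u
  tt : τ * τ = 1
  bb : b * b = 1
  ff : f * f = 1
  gg : g * g = 1
  kk : k * k = 1
  zM : z ∈ Subgroup.centralizer ({u, v} : Set G)
  fM : f ∈ Subgroup.centralizer ({u, v} : Set G)
  gM : g ∈ Subgroup.centralizer ({u, v} : Set G)
  kM : k ∈ Subgroup.centralizer ({u, v} : Set G)
  kne : k ≠ z
  uT : ¬ IsConj u z
  vT : ¬ IsConj v z
  uvT : ¬ IsConj (u * v) z
  fBig : Big z u f
  gBig : Big z u g
  kBig : Big z u k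
  zBig : Big z u z
  tu : τ * u * τ⁻¹ = u
  tv : τ * v * τ⁻¹ = u * v
  tz : τ * z * τ⁻¹ = z
  tf : τ * f * τ⁻¹ = f
  tg : τ * g * τ⁻¹ = g
  tk : τ * k * τ⁻¹ = k * z * u
  bu : b * u * b⁻¹ = u * τ
  bt : b * τ * b⁻¹ = τ
  bz : b * z * b⁻¹ = z
  bf : b * f * b⁻¹ = f
  bg : b * g * b⁻¹ = g
  fg : f * g * (f * g) = z
  kf : k * f = f * k
  kg : k * g = g * k
  bzT : IsConj (b * z) z
  tauU : orderOf τ = 2 ∧ ¬ IsConj τ z
  three : ∀ t w x : G, IsConj t z → orderOf w = 2 → ¬ IsConj w z → Commute t w → Commute x t →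
    Commute x w → x ^ 3 = 1 → x = 1
  config : ∀ F G' C E : X, F * F = 1 → G' * G' = 1 → C * C = 1 → E = F * G' * (F * G') →
    E * E = 1 → E ≠ 1 → C ≠ 1 → C ≠ E → C * F = F * C → C * G' = G' * C →
    ∃ d₀ : X, Triangle E F G' d₀ ∧
      (∀ d, Triangle E F G' d →
        d = d₀ ∨ d = E * d₀ * E ∨ d = C * d₀ * C ∨ d = C * E * d₀ * (E * C)) ∧
      E * d₀ * E ≠ d₀ ∧
      ∀ d, Triangle E F G' d → orderOf (C * d) = 5 ∧ (C * d * F * G') ^ 4 = 1

theorem conj_pow_eq {K : Type u} [Group K] {p q : K} (hp : p * p = 1) (hq : q * q = 1) :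
    ∀ n : ℕ, (p * q) ^ n * p * ((p * q) ^ n)⁻¹ = (p * q) ^ (2 * n) * p
  | 0 => by simp
  | n + 1 => by
    have e1 : (p * q)⁻¹ = q * p := by
      rw [mul_inv_rev, inv_eq_of_mul_eq_one_right hp, inv_eq_of_mul_eq_one_right hq]
    calc (p * q) ^ (n + 1) * p * ((p * q) ^ (n + 1))⁻¹
        = (p * q) * ((p * q) ^ n * p * ((p * q) ^ n)⁻¹) * (p * q)⁻¹ := by
          rw [pow_succ', mul_inv_rev]; simp only [mul_assoc]
      _ = (p * q) * (p * q) ^ (2 * n) * (p * q) * p := by rw [conj_pow_eq hp hq n, e1]; group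
      _ = (p * q) ^ (2 * (n + 1)) * p := by
          rw [show 2 * (n + 1) = (2 * n + 1) + 1 by ring, pow_succ, pow_succ']

theorem isConj_conj_iff {G : Type u} [Group G] {x y : G} (g : G) :
    IsConj (g * x * g⁻¹) y ↔ IsConj x y :=
  ⟨fun h => (isConj_iff.2 ⟨g, rfl⟩).trans h, fun h => (isConj_iff.2 ⟨g, rfl⟩).symm.trans h⟩

theorem sq_of_isConj {G : Type u} [Group G] {x y : G} (h : IsConj x y) (hy : y * y = 1) :
    x * x = 1 := by
  obtain ⟨w, hw⟩ := isConj_iff.1 h.symm
  rw [← hw, conj_mul, hy]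
  group

namespace Setting

variable {G : Type u} [Group G] {z u v τ b f g k : G} (S : Setting z u v τ b f g k)
include S

theorem mem_iff {x : G} : x ∈ Subgroup.centralizer ({u, v} : Set G) ↔
    x * u = u * x ∧ x * v = v * x := by
  rw [Subgroup.mem_centralizer_iff]
  simp only [Set.mem_insert_iff, Set.mem_singleton_iff, forall_eq_or_imp, forall_eq]
  exact ⟨fun h => ⟨h.1.symm, h.2.symm⟩, fun h => ⟨h.1.symm, h.2.symm⟩⟩

theorem uM : u ∈ Subgroup.centralizer ({u, v} : Set G) := S.mem_iff.2 ⟨rfl, S.uv⟩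

theorem ker_sq {x : Subgroup.centralizer ({u, v} : Set G)}
    (h : letI := S.grp; S.π x = 1) : (x : G) * x = 1 := by
  letI := S.grp
  rcases (S.ker x).1 h with r | r | r | r <;> rw [r]
  exacts [one_mul 1, S.uu, S.vv, by
    rw [show u * v * (u * v) = u * (v * u) * v by group, ← S.uv,
      show u * (u * v) * v = (u * u) * (v * v) by group, S.uu, S.vv, one_mul]]

theorem not_ker {x : Subgroup.centralizer ({u, v} : Set G)} (hx : IsConj (x : G) z) :
    letI := S.grp; S.π x ≠ 1 := by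
  letI := S.grp
  intro h
  rcases (S.ker x).1 h with r | r | r | r <;> rw [r] at hx
  exacts [S.zne (isConj_one_left.1 hx.symm), S.uT hx, S.vT hx, S.uvT hx]

theorem big_conj {w x : G} (hw : w * u = u * w) (hx : Big z u x) : Big z u (w * x * w⁻¹) := by
  obtain ⟨h1, h2, h3⟩ := hx
  have e : w * u * w⁻¹ = u := by rw [hw, mul_inv_cancel_right]
  refine ⟨(isConj_conj_iff w).2 h1, ?_, ?_⟩
  · conv_lhs => rw [← e, conj_mul, h2, ← conj_mul, e]
  · rw [← e, conj_mul]
    exact fun hh => h3 ((isConj_conj_iff w).1 hh)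

/-- Conjugation by `τ` as an endomorphism of the centraliser of `u` and `v`. -/
def σ : Subgroup.centralizer ({u, v} : Set G) →* Subgroup.centralizer ({u, v} : Set G) :=
  (((MulAut.conj τ).toMonoidHom.comp (Subgroup.subtype _))).codRestrict _ fun x => by
    obtain ⟨h1, h2⟩ := S.mem_iff.1 x.2
    refine S.mem_iff.2 ?_
    have a1 : τ * x * τ⁻¹ * u = u * (τ * x * τ⁻¹) := by
      have := congrArg (fun w => τ * w * τ⁻¹) h1
      simpa only [← conj_mul, S.tu] using this
    have a2 : τ * x * τ⁻¹ * (u * v) = u * v * (τ * x * τ⁻¹) := by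
      have := congrArg (fun w => τ * w * τ⁻¹) h2
      simpa only [← conj_mul, S.tv] using this
    refine ⟨a1, mul_left_cancel (a := u) ?_⟩
    show u * (τ * x * τ⁻¹ * v) = u * (v * (τ * x * τ⁻¹))
    rw [← mul_assoc, ← a1, mul_assoc, a2, ← mul_assoc u v]

theorem σ_val (x : Subgroup.centralizer ({u, v} : Set G)) : (S.σ x : G) = τ * x * τ⁻¹ := rfl

theorem σ_σ (x : Subgroup.centralizer ({u, v} : Set G)) : S.σ (S.σ x) = x := Subtype.ext (by
  rw [σ_val, σ_val, show τ * (τ * (x : G) * τ⁻¹) * τ⁻¹ = (τ * τ) * x * (τ * τ)⁻¹ by group, S.tt,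
    one_mul, inv_one, mul_one])

theorem ker_σ : letI := S.grp; S.π.ker ≤ (S.π.comp S.σ).ker := by
  letI := S.grp
  intro x hx
  rw [MonoidHom.mem_ker, MonoidHom.comp_apply] at *
  rw [S.ker] at hx ⊢
  rw [σ_val]
  rcases hx with e | e | e | e <;> rw [e]
  · exact Or.inl (by group)
  · exact Or.inr (Or.inl S.tu)
  · exact Or.inr (Or.inr (Or.inr S.tv))
  · exact Or.inr (Or.inr (Or.inl (by rw [← conj_mul, S.tu, S.tv, ← mul_assoc, S.uu, one_mul])))

theorem exact_rel (n : ℕ) (x y : Subgroup.centralizer ({u, v} : Set G)) (hx : Big z u (x : G))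
    (hy : Big z u (y : G)) (hpow : letI := S.grp; (S.π x * S.π y) ^ (2 * n + 1) = 1) :
    ((x : G) * y) ^ (2 * n + 1) = 1 := by
  letI := S.grp
  have hxx : x * x = 1 := Subtype.ext (sq_of_isConj hx.1 S.zz)
  have hyy : y * y = 1 := Subtype.ext (sq_of_isConj hy.1 S.zz)
  have hY : S.π y * S.π y = 1 := by rw [← map_mul, hyy, map_one]
  have hw : S.π ((x * y) ^ n * x * ((x * y) ^ n)⁻¹) = S.π y := by
    rw [conj_pow_eq hxx hyy n, map_mul, map_pow, map_mul]
    rw [pow_succ, ← mul_assoc] at hpow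
    exact (eq_inv_of_mul_eq_one_left hpow).trans (inv_eq_of_mul_eq_one_right hY)
  have e := S.big_unique ((x * y) ^ n * x * ((x * y) ^ n)⁻¹) y
    (by
      have := S.big_conj (w := (((x * y) ^ n : Subgroup.centralizer ({u, v} : Set G)) : G))
        (S.mem_iff.1 ((x * y) ^ n).2).1 hx
      simpa using this) hy hw
  rw [conj_pow_eq hxx hyy n] at e
  have e' := congrArg Subtype.val e
  push_cast at e'
  rw [pow_succ, ← mul_assoc, e']
  exact sq_of_isConj hy.1 S.zz

/-- The seventh generator. -/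
theorem exists_generator : ∃ d : G, d * d = 1 ∧ d * u = u * d ∧ b * d = d * b ∧
    (d * z) ^ 3 = 1 ∧ (d * f) ^ 3 = 1 ∧ (d * g) ^ 3 = 1 ∧
    (k * u * d) ^ 5 = u ∧ (k * u * d * f * g) ^ 4 = 1 := by
  letI := S.grp
  let M := Subgroup.centralizer ({u, v} : Set G)
  let θ : S.X →* S.X := (S.π.liftOfSurjective S.surj) ⟨S.π.comp S.σ, S.ker_σ⟩
  have hθ : ∀ x, θ (S.π x) = S.π (S.σ x) := fun x =>
    MonoidHom.liftOfRightInverse_comp_apply _ _ _ _ x
  have θθ : ∀ x, θ (θ x) = x := fun x => by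
    obtain ⟨x, rfl⟩ := S.surj x
    rw [hθ, hθ, σ_σ]
  let zm : M := ⟨z, S.zM⟩
  let fm : M := ⟨f, S.fM⟩
  let gm : M := ⟨g, S.gM⟩
  let km : M := ⟨k, S.kM⟩
  let um : M := ⟨u, S.uM⟩
  have sq1 : ∀ {x : M}, (x : G) * x = 1 → S.π x * S.π x = 1 := fun {x} h => by
    rw [← map_mul, show x * x = 1 from Subtype.ext h, map_one]
  have EE := sq1 (x := zm) S.zz
  have FF := sq1 (x := fm) S.ff
  have GG := sq1 (x := gm) S.gg
  have CC := sq1 (x := km) S.kk
  have πu : S.π um = 1 := (S.ker um).2 (Or.inr (Or.inl rfl))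
  have θE : θ (S.π zm) = S.π zm := by rw [hθ]; exact congrArg S.π (Subtype.ext S.tz)
  have θF : θ (S.π fm) = S.π fm := by rw [hθ]; exact congrArg S.π (Subtype.ext S.tf)
  have θG : θ (S.π gm) = S.π gm := by rw [hθ]; exact congrArg S.π (Subtype.ext S.tg)
  have θC : θ (S.π km) = S.π km * S.π zm := by
    rw [hθ, show S.σ km = km * zm * um from Subtype.ext S.tk, map_mul, map_mul, πu, mul_one]
  have CF : S.π km * S.π fm = S.π fm * S.π km := by
    rw [← map_mul, show km * fm = fm * km from Subtype.ext S.kf, map_mul]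
  have CG : S.π km * S.π gm = S.π gm * S.π km := by
    rw [← map_mul, show km * gm = gm * km from Subtype.ext S.kg, map_mul]
  have CE : S.π km * S.π zm = S.π zm * S.π km := by
    have e : S.π zm = S.π fm * S.π gm * (S.π fm * S.π gm) := by
      rw [← map_mul, ← map_mul]
      exact congrArg S.π (Subtype.ext S.fg.symm)
    rw [e]
    exact ((Commute.mul_right CF CG).mul_right (Commute.mul_right CF CG)).eq
  obtain ⟨d₀, h₀, hall, n1, hord⟩ := S.config (S.π fm) (S.π gm) (S.π km) (S.π zm) FF GG CC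
    (by rw [← map_mul, ← map_mul]; exact congrArg S.π (Subtype.ext S.fg.symm)) EE
    (S.not_ker (x := zm) (IsConj.refl z)) (S.not_ker (x := km) S.kBig.1)
    (fun e => S.kne (congrArg Subtype.val (S.big_unique km zm S.kBig S.zBig e))) CF CG
  obtain ⟨D, hD, θD, hDfix⟩ := exists_fixed_triangle EE CC CE CF CG θ θθ θE θF θG θC d₀ h₀ hall n1
  obtain ⟨d, hd, rfl⟩ := S.big_exists D hD.1 hD.2.1
  have dd : (d : G) * d = 1 := sq_of_isConj hd.1 S.zz
  have tu' : τ * u = u * τ := by conv_rhs => rw [← S.tu, inv_mul_cancel_right]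
  have σd : S.σ d = d := S.big_unique _ _ (S.big_conj tu' hd) hd (by rw [← hθ, θD])
  have dτ : (d : G) * τ = τ * d := by
    have := congrArg Subtype.val σd
    rw [σ_val] at this
    conv_lhs => rw [← this, inv_mul_cancel_right]
  have ord3 : ∀ y : M, Big z u (y : G) → orderOf (S.π d * S.π y) = 3 → ((d : G) * y) ^ 3 = 1 :=
    fun y hy h3 => S.exact_rel 1 d y hd hy (by
      rw [show 2 * 1 + 1 = 3 from rfl, ← h3, pow_orderOf_eq_one])
  have de3 : ((d : G) * z) ^ 3 = 1 := ord3 zm S.zBig hD.2.2.1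
  have df3 : ((d : G) * f) ^ 3 = 1 := ord3 fm S.fBig hD.2.2.2.1
  have dg3 : ((d : G) * g) ^ 3 = 1 := ord3 gm S.gBig hD.2.2.2.2
  obtain ⟨o5, o4⟩ := hord _ hD
  refine ⟨d, dd, (S.mem_iff.1 d.2).1, ?_, de3, df3, dg3, ?_, ?_⟩
  rotate_left
  · have h5 : (k * (d : G)) ^ 5 = 1 := S.exact_rel 2 km d S.kBig hd (by
      rw [show 2 * 2 + 1 = 5 from rfl, ← o5, pow_orderOf_eq_one])
    have hc : Commute (k * (d : G)) u :=
      Commute.mul_left (S.mem_iff.1 S.kM).1 (S.mem_iff.1 d.2).1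
    rw [mul_assoc, show u * (d : G) = d * u from (S.mem_iff.1 d.2).1.symm, ← mul_assoc,
      hc.mul_pow, h5, one_mul, show (5 : ℕ) = 2 * 2 + 1 from rfl, pow_succ, pow_mul, pow_two u,
      S.uu, one_pow, one_mul]
  · let y : M := (km * um * d * fm * gm) * (km * um * d * fm * gm)
    have hy : S.π (y * y) = 1 := by
      rw [← o4, show y * y = (km * um * d * fm * gm) ^ 4 by
        simp only [y, pow_succ, pow_zero, one_mul, mul_assoc], map_pow]
      simp only [map_mul, πu, mul_one]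
    rw [show (k * u * (d : G) * f * g) ^ 4 = ((y * y : M) : G) by
      simp only [y, km, um, fm, gm, Subgroup.coe_mul, pow_succ, pow_zero, one_mul, mul_assoc]]
    by_cases h1 : S.π y = 1
    · push_cast
      exact S.ker_sq h1
    · rw [S.sq_invol y hy h1]; rfl
  -- `b` commutes with `d`
  obtain ⟨y, hy⟩ : ∃ y, y = b * (d : G) * b⁻¹ := ⟨_, rfl⟩
  suffices hyd : y = d by
    conv_rhs => rw [← hyd, hy, inv_mul_cancel_right]
  have yτ : y * τ = τ * y := by
    rw [hy]; conv_lhs => rw [← S.bt, conj_mul, dτ, ← conj_mul, S.bt]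
  have yu : y * u = u * y := by
    have h1 : y * (u * τ) = u * τ * y := by
      rw [hy, ← S.bu, conj_mul, conj_mul, (S.mem_iff.1 d.2).1]
    rw [← mul_assoc, mul_assoc u, ← yτ, ← mul_assoc] at h1
    exact mul_right_cancel h1
  have yT : IsConj y z := hy ▸ (isConj_conj_iff b).2 hd.1
  let ym : M := ⟨y, S.mem_iff.2 ⟨yu, S.t_mem y yT yu⟩⟩
  have σy : S.σ ym = ym := Subtype.ext (by
    show τ * y * τ⁻¹ = y
    rw [← yτ, mul_inv_cancel_right])
  have ordy : ∀ w : M, b * (w : G) * b⁻¹ = w → (w : G) * w = 1 → ((d : G) * w) ^ 3 = 1 →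
      orderOf (S.π d * S.π w) = 3 → orderOf (S.π ym * S.π w) = 3 := by
    intro w hw hww h3 ho
    have e3 : (y * (w : G)) ^ 3 = 1 := by
      rw [hy]
      conv_lhs => rw [← hw, conj_mul, conj_pow, h3]
      group
    rw [← map_mul]
    refine orderOf_eq_prime (by rw [← map_pow, show (ym * w) ^ 3 = 1 from Subtype.ext e3, map_one])
      fun e => ?_
    have hsq := S.ker_sq e
    push_cast at hsq
    change y * (w : G) * (y * w) = 1 at hsq
    rw [pow_succ, pow_two, hsq, one_mul, hy] at e3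
    conv_lhs at e3 => rw [← hw, conj_mul]
    rw [conj_eq_one_iff] at e3
    rw [← map_mul, show d * w = 1 from Subtype.ext e3, map_one, orderOf_one] at ho
    norm_num at ho
  have hyT : Triangle (S.π zm) (S.π fm) (S.π gm) (S.π ym) :=
    ⟨sq1 (x := ym) (sq_of_isConj yT S.zz), S.not_ker (x := ym) yT,
      ordy zm S.bz S.zz de3 hD.2.2.1, ordy fm S.bf S.ff df3 hD.2.2.2.1,
      ordy gm S.bg S.gg dg3 hD.2.2.2.2⟩
  have lift : ∀ w : M, Big z u (w : G) → S.σ w = w → S.π ym = S.π w → y = w := by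
    intro w hw hσw e
    have hk' := (S.ker (w⁻¹ * ym)).1 (by rw [map_mul, map_inv, e, inv_mul_cancel])
    have hfix := congrArg Subtype.val (show S.σ (w⁻¹ * ym) = w⁻¹ * ym by
      rw [map_mul, map_inv, hσw, σy])
    rw [σ_val] at hfix
    rcases hk' with r | r | r | r <;> push_cast at r hfix <;>
      change (w : G)⁻¹ * y = _ at r
    · exact (inv_mul_eq_one.1 r).symm
    · refine absurd ?_ hw.2.2
      rw [← r, mul_inv_cancel_left]
      exact yT
    · change τ * ((w : G)⁻¹ * y) * τ⁻¹ = (w : G)⁻¹ * y at hfix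
      rw [r, S.tv] at hfix
      exact absurd (mul_eq_right.1 hfix) S.une
    · change τ * ((w : G)⁻¹ * y) * τ⁻¹ = (w : G)⁻¹ * y at hfix
      rw [r, ← conj_mul, S.tu, S.tv, ← mul_assoc, S.uu, one_mul] at hfix
      exact absurd (right_eq_mul.1 hfix) S.une
  rcases hDfix _ hyT (by rw [hθ, σy]) with r | r
  · exact lift d hd σd r
  exfalso
  have σz : S.σ zm = zm := Subtype.ext S.tz
  have zinv : z⁻¹ = z := inv_eq_of_mul_eq_one_right S.zz
  have e := lift (zm * d * zm⁻¹) (S.big_conj (S.mem_iff.1 S.zM).1 hd)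
    (by rw [map_mul, map_mul, map_inv, σz, σd])
    (by rw [r, map_mul, map_mul, map_inv, inv_eq_of_mul_eq_one_right EE])
  push_cast at e
  change y = z * (d : G) * z⁻¹ at e
  -- `b z` and `τ` centralise the element `d z` of order three
  have bzc : b * z = z * b := by conv_rhs => rw [← S.bz, inv_mul_cancel_right]
  have hbzd : Commute (b * z) (d : G) := by
    have h1 : (b * z) * d * (b * z)⁻¹ = d := by
      rw [bzc]
      calc z * b * (d : G) * (z * b)⁻¹ = z * (b * d * b⁻¹) * z⁻¹ := by group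
        _ = (z * z) * d * (z * z) := by rw [← hy, e, zinv]; group
        _ = d := by rw [S.zz, one_mul, mul_one]
    exact mul_inv_eq_iff_eq_mul.1 h1
  have hbzz : Commute (b * z) z := Commute.mul_left bzc (Commute.refl z)
  have htz : Commute τ z := by
    show τ * z = z * τ
    conv_rhs => rw [← S.tz, inv_mul_cancel_right]
  have htb : Commute (b * z) τ := by
    refine Commute.mul_left ?_ htz.symm
    show b * τ = τ * b
    conv_rhs => rw [← S.bt, inv_mul_cancel_right]
  have h1 := S.three (b * z) τ ((d : G) * z) S.bzT S.tauU.1 S.tauU.2 htb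
    (Commute.mul_left hbzd.symm hbzz.symm) (Commute.mul_left dτ htz.symm) de3
  have ho := hD.2.2.1
  rw [← map_mul, show d * zm = 1 from Subtype.ext h1, map_one, orderOf_one] at ho
  norm_num at ho

end Setting

end CfsgLib.Spor.HeRecog
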