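import Cfsg.Agent.Lib.Spor.He.Simple

/-!
# A group of the order of He with seven elements satisfying the relations of He
-/

set_option autoImplicit false

namespace CfsgLib.Spor.HeRecog

open Cfsg.Spor

universe u

/-- Seven elements satisfying the relations, not all trivial, generate a copy of He. -/
theorem isoHe_of_gens {G : Type u} [Group G] [Finite G] (hG : Nat.card G = 4030387200)
    (v : He.Gen → G) (hv : v .a ≠ 1)
    (hcox : ∀ x y : He.Gen, (v x * v y) ^ coxLabel He.edges x y = 1)
    (he1 : v .e = (v .f * v .g) ^ 2) (he2 : v .e = (v .a * v .b * v .c) ^ 3)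
    (ha : v .a = (v .c * v .d) ^ 5) (hlast : (v .c * v .d * v .f * v .g) ^ 4 = 1) :
    Cfsg.Spor.IsoHe G := by
  haveI := CfsgLib.Spor.He.finite
  haveI := CfsgLib.Spor.He.isHe.1
  have hrel : ∀ r ∈ coxRelators He.edges ∪ {r | r ∈ He.extra}, FreeGroup.lift v r = 1 := by
    rintro r (⟨x, -, y, -, rfl⟩ | hr)
    · simpa using hcox x y
    · simp only [He.extra, List.mem_cons, List.not_mem_nil, or_false, Set.mem_setOf_eq] at hr
      rcases hr with rfl | rfl | rfl | rfl
      · simp [← he1]
      · simp [← he2]
      · simp [← ha]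
      · simpa using hlast
  let φ : Cfsg.Spor.He →* G := PresentedGroup.toGroup hrel
  have hinj : Function.Injective φ := by
    rw [← MonoidHom.ker_eq_bot_iff]
    refine φ.normal_ker.eq_bot_or_eq_top.resolve_right fun h => hv ?_
    have hk : (PresentedGroup.of He.Gen.a : Cfsg.Spor.He) ∈ φ.ker := h ▸ Subgroup.mem_top _
    have e : φ (PresentedGroup.of He.Gen.a) = v .a := PresentedGroup.toGroup.of hrel
    rw [← e]
    exact hk
  have hbij : Function.Bijective φ := (Nat.bijective_iff_injective_and_card φ).2
    ⟨hinj, by rw [CfsgLib.Spor.He.natCard, hG]⟩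
  exact ⟨(MulEquiv.ofBijective φ hbij).symm⟩

end CfsgLib.Spor.HeRecog
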