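import Cfsg.Agent.Lib.Spor.HeRecog.ModelThree
import Cfsg.Agent.Lib.Involutions.ZStar.Main

/-!
# Only the split untwisted model occurs
-/

set_option autoImplicit false
set_option maxRecDepth 100000

namespace CfsgLib.Spor.HeRecog

universe u

theorem not_isolated {G : Type u} [Group G] [Finite G] {z : G} (h : Hyp z) :
    ¬ Cfsg.IsIsolatedInvolution z := by
  intro hz
  have := h.simple
  have hO : Cfsg.oddCore G = ⊥ :=
    ((Cfsg.pPrimeCore_normal 2 G : (Cfsg.oddCore G).Normal).eq_bot_or_eq_top).resolve_right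
      fun e => by
        have ho := CfsgLib.Base.odd_card_oddCore G
        rw [show Cfsg.oddCore G = ⊤ from e, Subgroup.card_top, h.card] at ho
        exact Nat.not_odd_iff_even.2 ⟨2015193600, rfl⟩ ho
  have hc := CfsgLib.Involutions.ZStar.mem_center_of_oddCore_eq_bot hz hO
  rcases (inferInstance : (Subgroup.center G).Normal).eq_bot_or_eq_top with e | e
  · rw [e, Subgroup.mem_bot] at hc
    have h2 := hz.1
    rw [hc, orderOf_one] at h2
    exact absurd h2 (by norm_num)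
  · obtain ⟨w, hw, hwz, htwo⟩ := h.two
    have hc' : ∀ g : G, g ∈ Subgroup.center G := fun g => e ▸ Subgroup.mem_top g
    have hall : ∀ x y : G, IsConj x y → x = y := fun x y hxy => by
      obtain ⟨g, rfl⟩ := isConj_iff.1 hxy
      rw [Subgroup.mem_center_iff.1 (hc' x) g, mul_inv_cancel_right]
    -- an abelian simple group has prime order
    let _ : CommGroup G :=
      { (inferInstance : Group G) with
        mul_comm := fun a b => (Subgroup.mem_center_iff.1 (hc' b) a) }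
    have hp := IsSimpleGroup.prime_card (α := G)
    rw [h.card] at hp
    exact Nat.not_prime_mul (by norm_num : (2 : ℕ) ≠ 1) (by norm_num : (2015193600 : ℕ) ≠ 1) hp

theorem Cen.isolated {k : ℕ} {G : Type u} [Group G] {z : G} (D : Cen k z)
    (hU : ∀ p ∈ clsL k, p.1 ≠ zN → ¬ IsConj (D.val p.1) z) : Cfsg.IsIsolatedInvolution z := by
  refine ⟨D.ord, fun g hg => ?_⟩
  have ho : orderOf (g * z * g⁻¹) = 2 := ((MulAut.conj g).orderOf_eq z).trans D.ord
  obtain ⟨m, hm, e, p, hp, hmp⟩ := D.invol_val ho hg.eq.symm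
  by_cases hz : p.1 = zN
  · rw [hz, clsOf_zN k D.hkr, List.mem_singleton] at hmp
    rw [← e, hmp, D.val_z]
  · refine absurd ((D.cls_isConj hmp).trans ?_) (hU p hp hz)
    rw [e]
    exact (isConj_iff.2 ⟨g, rfl⟩ : IsConj z (g * z * g⁻¹)).symm

theorem Cen.partner {k : ℕ} {G : Type u} [Group G] {z : G} (D : Cen k z)
    (hk : k = 1 ∨ k = 2 ∨ k = 3) {p : Nat × List (Nat × Nat)} (hp : p ∈ clsL k) (hne : p.1 ≠ zN)
    (hT : IsConj (D.val p.1) z) : k = 3 ∧ p.1 = 168 := by
  have hk' : k ∈ [1, 2, 3] := by simpa using hk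
  have hrep : ∀ q ∈ clsL k, q.1 ≠ zN → ∃ t ∈ sigTbl k, t.1 = q.1 := fun q hq hqz => by
    obtain ⟨t, ht, e⟩ := List.any_eq_true.1 ((sig_reps k hk' q hq).resolve_left hqz)
    exact ⟨t, ht, by simpa using e⟩
  obtain ⟨t, ht, et⟩ := hrep p hp hne
  obtain ⟨y, hy, hyz, hyT, -, -, h1, h2, -⟩ :=
    D.exists_swap ((class_spec k D.hkr p hp).1) hT hne
  have ho : orderOf (D.val y) = 2 := by
    obtain ⟨c, hc⟩ := isConj_iff.1 hyT
    have h3 := (MulAut.conj c).orderOf_eq (D.val y)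
    rw [MulAut.conj_apply, hc] at h3
    exact h3.symm.trans D.ord
  obtain ⟨m, hm, e, q, hq, hmq⟩ := D.invol_val ho (D.val_comm y hy)
  obtain rfl := D.val_inj m y hm hy e
  obtain ⟨n, hn, hc, hq', -⟩ := D.cls_conj hmq
  have hqz : q.1 ≠ zN := fun e => hyz (by rw [← hc, e, D.cjN_zN hn])
  obtain ⟨b, hb, eb⟩ := hrep q hq hqz
  obtain ⟨a1, a2⟩ := sig_spec hk ht
  obtain ⟨b1, b2⟩ := sig_spec hk hb
  rw [et] at a1 a2
  rw [eb] at b1 b2
  rw [← hc, D.rootsN_cj hn hq' hq', b2, a1] at h1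
  have hz' : rootsN k (cjN k n q.1) zN = rootsN k q.1 zN := by
    conv_lhs => rw [← D.cjN_zN hn]
    exact D.rootsN_cj hn hq' (by norm_num [zN])
  rw [← hc, hz', b1, a2] at h2
  have h3 := sig_partner k hk' t ht b hb h1 h2
  exact ⟨h3.1, et ▸ h3.2⟩

/-- B1: only the split untwisted model remains. -/
theorem model_zero : StmtModelZero.{u} := by
  intro G _ _ z k h D
  by_contra hk0
  have hk : k = 1 ∨ k = 2 ∨ k = 3 := by
    have := D.hk
    omega
  by_cases hT : k = 3 ∧ IsConj (D.val 168) z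
  · obtain ⟨rfl, h168⟩ := hT
    refine D.false_of_fused_168 h (fun a ha haT => ?_) h168
    have hmem : ∀ a ∈ [190, 1344, 1404], a ≠ zN ∧ a ≠ 168 ∧
        ∃ p ∈ clsL 3, p.1 = a := by decide +kernel
    obtain ⟨h1, h2, p, hp, rfl⟩ := hmem a ha
    exact h2 (D.partner hk hp h1 haT).2
  · refine not_isolated h (D.isolated fun p hp hne hpT => hT ?_)
    obtain ⟨h1, h2⟩ := D.partner hk hp hne hpT
    exact ⟨h1, h2 ▸ hpT⟩

end CfsgLib.Spor.HeRecog
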