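import Cfsg.Agent.Lib.Spor.HeRecog.SixCore
import Cfsg.Agent.Lib.Classical.PSLSimple
import Cfsg.Agent.Lib.Small.A6Centralizer

/-!
# The configuration of an unfused class

The indices of `A` are pairs of vectors of `GF(2)³`, so that the normaliser induces
`S₃ × L₃(2)`; the factors are lifted by uniqueness of the lifts centralising, or inverting, the
lift of the element of order three of the first factor.
-/

set_option autoImplicit false
set_option maxRecDepth 100000
set_option maxHeartbeats 1000000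
set_option linter.unusedSectionVars false

namespace CfsgLib.Spor.HeRecog.Six64

universe u

/-- the element of order three of the first factor -/
def hMap (x : ℕ) : ℕ := x / 8 + 8 * ((x % 8) ^^^ (x / 8))

/-- its square -/
def hMap2 (x : ℕ) : ℕ := hMap (hMap x)

/-- an involution of the first factor fixing the index of `z` -/
def sMap (x : ℕ) : ℕ := ((x % 8) ^^^ (x / 8)) + 8 * (x / 8)

theorem first_check : allN 64 (fun x =>
    Nat.blt (hMap x) 64 && Nat.blt (hMap2 x) 64 && Nat.blt (sMap x) 64 &&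
    (Nat.beq x 0 || (!(Nat.beq (hMap x) 0) && !(Nat.beq (sMap x) 0) && !(Nat.beq (hMap2 x) 0) &&
      !(Nat.beq (hMap x) x) && !(Nat.beq (hMap2 x) x))) &&
    (!(isT x) || (isT (hMap x) && isT (hMap2 x) && isT (sMap x))) &&
    Nat.beq (sMap (sMap x)) x && Nat.beq (hMap (hMap2 x)) x &&
    Nat.beq (sMap (hMap x)) (hMap2 (sMap x)) &&
    allN 64 fun y =>
      Nat.beq (hMap (Nat.xor x y)) (Nat.xor (hMap x) (hMap y)) &&
      Nat.beq (hMap2 (Nat.xor x y)) (Nat.xor (hMap2 x) (hMap2 y)) &&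
      Nat.beq (sMap (Nat.xor x y)) (Nat.xor (sMap x) (sMap y))) = true := by
  decide +kernel

theorem first_spec {x : ℕ} (hx : x < 64) :
    hMap x < 64 ∧ hMap2 x < 64 ∧ sMap x < 64 ∧
    (x ≠ 0 → hMap x ≠ 0 ∧ sMap x ≠ 0 ∧ hMap2 x ≠ 0 ∧ hMap x ≠ x ∧ hMap2 x ≠ x) ∧
    (isT x = true → isT (hMap x) = true ∧ isT (hMap2 x) = true ∧ isT (sMap x) = true) ∧
    sMap (sMap x) = x ∧ hMap (hMap2 x) = x ∧ sMap (hMap x) = hMap2 (sMap x) ∧
    ∀ y < 64, hMap (x ^^^ y) = hMap x ^^^ hMap y ∧ hMap2 (x ^^^ y) = hMap2 x ^^^ hMap2 y ∧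
      sMap (x ^^^ y) = sMap x ^^^ sMap y := by
  have h := allN_spec first_check x hx
  simp only [Bool.and_eq_true, Bool.or_eq_true, Bool.not_eq_true'] at h
  obtain ⟨⟨⟨⟨⟨⟨⟨⟨l1, l2⟩, l3⟩, hne⟩, hT⟩, e1⟩, e2⟩, e3⟩, hadd⟩ := h
  refine ⟨Nat.le_of_ble_eq_true l1, Nat.le_of_ble_eq_true l2, Nat.le_of_ble_eq_true l3,
    fun h0 => ?_, fun h => ?_, Nat.eq_of_beq_eq_true e1, Nat.eq_of_beq_eq_true e2,
    Nat.eq_of_beq_eq_true e3, fun y hy => ?_⟩
  · obtain h | ⟨⟨⟨⟨a, b⟩, c⟩, d⟩, e⟩ := hne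
    · exact absurd (Nat.eq_of_beq_eq_true h) h0
    · exact ⟨Nat.ne_of_beq_eq_false a, Nat.ne_of_beq_eq_false b, Nat.ne_of_beq_eq_false c,
        Nat.ne_of_beq_eq_false d, Nat.ne_of_beq_eq_false e⟩
  · obtain h' | ⟨⟨a, b⟩, c⟩ := hT
    · rw [h] at h'; cases h'
    · exact ⟨a, b, c⟩
  · have := allN_spec hadd y hy
    simp only [Bool.and_eq_true] at this
    exact ⟨Nat.eq_of_beq_eq_true this.1.1, Nat.eq_of_beq_eq_true this.1.2,
      Nat.eq_of_beq_eq_true this.2⟩

theorem pres_h : Pres hMap :=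
  ⟨fun x hx => (first_spec hx).1, fun x y hx hy => ((first_spec hx).2.2.2.2.2.2.2.2 y hy).1,
    fun x hx h => by_contra fun h0 => ((first_spec hx).2.2.2.1 h0).1 h,
    fun x hx h => ((first_spec hx).2.2.2.2.1 h).1⟩

theorem pres_s : Pres sMap :=
  ⟨fun x hx => (first_spec hx).2.2.1, fun x y hx hy => ((first_spec hx).2.2.2.2.2.2.2.2 y hy).2.2,
    fun x hx h => by_contra fun h0 => ((first_spec hx).2.2.2.1 h0).2.1 h,
    fun x hx h => ((first_spec hx).2.2.2.2.1 h).2.2⟩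

/-- `GF(2)³` from the numbers below eight -/
def dec3 (v : ℕ) : Fin 3 → ZMod 2 := fun i => ((v / 2 ^ (i : ℕ) % 2 : ℕ) : ZMod 2)

/-- the number of a vector -/
def num3 (f : Fin 3 → ZMod 2) : ℕ := (f 0).val + 2 * (f 1).val + 4 * (f 2).val

theorem num3_lt (f : Fin 3 → ZMod 2) : num3 f < 8 := by
  have h0 := (f 0).val_lt
  have h1 := (f 1).val_lt
  have h2 := (f 2).val_lt
  unfold num3
  omega

theorem num3_add : ∀ f g : Fin 3 → ZMod 2, num3 (f + g) = num3 f ^^^ num3 g := by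
  decide +kernel

theorem dec3_num3 : ∀ f : Fin 3 → ZMod 2, dec3 (num3 f) = f := by decide +kernel

theorem num3_dec3 : ∀ v < 8, num3 (dec3 v) = v := by decide +kernel

theorem dec3_xor : ∀ v < 8, ∀ w < 8, dec3 (v ^^^ w) = dec3 v + dec3 w := by decide +kernel

/-- a matrix on the numbers below eight -/
def mv (M : Matrix (Fin 3) (Fin 3) (ZMod 2)) (v : ℕ) : ℕ := num3 (M.mulVec (dec3 v))

/-- a matrix acting on both halves of an index -/
def mMap (M : Matrix (Fin 3) (Fin 3) (ZMod 2)) (x : ℕ) : ℕ := mv M (x % 8) + 8 * mv M (x / 8)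

theorem mv_lt (M : Matrix (Fin 3) (Fin 3) (ZMod 2)) (v : ℕ) : mv M v < 8 := num3_lt _

theorem mv_add (M : Matrix (Fin 3) (Fin 3) (ZMod 2)) {v w : ℕ} (hv : v < 8) (hw : w < 8) :
    mv M (v ^^^ w) = mv M v ^^^ mv M w := by
  rw [mv, dec3_xor v hv w hw, Matrix.mulVec_add, num3_add]
  rfl

theorem halves : allN 8 (fun a => allN 8 fun b => allN 8 fun c => allN 8 fun d =>
    Nat.beq (Nat.xor (a + 8 * b) (c + 8 * d)) (Nat.xor a c + 8 * Nat.xor b d)) = true := by
  decide +kernel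

theorem halves_eq {a b c d : ℕ} (ha : a < 8) (hb : b < 8) (hc : c < 8) (hd : d < 8) :
    (a + 8 * b) ^^^ (c + 8 * d) = (a ^^^ c) + 8 * (b ^^^ d) :=
  Nat.eq_of_beq_eq_true (allN_spec (allN_spec (allN_spec (allN_spec halves a ha) b hb) c hc) d hd)

theorem mMap_lt (M : Matrix (Fin 3) (Fin 3) (ZMod 2)) (x : ℕ) : mMap M x < 64 := by
  have h1 := mv_lt M (x % 8)
  have h2 := mv_lt M (x / 8)
  unfold mMap
  omega

theorem mMap_parts (M : Matrix (Fin 3) (Fin 3) (ZMod 2)) (x : ℕ) :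
    mMap M x % 8 = mv M (x % 8) ∧ mMap M x / 8 = mv M (x / 8) := by
  have h1 := mv_lt M (x % 8)
  unfold mMap
  omega

theorem mMap_mul (M N : Matrix (Fin 3) (Fin 3) (ZMod 2)) (x : ℕ) :
    mMap (M * N) x = mMap M (mMap N x) := by
  have e : ∀ v, mv (M * N) v = mv M (mv N v) := fun v => by
    rw [mv, mv, mv, dec3_num3, Matrix.mulVec_mulVec]
  obtain ⟨e1, e2⟩ := mMap_parts N x
  show mv (M * N) (x % 8) + 8 * mv (M * N) (x / 8) = _
  show _ = mv M (mMap N x % 8) + 8 * mv M (mMap N x / 8)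
  rw [e, e, e1, e2]

theorem mMap_one {x : ℕ} (hx : x < 64) : mMap 1 x = x := by
  show num3 _ + 8 * num3 _ = x
  rw [Matrix.one_mulVec, Matrix.one_mulVec, num3_dec3 _ (Nat.mod_lt _ (by norm_num)),
    num3_dec3 _ (by omega)]
  omega

theorem xor_parts (x y : ℕ) : (x ^^^ y) % 8 = (x % 8) ^^^ (y % 8) ∧
    (x ^^^ y) / 8 = (x / 8) ^^^ (y / 8) := by
  refine ⟨Nat.xor_mod_two_pow (n := 3), ?_⟩
  have h := Nat.shiftRight_xor_distrib (a := x) (b := y) (i := 3)
  simpa [Nat.shiftRight_eq_div_pow] using h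

theorem mMap_h (M : Matrix (Fin 3) (Fin 3) (ZMod 2)) {x : ℕ} (hx : x < 64) :
    mMap M (hMap x) = hMap (mMap M x) := by
  obtain ⟨e1, e2⟩ := mMap_parts M x
  have l : (x % 8) ^^^ (x / 8) < 8 := Nat.xor_lt_two_pow (n := 3) (by omega) (by omega)
  show mv M (hMap x % 8) + 8 * mv M (hMap x / 8) = _
  rw [show hMap x % 8 = x / 8 by unfold hMap; omega,
    show hMap x / 8 = (x % 8) ^^^ (x / 8) by unfold hMap; omega,
    mv_add M (by omega) (by omega), hMap, e1, e2]

theorem mMap_s (M : Matrix (Fin 3) (Fin 3) (ZMod 2)) {x : ℕ} (hx : x < 64) :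
    mMap M (sMap x) = sMap (mMap M x) := by
  obtain ⟨e1, e2⟩ := mMap_parts M x
  have l : (x % 8) ^^^ (x / 8) < 8 := Nat.xor_lt_two_pow (n := 3) (by omega) (by omega)
  show mv M (sMap x % 8) + 8 * mv M (sMap x / 8) = _
  rw [show sMap x / 8 = x / 8 by unfold sMap; omega,
    show sMap x % 8 = (x % 8) ^^^ (x / 8) by unfold sMap; omega,
    mv_add M (by omega) (by omega), sMap, e1, e2]

/-- the group of the second factor -/
abbrev SL32 : Type := Matrix.SpecialLinearGroup (Fin 3) (ZMod 2)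

/-- a matrix of the second factor as a map of the indices -/
def sl (M : SL32) : ℕ → ℕ := mMap (M : Matrix (Fin 3) (Fin 3) (ZMod 2))

theorem sl_mul (M N : SL32) (x : ℕ) : sl (M * N) x = sl M (sl N x) := by
  show mMap ((M * N : SL32) : Matrix (Fin 3) (Fin 3) (ZMod 2)) x = _
  rw [Matrix.SpecialLinearGroup.coe_mul]
  exact mMap_mul _ _ x

theorem sl_one {x : ℕ} (hx : x < 64) : sl 1 x = x := by
  show mMap ((1 : SL32) : Matrix (Fin 3) (Fin 3) (ZMod 2)) x = x
  rw [Matrix.SpecialLinearGroup.coe_one]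
  exact mMap_one hx

theorem sl_inv (M : SL32) {x : ℕ} (hx : x < 64) : sl M⁻¹ (sl M x) = x := by
  rw [← sl_mul, inv_mul_cancel, sl_one hx]

theorem mv_zero (M : Matrix (Fin 3) (Fin 3) (ZMod 2)) : mv M 0 = 0 := by
  have := mv_add M (show (0 : ℕ) < 8 by norm_num) (show (0 : ℕ) < 8 by norm_num)
  simpa using this

theorem mMap_zero (M : Matrix (Fin 3) (Fin 3) (ZMod 2)) : mMap M 0 = 0 := by
  show mv M (0 % 8) + 8 * mv M (0 / 8) = 0
  rw [Nat.zero_mod, Nat.zero_div, mv_zero]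

theorem pres_sl (M : SL32) : Pres (sl M) := by
  have hinj : ∀ x < 64, sl M x = 0 → x = 0 := fun x hx h => by
    have := sl_inv M hx
    rw [h] at this
    exact this.symm.trans (mMap_zero _)
  refine ⟨fun x _ => mMap_lt _ x, fun x y hx hy => ?_, hinj, fun x hx hT => ?_⟩
  · obtain ⟨e1, e2⟩ := xor_parts x y
    show mMap _ (x ^^^ y) = mMap _ x ^^^ mMap _ y
    rw [mMap, e1, e2, mv_add _ (Nat.mod_lt _ (by norm_num)) (Nat.mod_lt _ (by norm_num)),
      mv_add _ (by omega) (by omega), mMap, mMap,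
      halves_eq (mv_lt _ _) (mv_lt _ _) (mv_lt _ _) (mv_lt _ _)]
  · obtain ⟨e1, e2⟩ := mMap_parts (M : Matrix (Fin 3) (Fin 3) (ZMod 2)) x
    simp only [isT, Bool.and_eq_true, Bool.or_eq_true, Bool.not_eq_true'] at hT
    obtain ⟨hx0, hc⟩ := hT
    have h0 : sl M x ≠ 0 := fun h => Nat.ne_of_beq_eq_false hx0 (hinj x hx h)
    simp only [isT, Bool.and_eq_true, Bool.or_eq_true, Bool.not_eq_true']
    refine ⟨beqF h0, ?_⟩
    rcases hc with (h | h) | h
    · have h' : x % 8 = 0 := Nat.eq_of_beq_eq_true h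
      refine Or.inl (Or.inl (beqT ?_))
      show sl M x % 8 = 0
      rw [sl, e1, h', mv_zero]
    · have h' : x / 8 = 0 := Nat.eq_of_beq_eq_true h
      refine Or.inl (Or.inr (beqT ?_))
      show sl M x / 8 = 0
      rw [sl, e2, h', mv_zero]
    · have h' : x % 8 = x / 8 := Nat.eq_of_beq_eq_true h
      refine Or.inr (beqT ?_)
      show sl M x % 8 = sl M x / 8
      rw [sl, e1, e2, h']

variable {G : Type u} [Group G] [Finite G] {z : G} (D : Cen 0 z)

theorem acts_one : Acts D 1 (fun x => x) := fun x _ => by simp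

theorem acts_congr {g : G} {φ ψ : ℕ → ℕ} (hg : Acts D g φ) (h : ∀ x < 64, φ x = ψ x) :
    Acts D g ψ := fun x hx => by rw [hg x hx, h x hx]

theorem acts_inv {g : G} {φ ψ : ℕ → ℕ} (hg : Acts D g φ) (hψ : ∀ x < 64, ψ x < 64)
    (h : ∀ x < 64, φ (ψ x) = x) : Acts D g⁻¹ ψ := fun x hx => by
  have e := hg (ψ x) (hψ x hx)
  rw [h x hx] at e
  rw [← e]
  group

/-- elements inducing the same map differ by an element of `A` -/
theorem acts_quot {g g' : G} {φ : ℕ → ℕ} (hg : Acts D g φ) (hg' : Acts D g' φ) :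
    ∃ y < 64, ev64 D y = g⁻¹ * g' := by
  refine cent_gA D fun x hx => ?_
  calc g⁻¹ * g' * ev64 D x = g⁻¹ * (g' * ev64 D x * g'⁻¹) * g' := by group
    _ = g⁻¹ * (g * ev64 D x * g⁻¹) * g' := by rw [hg' x hx, hg x hx]
    _ = ev64 D x * (g⁻¹ * g') := by group

/-- The lift of a map commuting with a map without fixed points is determined. -/
theorem lift_unique {g g' h h' : G} {φ ψ : ℕ → ℕ} (hψ : Acts D h ψ)
    (hψlt : ∀ x < 64, ψ x < 64) (hfree : ∀ x < 64, x ≠ 0 → ψ x ≠ x)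
    (hg : Acts D g φ) (hg' : Acts D g' φ) (e : g * h * g⁻¹ = h') (e' : g' * h * g'⁻¹ = h') :
    g = g' := by
  obtain ⟨y, hy, hy'⟩ := acts_quot D hg hg'
  have hc : h * ev64 D y * h⁻¹ = ev64 D y := by
    rw [hy']
    calc h * (g⁻¹ * g') * h⁻¹ = g⁻¹ * (g * h * g⁻¹) * g' * h⁻¹ := by group
      _ = g⁻¹ * (g' * h * g'⁻¹) * g' * h⁻¹ := by rw [e, e']
      _ = g⁻¹ * g' := by group
  rw [hψ y hy] at hc
  have : y = 0 := by_contra fun h0 => hfree y hy h0 (ev_inj D (hψlt y hy) hy hc)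
  rw [this, ev_zero] at hy'
  exact inv_mul_eq_one.1 hy'.symm

/-- Adjusting a lift by an element of `A`. -/
theorem lift_adjust {h' : G} {ψ : ℕ → ℕ} (hψ : Acts D h' ψ) (hP : Pres ψ)
    (hfree : ∀ x < 64, x ≠ 0 → ψ x ≠ x) {n h : G} (hn : Acts D (n * h * n⁻¹) ψ) :
    ∃ x < 64, (ev64 D x * n) * h * (ev64 D x * n)⁻¹ = h' := by
  classical
  obtain ⟨y, hy, hy'⟩ : ∃ y < 64, ev64 D y = n * h * n⁻¹ * h'⁻¹ := by
    refine cent_gA D fun x hx => ?_
    obtain ⟨w, hw, e⟩ : ∃ w < 64, ψ w = x := by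
      have hmap : ∀ w ∈ Finset.range 64, ψ w ∈ Finset.range 64 := fun w hw =>
        Finset.mem_range.2 (hP.lt w (Finset.mem_range.1 hw))
      have hinj : ∀ a ∈ Finset.range 64, ∀ b ∈ Finset.range 64, ψ a = ψ b → a = b := by
        intro a ha b hb hab
        have ha' := Finset.mem_range.1 ha
        have hb' := Finset.mem_range.1 hb
        have h0 := hP.inj (a ^^^ b) (xor_lt_64 ha' hb')
          (by rw [hP.add a b ha' hb', hab, Nat.xor_self])
        exact Nat.xor_eq_zero_iff.1 h0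
      obtain ⟨w, hw, e⟩ := Finset.surj_on_of_inj_on_of_card_le (fun w _ => ψ w) hmap
        (fun a b ha hb h => hinj a ha b hb h) le_rfl x (Finset.mem_range.2 hx)
      exact ⟨w, Finset.mem_range.1 hw, e.symm⟩
    subst e
    rw [← hψ w hw]
    calc n * h * n⁻¹ * h'⁻¹ * (h' * ev64 D w * h'⁻¹)
        = (n * h * n⁻¹ * ev64 D w * (n * h * n⁻¹)⁻¹) * (n * h * n⁻¹) * h'⁻¹ := by group
      _ = (h' * ev64 D w * h'⁻¹) * (n * h * n⁻¹) * h'⁻¹ := by rw [hn w hw, hψ w hw]
      _ = h' * ev64 D w * h'⁻¹ * (n * h * n⁻¹ * h'⁻¹) := by group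
  -- `x ↦ x + ψ x` is onto
  obtain ⟨x, hx, e⟩ : ∃ x < 64, x ^^^ ψ x = y := by
    obtain ⟨w, hw, e⟩ := Finset.surj_on_of_inj_on_of_card_le (fun w _ => w ^^^ ψ w)
      (fun w hw => Finset.mem_range.2 (xor_lt_64 (Finset.mem_range.1 hw)
        (hP.lt w (Finset.mem_range.1 hw))))
      (fun a b ha hb hab => by
        have ha' := Finset.mem_range.1 ha
        have hb' := Finset.mem_range.1 hb
        by_contra hne
        refine hfree (a ^^^ b) (xor_lt_64 ha' hb') (fun h => hne (Nat.xor_eq_zero_iff.1 h)) ?_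
        rw [hP.add a b ha' hb']
        have h2 : (a ^^^ ψ a) ^^^ (b ^^^ ψ b) = 0 := by
          change a ^^^ ψ a = b ^^^ ψ b at hab
          rw [hab, Nat.xor_self]
        have h3 : (a ^^^ ψ a) ^^^ (b ^^^ ψ b) = (a ^^^ b) ^^^ (ψ a ^^^ ψ b) := by
          simp only [Nat.xor_assoc, Nat.xor_left_comm]
        rw [h3] at h2
        exact (Nat.xor_eq_zero_iff.1 h2).symm) (le_refl (Finset.range 64).card) y
      (Finset.mem_range.2 hy)
    exact ⟨w, Finset.mem_range.1 hw, e.symm⟩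
  refine ⟨x, hx, ?_⟩
  rw [mul_inv_rev, ev_inv D hx]
  calc ev64 D x * n * h * (n⁻¹ * ev64 D x)
      = ev64 D x * (n * h * n⁻¹ * h'⁻¹) * (h' * ev64 D x * h'⁻¹) * h' := by group
    _ = ev64 D (x ^^^ y ^^^ ψ x) * h' := by
        rw [← hy', hψ x hx, ev_add D (xor_lt_64 hx hy) (hP.lt x hx), ev_add D hx hy]
    _ = h' := by
        rw [← e, Nat.xor_assoc, Nat.xor_assoc, Nat.xor_self, Nat.xor_zero, Nat.xor_self, ev_zero,
          one_mul]

theorem exists_h (hb : Basic D) (h190 : ¬ IsConj (D.val 190) z) :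
    ∃ h : G, Acts D h hMap ∧ orderOf h = 3 := by
  haveI : Fact (Nat.Prime 3) := ⟨by norm_num⟩
  obtain ⟨h, hh⟩ := realise D hb h190 pres_h
  refine ⟨h, hh, orderOf_eq_prime ?_ fun h1 => ?_⟩
  · have h3 : Acts D (h ^ 3) (fun x => x) := by
      have e := acts_mul D hh (acts_mul D hh hh pres_h.lt) fun x hx => pres_h.lt _ (pres_h.lt x hx)
      rw [show h ^ 3 = h * (h * h) by rw [pow_succ, pow_two, mul_assoc]]
      exact acts_congr D e fun x hx => (first_spec hx).2.2.2.2.2.2.1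
    obtain ⟨y, hy, hy'⟩ := acts_quot D (acts_one D) h3
    rw [inv_one, one_mul] at hy'
    have hc : h * ev64 D y * h⁻¹ = ev64 D y := by rw [hy']; group
    rw [hh y hy] at hc
    have : y = 0 := by_contra fun h0 =>
      ((first_spec hy).2.2.2.1 h0).2.2.2.1 (ev_inj D (pres_h.lt y hy) hy hc)
    rw [this, ev_zero] at hy'
    exact hy'.symm
  · have e := hh 1 (by norm_num)
    rw [h1, one_mul, inv_one, mul_one] at e
    exact absurd (ev_inj D (by norm_num) (by decide) e) (by decide)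

theorem free_h : ∀ x < 64, x ≠ 0 → hMap x ≠ x := fun x hx h0 => ((first_spec hx).2.2.2.1 h0).2.2.2.1

theorem lift_sl (hb : Basic D) (h190 : ¬ IsConj (D.val 190) z) {h : G} (hh : Acts D h hMap)
    (M : SL32) : ∃ g : G, Acts D g (sl M) ∧ g * h * g⁻¹ = h := by
  obtain ⟨n, hn⟩ := realise D hb h190 (pres_sl M)
  have hninv : Acts D n⁻¹ (sl M⁻¹) := acts_inv D hn (fun x _ => mMap_lt _ x) fun x hx => by
    rw [← sl_mul, mul_inv_cancel, sl_one hx]
  have hn' : Acts D (n * h * n⁻¹) hMap := by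
    refine acts_congr D (acts_mul D (acts_mul D hn hh pres_h.lt) hninv
      fun x _ => mMap_lt _ x) fun x hx => ?_
    show sl M (hMap (sl M⁻¹ x)) = hMap x
    rw [show sl M (hMap (sl M⁻¹ x)) = hMap (sl M (sl M⁻¹ x)) from mMap_h _ (mMap_lt _ x),
      ← sl_mul, mul_inv_cancel, sl_one hx]
  obtain ⟨x, hx, e⟩ := lift_adjust D hh pres_h free_h hn'
  refine ⟨_, fun w hw => ?_, e⟩
  rw [mul_inv_rev, ev_inv D hx,
    show ev64 D x * n * ev64 D w * (n⁻¹ * ev64 D x) =
      ev64 D x * (n * ev64 D w * n⁻¹) * ev64 D x by group, hn w hw,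
    ev_comm D hx ((pres_sl M).lt w hw), mul_assoc, ev_sq D hx, mul_one]

/-- the matrix of order seven -/
def mF : SL32 := ⟨!![0, 0, 1; 1, 0, 1; 0, 1, 0], by decide⟩

/-- the matrix of order three inducing `hN` -/
def mG : SL32 := ⟨!![1, 0, 0; 0, 1, 1; 0, 1, 0], by decide⟩

theorem mF_order : orderOf mF = 7 := by
  haveI : Fact (Nat.Prime 7) := ⟨by norm_num⟩
  exact orderOf_eq_prime (by decide +kernel) (by decide +kernel)

theorem mG_check : allN 64 (fun x =>
    Nat.beq (mulN 0 (mulN 0 hN (an x)) (invN 0 hN)) (an (appl [1, 6, 2, 8, 48, 16] x))) = true := by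
  decide +kernel

theorem mG_appl : ∀ x < 64, sl mG x = appl [1, 6, 2, 8, 48, 16] x := by decide +kernel

theorem gh_check : sl mG (hMap 22) = 22 ∧ sl mG (hMap2 20) = 20 ∧ isT 22 = false ∧
    isT 20 = false ∧ sl mG 1 = 1 ∧ sl mG 8 = 8 := by decide +kernel

theorem isSimple_SL32 : IsSimpleGroup SL32 := by
  haveI : Nontrivial SL32 := ⟨mF, 1, by decide +kernel⟩
  haveI := CfsgLib.Classical.isSimpleGroup_PSL_fin (F := ZMod 2) 3 (by norm_num) (by norm_num)
  exact IsSimpleGroup.isSimpleGroup_of_surjective (H := SL32)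
    ((QuotientGroup.quotientMulEquivOfEq CfsgLib.Small.center_SL_three_two).trans
      QuotientGroup.quotientBot).toMonoidHom (MulEquiv.surjective _)

theorem card_SL32 : Nat.card SL32 = 168 := by
  rw [Nat.card_eq_fintype_card]
  decide +kernel

theorem s_order (hb : Basic D) {s : G} (hs : Acts D s sMap) (hs2 : s * s = 1) : IsConj s z := by
  have h1 := hs 1 (by norm_num)
  rw [show sMap 1 = 1 by decide, ev_one] at h1
  obtain ⟨m, hm, rfl⟩ := D.val_surj s (by
    calc s * z = s * z * s⁻¹ * s := by group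
      _ = z * s := by rw [h1])
  have hsq := D.val_sq hm hs2
  have hcj : ∀ x < 64, Nat.beq (cjN 0 m (an x)) (an (sMap x)) = true := fun x hx =>
    beqT (D.val_inj _ _ (cjN_lt hm _ _) (an_lt ((first_spec hx).2.2.1)) (by
      rw [D.val_cj hm (an_lt hx)]; exact hs x hx))
  have hm0 : m ≠ 0 := by
    rintro rfl
    have := hs 8 (by norm_num)
    rw [D.val_zero, one_mul, inv_one, mul_one] at this
    exact absurd (ev_inj D (by norm_num) (by decide) this) (by decide)
  have c1 := hcj 1 (by norm_num)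
  have c2 := hcj 2 (by norm_num)
  have c4 := hcj 4 (by norm_num)
  have c8 := hcj 8 (by norm_num)
  have c16 := hcj 16 (by norm_num)
  have c32 := hcj 32 (by norm_num)
  rw [show sMap 1 = 1 by decide] at c1
  rw [show sMap 2 = 2 by decide] at c2
  rw [show sMap 4 = 4 by decide] at c4
  rw [show sMap 8 = 9 by decide] at c8
  rw [show sMap 16 = 18 by decide] at c16
  rw [show sMap 32 = 36 by decide] at c32
  have h' := allEls_spec inv_six m hm
  simp only [beqT hsq, c1, c2, c4, c8, c16, c32, Bool.and_self, Bool.not_true, Bool.false_or,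
    beqF hm0, List.any_eq_true] at h'
  obtain ⟨a, ha, hma⟩ := h'
  refine (D.cls_isConj (memB_iff.1 hma)).symm.trans ?_
  simp only [tClasses, List.mem_cons, List.not_mem_nil, or_false] at ha
  rcases ha with rfl | rfl | rfl | rfl
  exacts [hb.t21, hb.t168, hb.t1344, by rw [show (10752 : ℕ) = zN from rfl, D.val_z]]

end CfsgLib.Spor.HeRecog.Six64

namespace CfsgLib.Spor.HeRecog

open Six64

universe u

/-- C1: the configuration of an unfused class. -/
theorem exists_six : StmtSix.{u} := by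
  intro G _ _ z D hb h190
  obtain ⟨h, hh, hh3⟩ := exists_h D hb h190
  -- the second factor
  choose ρf hρ hρh using lift_sl D hb h190 hh
  have huniq : ∀ {g g' : G} {φ : ℕ → ℕ}, Acts D g φ → Acts D g' φ → g * h * g⁻¹ = h →
      g' * h * g'⁻¹ = h → g = g' := fun a b c d => lift_unique D hh pres_h.lt free_h a b c d
  let ρ : SL32 →* G := MonoidHom.mk' ρf fun M N => by
    refine huniq (hρ _) (acts_congr D (acts_mul D (hρ M) (hρ N) fun x _ => mMap_lt _ x)
      fun x _ => (sl_mul M N x).symm) (hρh _) ?_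
    rw [mul_inv_rev, show ρf M * ρf N * h * ((ρf N)⁻¹ * (ρf M)⁻¹) =
      ρf M * (ρf N * h * (ρf N)⁻¹) * (ρf M)⁻¹ by group, hρh, hρh]
  have hρinj : Function.Injective ρ := by
    rw [injective_iff_map_eq_one]
    intro M hM
    have hfix : ∀ v < 8, mv (M : Matrix (Fin 3) (Fin 3) (ZMod 2)) v = v := fun v hv => by
      have e := hρ M v (by omega)
      rw [show ρf M = 1 from hM, one_mul, inv_one, mul_one] at e
      have e' : v = sl M v := ev_inj D (by omega) (mMap_lt _ v) e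
      obtain ⟨p1, -⟩ := mMap_parts (M : Matrix (Fin 3) (Fin 3) (ZMod 2)) v
      calc mv _ v = sl M v % 8 := by rw [sl, p1, Nat.mod_eq_of_lt hv]
        _ = v := by rw [← e', Nat.mod_eq_of_lt hv]
    refine Subtype.ext (Matrix.ext_iff_mulVec.2 fun f => ?_)
    rw [Matrix.SpecialLinearGroup.coe_one, Matrix.one_mulVec]
    have e := hfix (num3 f) (num3_lt f)
    rw [mv, dec3_num3] at e
    rw [← dec3_num3 ((M : Matrix (Fin 3) (Fin 3) (ZMod 2)).mulVec f), e, dec3_num3]
  haveI := isSimple_SL32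
  let iso : SL32 ≃* ρ.range := MonoidHom.ofInjective hρinj
  haveI : Nontrivial ρ.range := iso.symm.toEquiv.nontrivial
  -- the involution of the first factor
  have hh2 : Acts D h⁻¹ hMap2 :=
    acts_inv D hh (fun x hx => (first_spec hx).2.1) fun x hx => (first_spec hx).2.2.2.2.2.2.1
  obtain ⟨n, hn⟩ := realise D hb h190 pres_s
  have hninv : Acts D n⁻¹ sMap := acts_inv D hn pres_s.lt fun x hx => (first_spec hx).2.2.2.2.2.1
  have hn' : Acts D (n * h * n⁻¹) hMap2 := by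
    refine acts_congr D (acts_mul D (acts_mul D hn hh pres_h.lt) hninv pres_s.lt) fun x hx => ?_
    show sMap (hMap (sMap x)) = hMap2 x
    rw [(first_spec (pres_s.lt x hx)).2.2.2.2.2.2.2.1, (first_spec hx).2.2.2.2.2.1]
  have hP2 : Pres hMap2 :=
    ⟨fun x hx => (first_spec hx).2.1, fun x y hx hy => ((first_spec hx).2.2.2.2.2.2.2.2 y hy).2.1,
      fun x hx h => by_contra fun h0 => ((first_spec hx).2.2.2.1 h0).2.2.1 h,
      fun x hx h => ((first_spec hx).2.2.2.2.1 h).2.1⟩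
  obtain ⟨x, hx, hsh⟩ := lift_adjust D hh2 hP2
    (fun x hx h0 => ((first_spec hx).2.2.2.1 h0).2.2.2.2) hn'
  set s := ev64 D x * n with hs_def
  have hs : Acts D s sMap := fun w hw => by
    rw [hs_def, mul_inv_rev, ev_inv D hx,
      show ev64 D x * n * ev64 D w * (n⁻¹ * ev64 D x) =
        ev64 D x * (n * ev64 D w * n⁻¹) * ev64 D x by group, hn w hw,
      ev_comm D hx (pres_s.lt w hw), mul_assoc, ev_sq D hx, mul_one]
  have hshinv : s * h⁻¹ * s⁻¹ = h := by
    calc s * h⁻¹ * s⁻¹ = (s * h * s⁻¹)⁻¹ := by group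
      _ = h := by rw [hsh, inv_inv]
  have hs2 : s * s = 1 := by
    refine huniq (acts_congr D (acts_mul D hs hs pres_s.lt)
      fun w hw => (first_spec hw).2.2.2.2.2.1) (acts_one D) ?_ (by group)
    rw [mul_inv_rev, show s * s * h * (s⁻¹ * s⁻¹) = s * (s * h * s⁻¹) * s⁻¹ by group, hsh, hshinv]
  have hsρ : ∀ M, s * ρ M * s⁻¹ = ρ M := fun M => by
    have hsi : Acts D s⁻¹ sMap :=
      acts_inv D hs pres_s.lt fun x hx => (first_spec hx).2.2.2.2.2.1
    refine huniq (acts_congr D (acts_mul D (acts_mul D hs (hρ M) fun x _ => mMap_lt _ x) hsi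
      pres_s.lt) fun w hw => ?_) (hρ M) ?_ (hρh M)
    · show sMap (sl M (sMap w)) = sl M w
      rw [sl, mMap_s _ hw, (first_spec (mMap_lt _ w)).2.2.2.2.2.1]
    · have hsi' : s⁻¹ * h * s = h⁻¹ := by
        calc s⁻¹ * h * s = s⁻¹ * (s * h⁻¹ * s⁻¹) * s := by rw [hshinv]
          _ = h⁻¹ := by group
      show s * ρf M * s⁻¹ * h * (s * ρf M * s⁻¹)⁻¹ = h
      calc s * ρf M * s⁻¹ * h * (s * ρf M * s⁻¹)⁻¹
          = s * (ρf M * (s⁻¹ * h * s) * (ρf M)⁻¹) * s⁻¹ := by group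
        _ = s * (ρf M * h * (ρf M)⁻¹)⁻¹ * s⁻¹ := by rw [hsi']; group
        _ = h := by rw [hρh, hshinv]
  -- the element of order three of the second factor is conjugate to `val hN`
  have hhN : hN < 21504 := by decide
  have hg1 : Acts D (D.val hN) (sl mG) := fun w hw => by
    rw [ev64, ← D.val_cj hhN (an_lt hw), cjN,
      Nat.eq_of_beq_eq_true (allN_spec mG_check w hw), ← mG_appl w hw]
    rfl
  obtain ⟨y, hy, hy'⟩ := acts_quot D hg1 (hρ mG)
  have hgy : ρ mG = D.val (mulN 0 hN (an y)) := by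
    rw [D.val_mul _ _ hhN (an_lt hy)]
    change ρf mG = D.val hN * ev64 D y
    rw [hy']
    group
  have hcube : powN 0 (mulN 0 hN (an y)) 3 = 0 := by
    refine D.val_eq_one (powN_lt 0 (mulN_lt hhN _ _) 3) ?_
    rw [D.val_pow (mulN_lt hhN _ _), ← hgy, ← map_pow,
      show mG ^ 3 = 1 by decide +kernel, map_one]
  obtain ⟨α, hα, hαg⟩ : ∃ α < 64, ev64 D α * D.val hN * (ev64 D α)⁻¹ = ρ mG := by
    have h3 := allN_spec three_check y hy
    simp only [beqT hcube, Bool.not_true, Bool.false_or, Bool.not_eq_true'] at h3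
    by_contra hno
    have : allN 64 (fun b => !(Nat.beq (cjN 0 (an b) hN) (mulN 0 hN (an y)))) = true := by
      refine allN_intro fun b hb' => ?_
      rw [beqF fun e => hno ⟨b, hb', by rw [hgy, ← e, D.val_cj (an_lt hb') hhN]; rfl⟩]
      rfl
    rw [this] at h3
    cases h3
  refine ⟨{
    f := ρ mF, h := h, s := s, g := ρ mG, L := ρ.range
    hf := by rw [orderOf_injective ρ hρinj, mF_order]
    hh := hh3
    fh := (mul_inv_eq_iff_eq_mul.1 (hρh mF))
    sf := mul_inv_eq_iff_eq_mul.1 (hsρ mF)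
    sh := hsh
    sz := s_order D hb hs hs2
    L_simple := IsSimpleGroup.isSimpleGroup_of_surjective iso.toMonoidHom iso.surjective
    L_card := by rw [← Nat.card_congr iso.toEquiv, card_SL32]
    Lh := by
      rintro _ ⟨M, rfl⟩
      exact mul_inv_eq_iff_eq_mul.1 (hρh M)
    gL := ⟨mG, rfl⟩
    gconj := isConj_iff.2 ⟨ev64 D α, hαg⟩
    gh_mixed := ?_
    line := ?_ }⟩
  · have hw : ∀ w, w < 64 → w ≠ 0 → isT w = false → orderOf (ev64 D w) = 2 ∧
        ¬ IsConj (ev64 D w) z := fun w hw h0 hT =>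
      ⟨orderOf_eq_prime (by rw [pow_two, ev_sq D hw]) fun e =>
        h0 (ev_inj D hw (by norm_num) (e.trans (ev_zero D).symm)),
        fun hc => by rw [(isT_iff D hb h190 hw).1 hc] at hT; cases hT⟩
    obtain ⟨c1, c2, c3, c4, -, -⟩ := gh_check
    rintro i (rfl | rfl)
    · have e := acts_mul D (hρ mG) hh pres_h.lt 22 (by norm_num)
      simp only [c1] at e
      refine ⟨ev64 D 22, (hw 22 (by norm_num) (by norm_num) c3).1,
        (hw 22 (by norm_num) (by norm_num) c3).2, ?_⟩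
      rw [pow_one]
      exact (mul_inv_eq_iff_eq_mul.1 e).symm
    · have e := acts_mul D (hρ mG) (acts_mul D hh hh pres_h.lt)
        (fun x hx => pres_h.lt _ (pres_h.lt x hx)) 20 (by norm_num)
      have c2' : sl mG (hMap (hMap 20)) = 20 := c2
      simp only [c2'] at e
      refine ⟨ev64 D 20, (hw 20 (by norm_num) (by norm_num) c4).1,
        (hw 20 (by norm_num) (by norm_num) c4).2, ?_⟩
      rw [pow_two]
      exact (mul_inv_eq_iff_eq_mul.1 e).symm
  · refine ⟨(ev64 D α)⁻¹ * h * ev64 D α, ?_, ?_⟩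
    · have hv : D.val hN = (ev64 D α)⁻¹ * ρf mG * ev64 D α := by
        rw [show ρf mG = ρ mG from rfl, ← hαg]; group
      have hc : h * ρf mG = ρf mG * h := (mul_inv_eq_iff_eq_mul.1 (hρh mG)).symm
      rw [hv]
      calc (ev64 D α)⁻¹ * h * ev64 D α * ((ev64 D α)⁻¹ * ρf mG * ev64 D α)
          = (ev64 D α)⁻¹ * (h * ρf mG) * ev64 D α := by group
        _ = (ev64 D α)⁻¹ * (ρf mG * h) * ev64 D α := by rw [hc]
        _ = _ := by group
    · have e1 := hh 1 (by norm_num)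
      rw [show hMap 1 = 8 by decide] at e1
      have h8 : ev64 D 8 = D.val 9408 := by rw [ev64, an_facts.2.2.2.2.2.2.1]
      have hz : ev64 D α * z * (ev64 D α)⁻¹ = z := by
        have h := ev_comm D hα (show (1 : ℕ) < 64 by norm_num)
        rw [ev_one] at h
        rw [h]; group
      calc (ev64 D α)⁻¹ * h * ev64 D α * z * ((ev64 D α)⁻¹ * h * ev64 D α)⁻¹
          = (ev64 D α)⁻¹ * (h * (ev64 D α * z * (ev64 D α)⁻¹) * h⁻¹) * ev64 D α := by group
        _ = (ev64 D α)⁻¹ * ev64 D 8 * ev64 D α := by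
            rw [hz]
            rw [ev_one] at e1
            rw [e1]
        _ = D.val 9408 := by
            rw [mul_assoc, ev_comm D (by norm_num) hα, ← mul_assoc, inv_mul_cancel, one_mul, h8]

end CfsgLib.Spor.HeRecog
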