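import Cfsg.Agent.Lib.Spor.HeRecog.SixFalse.Seven
import Cfsg.Agent.Lib.Spor.HeRecog.SixFalse.CentPair
import Cfsg.Agent.Lib.Spor.HeRecog.SixFalse.CentThree

/-!
# The configuration of an unfused class is impossible

`h` centralises a group of order divisible by 49, while `C(h)` has order dividing `9·168`.
-/

set_option autoImplicit false
set_option linter.unusedSectionVars false
set_option linter.style.haveILetI false

namespace CfsgLib.Spor.HeRecog

open Subgroup SixFalse

universe u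

/-- C2: the configuration is impossible. -/
theorem not_six : StmtNotSix.{u} := by
  intro G _ _ z D hB S
  have hG := hB.hyp.card
  have hH : hN = 1 := rfl
  have hT : TCls D := ⟨hB.t168, hB.t1344⟩
  obtain ⟨c, hc⟩ := isConj_iff.1 S.gconj
  rw [hH] at hc
  have hord : ∀ a : G, orderOf (c * a * c⁻¹) = orderOf a := fun a => MulEquiv.orderOf_eq (MulAut.conj c) a
  have hgo : orderOf S.g = 3 := by rw [← hc, hord, orderOf_valH]
  obtain ⟨x, hx⟩ : ∃ x, c * x * c⁻¹ = S.h := ⟨c⁻¹ * S.h * c, by group⟩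
  have hxo : orderOf x = 3 := by rw [← hord, hx, S.hh]
  have hxH : x * D.val 1 = D.val 1 * x := by
    refine mul_left_cancel (a := c) (mul_right_cancel (b := c⁻¹) ?_)
    rw [← conj_mul, ← conj_mul, hx, hc, S.Lh _ S.gL]
  have hxn : x ∉ zpowers (D.val 1) := by
    intro hmem
    obtain ⟨i, hi⟩ := Subgroup.mem_zpowers_iff.1 hmem
    have hhL : S.h ∈ S.L := by
      rw [← hx, ← hi, ← conj_zpow, hc]
      exact zpow_mem S.gL i
    haveI := S.L_simple
    have h1 : (⟨S.h, hhL⟩ : S.L) ∈ center S.L :=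
      mem_center_iff.2 fun a => Subtype.ext (S.Lh a a.2)
    have h2 : ¬ IsMulCommutative S.L :=
      Small.not_isMulCommutative_of_card (by rw [S.L_card]; norm_num)
    rw [Small.center_eq_bot h2, Subgroup.mem_bot] at h1
    have h3 := S.hh
    rw [show S.h = 1 from congrArg Subtype.val h1, orderOf_one] at h3
    omega
  have hmix : ∀ i : ℕ, i = 1 ∨ i = 2 → ¬ IsConj S.g (S.g * S.h ^ i) := by
    intro i hi hcj
    obtain ⟨w, hw, hwz, hwc⟩ := S.gh_mixed i hi
    obtain ⟨y, hy⟩ := isConj_iff.1 (S.gconj.trans hcj)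
    rw [hH] at hy
    have h1 : (y⁻¹ * w * y) * D.val 1 = D.val 1 * (y⁻¹ * w * y) := by
      rw [show D.val 1 = y⁻¹ * (S.g * S.h ^ i) * y by rw [← hy]; group]
      calc y⁻¹ * w * y * (y⁻¹ * (S.g * S.h ^ i) * y) = y⁻¹ * (w * (S.g * S.h ^ i)) * y := by group
        _ = y⁻¹ * (S.g * S.h ^ i * w) * y := by rw [hwc]
        _ = y⁻¹ * (S.g * S.h ^ i) * y * (y⁻¹ * w * y) := by group
    refine hwz (IsConj.trans ?_ (isConj_z D hT ?_ h1))
    · exact isConj_iff.2 ⟨y⁻¹, by group⟩
    · rw [← hw, show y⁻¹ * w * y = y⁻¹ * w * y⁻¹⁻¹ by group]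
      exact MulEquiv.orderOf_eq (MulAut.conj y⁻¹) w
  have hiff : ∀ a : G, a ∈ centralizer ({D.val 1, x} : Set G) ↔
      c * a * c⁻¹ ∈ centralizer ({S.g, S.h} : Set G) := by
    intro a
    rw [mem_cent_pair, mem_cent_pair, ← hc, ← hx, conj_mul, conj_mul, conj_mul, conj_mul]
    simp
  have hcardP : Nat.card (centralizer ({S.g, S.h} : Set G)) =
      Nat.card (centralizer ({D.val 1, x} : Set G)) :=
    (Nat.card_congr ((MulAut.conj c).toEquiv.subtypeEquiv hiff)).symm
  have hcase : Nat.card (centralizer ({S.g, S.h} : Set G)) = 9 ∨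
      (Nat.card (centralizer ({S.g, S.h} : Set G)) = 27 ∧ ¬ 81 ∣ Nat.card G ∧
        (∀ a ∈ centralizer ({S.g, S.h} : Set G), a ^ 3 = 1) ∧
        ∀ y ∈ normalizer (centralizer ({S.g, S.h} : Set G) : Set G),
          y * S.g * y⁻¹ = S.g ∨ y * S.g * y⁻¹ = S.g⁻¹) := by
    rcases pairData D hT hG hxo hxH hxn with h9 | ⟨h27, hexp, horb⟩
    · exact Or.inl (hcardP.trans h9)
    · refine Or.inr ⟨hcardP.trans h27, by rw [hG]; norm_num, fun a ha => ?_, fun y hy => ?_⟩
      · have e : a = c * (c⁻¹ * a * c) * c⁻¹ := by group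
        rw [e] at ha ⊢
        rw [conj_pow, hexp _ ((hiff _).2 ha)]
        group
      · have hy' : c⁻¹ * y * c ∈ normalizer (centralizer ({D.val 1, x} : Set G) : Set G) :=
          mem_normalizer_fintype fun b hb => (hiff _).2 (by
            rw [show c * (c⁻¹ * y * c * b * (c⁻¹ * y * c)⁻¹) * c⁻¹ =
              y * (c * b * c⁻¹) * y⁻¹ by group]
            exact (mem_normalizer_iff.1 hy _).1 ((hiff b).1 hb))
        have e : y * S.g * y⁻¹ =
            c * ((c⁻¹ * y * c) * D.val 1 * (c⁻¹ * y * c)⁻¹) * c⁻¹ := by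
          rw [← hc]; group
        rcases horb _ hy' with h1 | h1
        · exact Or.inl (by rw [e, h1, hc])
        · exact Or.inr (by rw [e, h1, ← hc]; group)
  have hdvd := (dvd_card_Cx_three D (by rw [hG]; norm_num) S.hf S.hh S.fh S.sf S.sz).trans
    (card_Cx_dvd hgo S.hh (S.Lh _ S.gL) hmix S.L S.L_simple S.L_card S.Lh S.gL hcase)
  norm_num at hdvd

end CfsgLib.Spor.HeRecog
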