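import Cfsg.Agent.Lib.Spor.HeRecog.UCentSetup
import Cfsg.Agent.Lib.Spor.HeRecog.UQuot

/-!
# The centraliser of an involution of the second class
-/

set_option autoImplicit false

namespace CfsgLib.Spor.HeRecog

universe u

theorem exists_ucent : StmtUCent.{u} := by
  intro G _ _ z D hF
  exact ucent_of_quot (UC.quotData D hF)
    (fun x hx => ((UC.mem_kV D hF).1 (UC.all_kV D hF hx)).2)
    (fun t ht htu => UC.t_mem D hF ht htu)
    fun x hx => ⟨fun hB => (UC.big_iff D hF).1 ⟨hx, hB⟩, fun h => ((UC.big_iff D hF).2 h).2⟩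

end CfsgLib.Spor.HeRecog
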