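import Cfsg.Agent.Lib.Spor.HeRecog.Steps
import Cfsg.Agent.Lib.Spor.HeRecog.FrameModel
import Cfsg.Agent.Lib.Spor.HeRecog.ModelZero
import Cfsg.Agent.Lib.Spor.HeRecog.Frame
import Cfsg.Agent.Lib.Spor.HeRecog.BasicFusion
import Cfsg.Agent.Lib.Spor.HeRecog.SixConfig
import Cfsg.Agent.Lib.Spor.HeRecog.SixFalse
import Cfsg.Agent.Lib.Spor.HeRecog.UCent
import Cfsg.Agent.Lib.Spor.HeRecog.L34Config

/-!
# A group of Held type is the Held group
-/

set_option autoImplicit false

namespace CfsgLib.Spor.HeRecog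

universe u

/-- A simple group of the order of He with two classes of involutions and the centraliser
`2^{1+6}.L₃(2)` of an involution is the presented Held group. -/
theorem isoHe {G : Type u} [Group G] [Finite G] [IsSimpleGroup G] (t : G)
    (ht : orderOf t = 2) (Q : Subgroup (Subgroup.centralizer ({t} : Set G))) [Q.Normal]
    (hQ : Cfsg.IsExtraspecial 2 Q) (hcard : Nat.card Q = 2 ^ 7)
    (hplus : ∃ E : Subgroup Q, Cfsg.IsElementaryAbelian 2 E ∧ Nat.card E = 2 ^ 4)
    (h2c : Subgroup.centralizer (Q : Set (Subgroup.centralizer ({t} : Set G))) ≤ Q)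
    (e : (Subgroup.centralizer ({t} : Set G)) ⧸ Q ≃* Matrix.SpecialLinearGroup (Fin 3) (ZMod 2))
    (hG : Nat.card G = 4030387200)
    (htwo : ∃ x y : G, orderOf x = 2 ∧ orderOf y = 2 ∧ ¬ IsConj x y ∧
      ∀ z : G, orderOf z = 2 → IsConj z x ∨ IsConj z y) :
    Cfsg.Spor.IsoHe G :=
  isoHe_of_steps exists_frame exists_cen_of_frame model_zero basic_fusion exists_six not_six
    exists_ucent l34_config t ht Q hQ hcard hplus h2c e hG htwo

end CfsgLib.Spor.HeRecog
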