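import Cfsg.Agent.Lib.Spor.HeRecog.Tables

/-!
# Models of the centraliser `2^{1+6}.L₃(2)` of an involution

An element `q < 128` of the extraspecial group stands for `e(v₁) e'(v₂) z^s` with
`q = v₁ + 8 v₂ + 64 s`, where `e(v)` is the product of the `eᵢ` with `i` a bit of `v`, all `eᵢ`
commute with each other, so do all `e'ᵢ`, and `[eᵢ, e'ⱼ] = z` exactly for `i = j`.
An element `k < 168` of the quotient stands for the lift `F^a H^b` for `k = 3 a + b < 21` and for
`F^a H^b T F^c` for `k = 21 (c + 1) + 3 a + b`. The element `(q, k)` of a model is `168 q + k`.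
Conjugation by `F` sends `e₀ e₁ e₂ e'₀ e'₁ e'₂` to `2 5 6 56 8 40`, by `H` to `2 4 1 16 32 8`,
by `T` to `4 2 1 32 16 8` (split) or `68 66 65 35 21 14` (uniserial). The lifts satisfy
`F⁷ = H³ = (F T)³ = 1`, `H F H⁻¹ = F²`, `T H T⁻¹ = H⁻¹` and `T² = z^t`.
The model `2 j + t` has the split (`j = 0`) or uniserial (`j = 1`) action.
-/

set_option autoImplicit false
set_option maxRecDepth 100000

namespace CfsgLib.Spor.HeRecog

/- The operations are written with the bare operations on natural numbers, which the kernel
evaluates several times faster than the notations. -/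

/-- the `i`-th byte -/
def byteAt (T i : Nat) : Nat := Nat.mod (Nat.shiftRight T (Nat.shiftLeft i 3)) 256

/-- the commutator bit of two elements of the extraspecial group -/
def qSign (a b : Nat) : Nat :=
  Nat.mod (Nat.shiftRight 0x96 (Nat.land (Nat.shiftRight a 3) (Nat.mod b 8))) 2

/-- the product in the extraspecial group -/
def qMul (a b : Nat) : Nat := Nat.xor (Nat.xor a b) (Nat.shiftLeft (qSign a b) 6)

/-- the inverse in the extraspecial group -/
def qInv (a : Nat) : Nat := Nat.xor a (Nat.shiftLeft (qSign a a) 6)

/-- the table of the action in a model -/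
def aTab (k : Nat) : Nat := bif Nat.blt k 2 then aT0 else aT1

/-- the image of an element of the extraspecial group under an element of the quotient -/
def qAct (k j q : Nat) : Nat := Nat.mod (byteAt (aTab k) (Nat.add (Nat.shiftLeft j 7) q)) 128

/-- the product in the quotient -/
def pMul (a b : Nat) : Nat := Nat.mod (byteAt pT (Nat.add (Nat.mul 168 a) b)) 168

/-- the inverse in the quotient -/
def pInv (a : Nat) : Nat := Nat.mod (byteAt piT a) 168

/-- the cocycle of the model `k` -/
def coc (k a b : Nat) : Nat :=
  Nat.mul (Nat.mod k 2) (Nat.mod (Nat.shiftRight cT (Nat.add (Nat.mul 168 a) b)) 2)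

/-- the product of two elements given by their parts -/
def mulParts (k q j r l : Nat) : Nat :=
  Nat.add (Nat.mul (Nat.xor (qMul q (qAct k j r)) (Nat.shiftLeft (coc k j l) 6)) 168) (pMul j l)

/-- the product of the model `k` -/
def mulN (k m n : Nat) : Nat :=
  mulParts k (Nat.div m 168) (Nat.mod m 168) (Nat.div n 168) (Nat.mod n 168)

/-- the inverse of an element given by its parts -/
def invParts (k q j i : Nat) : Nat :=
  Nat.add (Nat.mul (Nat.xor (qAct k i (qInv q)) (Nat.shiftLeft (coc k j i) 6)) 168) i

/-- the inverse in the model `k` -/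
def invN (k m : Nat) : Nat :=
  invParts k (Nat.div m 168) (Nat.mod m 168) (pInv (Nat.mod m 168))

/-- conjugation in the model `k` -/
def cjN (k n m : Nat) : Nat := mulN k (mulN k n m) (invN k n)

/-- powers in the model `k` -/
def powN (k m : Nat) : Nat → Nat
  | 0 => 0
  | i + 1 => mulN k (powN k m i) m

/-- the central involution -/
def zN : Nat := 10752

/-- an element of the extraspecial group -/
def qN (q : Nat) : Nat := 168 * q

/-- the lift `F` -/
def fN : Nat := 3

/-- the lift `H` -/
def hN : Nat := 1

/-- the lift `T` -/
def tN : Nat := 21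

end CfsgLib.Spor.HeRecog
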