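import Cfsg.Agent.Lib.Spor.HeRecog.ModelSig
import Cfsg.Agent.Lib.Spor.HeRecog.CliqueCount
import Cfsg.Agent.Lib.Spor.HeRecog.Interface

/-!
# The uniserial twisted model

If the class `168` is fused to `z`, then `z` and this class are the involutions of an elementary
group of order 16, so commuting is transitive on the conjugates of `z`; counting in the centraliser
of an involution of the other class gives a contradiction.
-/

set_option autoImplicit false
set_option maxRecDepth 100000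
set_option maxHeartbeats 1000000

namespace CfsgLib.Spor.HeRecog

universe u

/-- counting commuting pairs from the first member -/
theorem card_pairs {G : Type u} [Group G] [Finite G] (a : G) (P : G → Prop)
    (hP : ∀ g y, P y → P (g * y * g⁻¹)) :
    Nat.card {p : G × G // IsConj a p.1 ∧ P p.2 ∧ p.1 * p.2 = p.2 * p.1} *
      Nat.card (Subgroup.centralizer ({a} : Set G)) =
    Nat.card G * Nat.card {y : G // P y ∧ a * y = y * a} := by
  classical
  rw [← Nat.card_prod, ← Nat.card_prod]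
  have hg : ∀ p : {p : G × G // IsConj a p.1 ∧ P p.2 ∧ p.1 * p.2 = p.2 * p.1},
      ∃ g : G, g * a * g⁻¹ = p.1.1 := fun p => isConj_iff.1 p.2.1
  choose g0 hg0 using fun x : {x : G // IsConj a x} => isConj_iff.1 x.2
  refine Nat.card_congr (Equiv.ofBijective (fun pc =>
    ((g0 ⟨pc.1.1.1, pc.1.2.1⟩ * (pc.2 : G)),
      ⟨(g0 ⟨pc.1.1.1, pc.1.2.1⟩ * (pc.2 : G))⁻¹ * pc.1.1.2 * (g0 ⟨pc.1.1.1, pc.1.2.1⟩ * pc.2),
        ?_, ?_⟩)) ⟨?_, ?_⟩)
  · simpa using hP (g0 ⟨pc.1.1.1, pc.1.2.1⟩ * (pc.2 : G))⁻¹ _ pc.1.2.2.1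
  · set g := g0 ⟨pc.1.1.1, pc.1.2.1⟩ * (pc.2 : G) with hgd
    have hga : g * a * g⁻¹ = pc.1.1.1 := by
      rw [hgd, show g0 ⟨pc.1.1.1, pc.1.2.1⟩ * (pc.2 : G) * a *
        (g0 ⟨pc.1.1.1, pc.1.2.1⟩ * (pc.2 : G))⁻¹ = g0 ⟨pc.1.1.1, pc.1.2.1⟩ *
          ((pc.2 : G) * a * (pc.2 : G)⁻¹) * (g0 ⟨pc.1.1.1, pc.1.2.1⟩)⁻¹ by group,
        Subgroup.mem_centralizer_singleton_iff.1 pc.2.2, mul_inv_cancel_right]
      exact hg0 ⟨pc.1.1.1, pc.1.2.1⟩
    calc a * (g⁻¹ * pc.1.1.2 * g) = g⁻¹ * (g * a * g⁻¹ * pc.1.1.2) * g := by group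
      _ = g⁻¹ * (pc.1.1.2 * (g * a * g⁻¹)) * g := by rw [hga, pc.1.2.2.2]
      _ = _ := by group
  · rintro ⟨⟨⟨x, y⟩, hx, hy⟩, c, hc⟩ ⟨⟨⟨x', y'⟩, hx', hy'⟩, c', hc'⟩ e
    simp only [Prod.mk.injEq, Subtype.mk.injEq] at e
    obtain ⟨e1, e2⟩ := e
    have hxx : x = x' := by
      have h1 : ∀ (x : G) (hx : IsConj a x) (c : G), c * a = a * c →
          g0 ⟨x, hx⟩ * c * a * (g0 ⟨x, hx⟩ * c)⁻¹ = x := fun x hx c hc => by
        rw [show g0 ⟨x, hx⟩ * c * a * (g0 ⟨x, hx⟩ * c)⁻¹ =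
          g0 ⟨x, hx⟩ * (c * a * c⁻¹) * (g0 ⟨x, hx⟩)⁻¹ by group, hc, mul_inv_cancel_right, hg0]
      rw [← h1 x hx c (Subgroup.mem_centralizer_singleton_iff.1 hc),
        ← h1 x' hx' c' (Subgroup.mem_centralizer_singleton_iff.1 hc'), e1]
    subst hxx
    have hcc : c = c' := mul_left_cancel e1
    subst hcc
    have hyy : y = y' := mul_left_cancel (mul_right_cancel e2)
    subst hyy
    rfl
  · rintro ⟨g, y, hy, hay⟩
    have hx : IsConj a (g * a * g⁻¹) := isConj_iff.2 ⟨g, rfl⟩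
    have hc : (g0 ⟨_, hx⟩)⁻¹ * g ∈ Subgroup.centralizer ({a} : Set G) := by
      rw [Subgroup.mem_centralizer_singleton_iff]
      have h := hg0 ⟨_, hx⟩
      dsimp only at h
      calc (g0 ⟨_, hx⟩)⁻¹ * g * a = (g0 ⟨_, hx⟩)⁻¹ * (g * a * g⁻¹) * g := by group
        _ = (g0 ⟨_, hx⟩)⁻¹ * (g0 ⟨_, hx⟩ * a * (g0 ⟨_, hx⟩)⁻¹) * g := by rw [h]
        _ = _ := by group
    refine ⟨(⟨(g * a * g⁻¹, g * y * g⁻¹), hx, hP g y hy, ?_⟩, ⟨_, hc⟩), ?_⟩
    · calc g * a * g⁻¹ * (g * y * g⁻¹) = g * (a * y) * g⁻¹ := by group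
        _ = g * (y * a) * g⁻¹ := by rw [hay]
        _ = _ := by group
    · simp only [Prod.mk.injEq, Subtype.mk.injEq]
      exact ⟨by group, by group⟩

/-- the involutions of the elementary group `⟨z, cl 168⟩` -/
def eList : List Nat := zN :: clsOf 3 168

/-- the involutions of the other class in the centraliser -/
def uList : List Nat := clsOf 3 190 ++ clsOf 3 1344 ++ clsOf 3 1404

theorem eList_comm : ∀ a ∈ eList, a < 21504 ∧ ∀ b ∈ eList, mulN 3 a b = mulN 3 b a := by
  decide +kernel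

theorem eList_sq : ∀ a ∈ eList, mulN 3 a a = 0 := by decide +kernel

theorem eList_nodup : eList.Nodup := by decide +kernel

theorem uList_card : uList.length = 560 ∧ ∀ m ∈ uList, m < 21504 := by decide +kernel

theorem uList_nodup : uList.Nodup := by decide +kernel

/-- the number of members of `eList` commuting with `m` -/
def eCount (m : Nat) : Nat :=
  (eList.filter fun a => Nat.beq (mulN 3 a m) (mulN 3 m a)).length

theorem eCount_spec : ∀ m ∈ uList, eCount m % 2 = 1 ∧ eCount m % 5 ≠ 0 := by decide +kernel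

namespace Cen

variable {G : Type u} [Group G] {z : G} (D : Cen 3 z)
include D

theorem false_of_fused_168 [Finite G] (h : Hyp z)
    (hU : ∀ a ∈ [190, 1344, 1404], ¬ IsConj (D.val a) z) (h168 : IsConj (D.val 168) z) :
    False := by
  classical
  obtain ⟨w, hw, hwz, htwo⟩ := h.two
  have hreps : ∀ p ∈ clsL 3, p.1 = zN ∨ p.1 = 168 ∨ p.1 ∈ [190, 1344, 1404] := by decide +kernel
  have hTE : ∀ x, x * z = z * x → orderOf x = 2 →
      (IsConj x z ↔ ∃ m ∈ eList, D.val m = x) := by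
    intro x hx ho
    obtain ⟨m, hm, rfl, p, hp, hmp⟩ := D.invol_val ho hx
    constructor
    · intro hT
      refine ⟨m, ?_, rfl⟩
      rcases hreps p hp with e | e | e
      · rw [e, clsOf_zN 3 D.hkr, List.mem_singleton] at hmp
        exact List.mem_cons.2 (Or.inl hmp)
      · exact List.mem_cons.2 (Or.inr (e ▸ hmp))
      · exact absurd ((D.cls_isConj hmp).trans hT) (hU _ e)
    · rintro ⟨m', hm', e⟩
      rw [← e]
      rcases List.mem_cons.1 hm' with rfl | h'
      · rw [D.val_z]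
      · exact (D.cls_isConj h').symm.trans h168
  have hUL : ∀ x, x * z = z * x →
      ((orderOf x = 2 ∧ ¬ IsConj x z) ↔ ∃ m ∈ uList, D.val m = x) := by
    intro x hx
    have hmem : ∀ a m, a ∈ [190, 1344, 1404] → m ∈ clsOf 3 a → m ∈ uList := fun a m ha hm => by
      simp only [List.mem_cons, List.not_mem_nil, or_false] at ha
      simp only [uList, List.mem_append]
      rcases ha with rfl | rfl | rfl <;> simp [hm]
    constructor
    · rintro ⟨ho, hnT⟩
      obtain ⟨m, hm, rfl, p, hp, hmp⟩ := D.invol_val ho hx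
      refine ⟨m, ?_, rfl⟩
      rcases hreps p hp with e | e | e
      · rw [e, clsOf_zN 3 D.hkr, List.mem_singleton] at hmp
        exact absurd (IsConj.refl z) (by rw [hmp, D.val_z] at hnT; exact hnT)
      · exact absurd ((D.cls_isConj (e ▸ hmp)).symm.trans h168) hnT
      · exact hmem _ _ e hmp
    · rintro ⟨m, hm, rfl⟩
      obtain ⟨a, ha, hma⟩ : ∃ a ∈ [190, 1344, 1404], m ∈ clsOf 3 a := by
        simp only [uList, List.mem_append] at hm
        rcases hm with (hm | hm) | hm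
        exacts [⟨190, by simp, hm⟩, ⟨1344, by simp, hm⟩, ⟨1404, by simp, hm⟩]
      obtain ⟨n, hn, -, -, hm', hm0, hmm⟩ := D.cls_conj hma
      exact ⟨D.val_invol hm' hmm hm0, fun hT => hU a ha ((D.cls_isConj hma).trans hT)⟩
  have hTo : ∀ x, IsConj x z → orderOf x = 2 := fun x hx => by
    obtain ⟨c, rfl⟩ := isConj_iff.1 hx
    exact ((MulAut.conj c).orderOf_eq x).symm.trans h.ord
  have hmove : ∀ g a b : G, a * b = b * a →
      (g * a * g⁻¹) * (g * b * g⁻¹) = (g * b * g⁻¹) * (g * a * g⁻¹) := fun g a b e =>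
    (conj_comm_iff g a b).1 e
  have hTconj : ∀ g a, IsConj a z → IsConj (g * a * g⁻¹) z := fun g a ha =>
    (isConj_iff.2 ⟨g, rfl⟩ : IsConj a (g * a * g⁻¹)).symm.trans ha
  have htr : ∀ a b c : G, IsConj a z → IsConj b z → IsConj c z → a * b = b * a → b * c = c * b →
      a * c = c * a := by
    intro a b c ha hb hc hab hbc
    obtain ⟨g, hg⟩ := isConj_iff.1 hb
    have h1 := hmove g a b hab
    have h2 := hmove g b c hbc
    rw [hg] at h1 h2
    obtain ⟨m, hm, em⟩ := (hTE _ h1 (hTo _ (hTconj g a ha))).1 (hTconj g a ha)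
    obtain ⟨n, hn, en⟩ := (hTE _ h2.symm (hTo _ (hTconj g c hc))).1 (hTconj g c hc)
    have h3 := D.val_commute (eList_comm m hm).1 (eList_comm n hn).1 ((eList_comm m hm).2 n hn)
    rw [em, en] at h3
    exact (conj_comm_iff g a c).2 h3
  -- the centraliser of `val 190`
  have hu0 : 190 ∈ uList := by decide +kernel
  have hu0' := (hUL (D.val 190) (D.val_comm 190 (by norm_num))).2 ⟨190, hu0, rfl⟩
  set u := D.val 190 with hu
  have hUu : ∀ x, (orderOf x = 2 ∧ ¬ IsConj x z) ↔ IsConj u x := by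
    intro x
    constructor
    · rintro ⟨ho, hnT⟩
      exact ((htwo u hu0'.1).resolve_left hu0'.2).trans ((htwo x ho).resolve_left hnT).symm
    · intro hx
      refine ⟨?_, fun hT => hu0'.2 (hx.trans hT)⟩
      obtain ⟨c, rfl⟩ := isConj_iff.1 hx
      exact ((MulAut.conj c).orderOf_eq u).trans hu0'.1
  let H : Subgroup G := Subgroup.centralizer ({u} : Set G)
  let S : H → Prop := fun a => IsConj (a : G) z
  have hcl : ∀ a : H, S a → ∃ m ∈ uList, Nat.card (Clique S a) = eCount m := by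
    intro a ha
    obtain ⟨g, hg⟩ := isConj_iff.1 ha
    have hau : (a : G) * u = u * a := Subgroup.mem_centralizer_singleton_iff.1 a.2
    have h1 := hmove g _ _ hau
    rw [hg] at h1
    obtain ⟨m, hm, em⟩ := (hUL _ h1.symm).1 ((hUu _).2 (isConj_iff.2 ⟨g, rfl⟩))
    have hm' := uList_card.2 m hm
    refine ⟨m, hm, ?_⟩
    let l := eList.filter fun a => Nat.beq (mulN 3 a m) (mulN 3 m a)
    have hl : ∀ x ∈ l, x < 21504 := fun x hx => (eList_comm x (List.mem_filter.1 hx).1).1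
    rw [eCount, ← D.card_image hl (eList_nodup.filter _)]
    refine Nat.card_congr
      { toFun := fun b => ⟨g * (b.1 : G) * g⁻¹, ?_⟩
        invFun := fun b => ⟨⟨g⁻¹ * b.1 * g, ?_⟩, ?_, ?_⟩
        left_inv := fun b => Subtype.ext (Subtype.ext
          (show g⁻¹ * (g * (b.1 : G) * g⁻¹) * g = b.1 by group))
        right_inv := fun b => Subtype.ext (show g * (g⁻¹ * b.1 * g) * g⁻¹ = b.1 by group) }
    · have hab : (a : G) * b.1 = b.1 * a := congrArg Subtype.val b.2.2
      have h2 := hmove g _ _ hab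
      rw [hg] at h2
      obtain ⟨n, hn, en⟩ := (hTE _ h2.symm (hTo _ (hTconj g _ b.2.1))).1 (hTconj g _ b.2.1)
      refine ⟨n, List.mem_filter.2 ⟨hn, ?_⟩, en⟩
      have h3 := hmove g _ _ (Subgroup.mem_centralizer_singleton_iff.1 b.1.2)
      rw [← em, ← en] at h3
      exact beq_true_iff.2 (D.mul_val_eq (eList_comm n hn).1 hm' h3)
    all_goals
      obtain ⟨n, hn, en⟩ := b.2
      obtain ⟨hn, hnm⟩ := List.mem_filter.1 hn
    · rw [Subgroup.mem_centralizer_singleton_iff]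
      refine (conj_comm_iff g _ u).2 ?_
      rw [← em, show g * (g⁻¹ * b.1 * g) * g⁻¹ = b.1 by group, ← en]
      exact D.val_commute (eList_comm n hn).1 hm' (Nat.eq_of_beq_eq_true hnm)
    · have hn2 : IsConj b.1 z := by
        have hv : D.val n * D.val n = 1 := by
          rw [← D.val_mul n n (eList_comm n hn).1 (eList_comm n hn).1, eList_sq n hn, D.val_zero]
        refine (hTE _ ?_ ?_).2 ⟨n, hn, en⟩
        · rw [← en]
          exact D.val_comm n (eList_comm n hn).1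
        · refine orderOf_eq_prime (hp := ⟨Nat.prime_two⟩) (by rw [pow_two, ← en, hv]) ?_
          intro e
          rw [← en] at e
          have h0 := D.val_eq_one (eList_comm n hn).1 e
          subst h0
          exact absurd hn (by decide +kernel)
      show IsConj (g⁻¹ * b.1 * g) z
      have h5 := hTconj g⁻¹ _ hn2
      rwa [inv_inv] at h5
    · refine Subtype.ext ?_
      show (a : G) * (g⁻¹ * b.1 * g) = g⁻¹ * b.1 * g * a
      refine (conj_comm_iff g _ _).2 ?_
      rw [hg, show g * (g⁻¹ * b.1 * g) * g⁻¹ = b.1 by group, ← en]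
      exact (D.val_comm n (eList_comm n hn).1).symm
  -- counting
  have hp1 := card_pairs z (fun y => IsConj u y)
    (fun g y hy => hy.trans (isConj_iff.2 ⟨g, rfl⟩))
  have hp2 := card_pairs u (fun y => IsConj z y)
    (fun g y hy => hy.trans (isConj_iff.2 ⟨g, rfl⟩))
  have hsym : Nat.card {p : G × G // IsConj u p.1 ∧ IsConj z p.2 ∧ p.1 * p.2 = p.2 * p.1} =
      Nat.card {p : G × G // IsConj z p.1 ∧ IsConj u p.2 ∧ p.1 * p.2 = p.2 * p.1} :=
    Nat.card_congr ((Equiv.prodComm G G).subtypeEquiv fun p =>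
      ⟨fun ⟨h1, h2, h3⟩ => ⟨h2, h1, h3.symm⟩, fun ⟨h1, h2, h3⟩ => ⟨h2, h1, h3.symm⟩⟩)
  have h560 : Nat.card {y : G // IsConj u y ∧ z * y = y * z} = 560 := by
    rw [← uList_card.1, ← D.card_image uList_card.2 uList_nodup]
    refine Nat.card_congr (Equiv.subtypeEquivRight fun y => ⟨fun ⟨h1, h2⟩ =>
      (hUL y h2.symm).1 ((hUu y).2 h1), ?_⟩)
    rintro ⟨m, hm, rfl⟩
    have hc := D.val_comm m (uList_card.2 m hm)
    exact ⟨(hUu _).1 ((hUL _ hc).2 ⟨m, hm, rfl⟩), hc.symm⟩
  have hH : Nat.card {y : G // IsConj z y ∧ u * y = y * u} = Nat.card {a : H // S a} :=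
    Nat.card_congr
      { toFun := fun y => ⟨⟨y.1, Subgroup.mem_centralizer_singleton_iff.2 y.2.2.symm⟩, y.2.1.symm⟩
        invFun := fun a => ⟨(a.1 : G), a.2.symm,
          (Subgroup.mem_centralizer_singleton_iff.1 a.1.2).symm⟩
        left_inv := fun _ => rfl
        right_inv := fun _ => rfl }
  rw [h560, D.card_cent] at hp1
  rw [hH, hsym] at hp2
  change _ * Nat.card H = _ at hp2
  have hcard : 192 * Nat.card {a : H // S a} = 5 * Nat.card H := by
    have hG : 0 < Nat.card G := Nat.card_pos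
    have e : Nat.card G * (21504 * Nat.card {a : H // S a}) =
        Nat.card G * (560 * Nat.card H) := by
      rw [← Nat.mul_assoc, Nat.mul_comm (Nat.card G) 21504, Nat.mul_assoc, ← hp2,
        ← Nat.mul_assoc, Nat.mul_comm 21504, hp1, Nat.mul_assoc]
    have := Nat.eq_of_mul_eq_mul_left hG e
    omega
  refine clique_contra S (fun a ha => ?_) (fun g a ha => hTconj (g : G) a ha)
    (fun a b c ha hb hc hab hbc => Subtype.ext (htr a b c ha hb hc (congrArg Subtype.val hab)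
      (congrArg Subtype.val hbc))) ?_ (fun a ha => ?_) (fun a ha => ?_) hcard
  · rw [← Subgroup.orderOf_coe]
    exact hTo _ ha
  · exact ⟨⟨z, Subgroup.mem_centralizer_singleton_iff.2 (D.val_comm 190 (by norm_num)).symm⟩,
      IsConj.refl z⟩
  · obtain ⟨m, hm, e⟩ := hcl a ha
    rw [e, Nat.odd_iff]
    exact (eCount_spec m hm).1
  · obtain ⟨m, hm, e⟩ := hcl a ha
    rw [e, Nat.dvd_iff_mod_eq_zero]
    exact (eCount_spec m hm).2

end Cen

end CfsgLib.Spor.HeRecog
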