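import Cfsg.Agent.Lib.Spor.HeRecog.Generator
import Cfsg.Agent.Lib.Spor.HeRecog.Iso

/-!
# Seven elements satisfying the relations of He in a group of Held type
-/

set_option autoImplicit false
set_option maxRecDepth 100000
set_option maxHeartbeats 1000000

namespace CfsgLib.Spor.HeRecog

open Cfsg.Spor

universe u

/-- the representatives of the classes fused to `z` -/
def tReps : List Nat := [10752, 168, 1344, 21, 190, 1366]

theorem class_split : ∀ p ∈ clsL 0, p.1 ∈ tReps ∨ p.1 = 1680 ∨ p.1 = 1777 := by decide +kernel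

theorem tu_check : allEls (fun m =>
    (!(Nat.beq (powN 0 m 3) 0 && Nat.beq (mulN 0 m 1680) (mulN 0 1680 m)) || Nat.beq m 0) &&
    (!(Nat.beq (powN 0 m 3) 0 && Nat.beq (mulN 0 m 1777) (mulN 0 1777 m)) || Nat.beq m 0)) =
      true := by decide +kernel

/-- the test that an element of the model is an involution of one of the given classes -/
def inCls (rs : List Nat) (m : Nat) : Bool :=
  rs.any fun a => (clsOf 0 a).any (Nat.beq m)

section

variable {G : Type u} [Group G] {z : G} {D : Cen 0 z}

theorem isConj_of_rep (h : Fus D) {a : ℕ} (ha : a ∈ tReps) : IsConj (D.val a) z := by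
  simp only [tReps, List.mem_cons, List.not_mem_nil, or_false] at ha
  rcases ha with rfl | rfl | rfl | rfl | rfl | rfl
  exacts [by rw [show 10752 = zN from rfl, D.val_z], h.t168, h.t1344, h.t21, h.t190, h.t1366]

theorem isConj_of_mem (h : Fus D) {a m : ℕ} (ha : a ∈ tReps) (hm : m ∈ clsOf 0 a) :
    IsConj (D.val m) z :=
  (D.cls_isConj hm).symm.trans (isConj_of_rep h ha)

theorem not_isConj_of_mem (h : Fus D) {a m : ℕ} (ha : a = 1680 ∨ a = 1777)
    (hm : m ∈ clsOf 0 a) : ¬ IsConj (D.val m) z := fun hz => by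
  rcases ha with rfl | rfl
  exacts [h.u1680 ((D.cls_isConj hm).trans hz), h.u1777 ((D.cls_isConj hm).trans hz)]

theorem isConj_of_inCls (h : Fus D) {m : ℕ} (hm : inCls tReps m = true) : IsConj (D.val m) z := by
  obtain ⟨r, hr, hrm⟩ := List.any_eq_true.1 hm
  obtain ⟨x, hx, hxm⟩ := List.any_eq_true.1 hrm
  exact isConj_of_mem h hr (Nat.eq_of_beq_eq_true hxm ▸ hx)

theorem not_isConj_of_inCls (h : Fus D) {m : ℕ} (hm : inCls [1680, 1777] m = true) :
    ¬ IsConj (D.val m) z := by
  obtain ⟨r, hr, hrm⟩ := List.any_eq_true.1 hm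
  obtain ⟨x, hx, hxm⟩ := List.any_eq_true.1 hrm
  exact not_isConj_of_mem h (by simpa using hr) (Nat.eq_of_beq_eq_true hxm ▸ hx)

/-- A commuting pair of involutions of the two classes centralises no element of order three. -/
theorem pow_three_eq_one (h : Fus D) {t w x : G} (ht : IsConj t z) (hw : orderOf w = 2)
    (hwU : ¬ IsConj w z) (htw : Commute t w) (hxt : Commute x t) (hxw : Commute x w)
    (hx : x ^ 3 = 1) : x = 1 := by
  obtain ⟨g, hg⟩ := isConj_iff.1 ht
  let c : G →* G := (MulAut.conj g).toMonoidHom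
  have hc : Function.Injective c := (MulAut.conj g).injective
  have ct : c t = z := hg
  have hw' : orderOf (c w) = 2 := (orderOf_injective c hc w).trans hw
  obtain ⟨m, hm, em, p, hp, hmem⟩ := D.invol_val hw' (by rw [← ct]; exact (htw.symm.map c).eq)
  rcases class_split p hp with hT | hU
  · refine absurd ?_ hwU
    have e := isConj_of_mem h hT hmem
    rw [em] at e
    exact (isConj_conj_iff g).1 e
  obtain ⟨n, hn, en, ha, -⟩ := D.cls_conj hmem
  obtain ⟨k, hk⟩ : ∃ k, k = (D.val n)⁻¹ := ⟨_, rfl⟩
  let d : G →* G := (MulAut.conj k).toMonoidHom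
  have hd : Function.Injective d := (MulAut.conj k).injective
  have dw : d (c w) = D.val p.1 := by
    show k * c w * k⁻¹ = _
    rw [← em, ← en, D.val_cj hn ha, hk]; group
  have dz : d z = z := by
    show k * z * k⁻¹ = _
    rw [hk, inv_inv, mul_assoc, ← D.val_comm n hn]; group
  obtain ⟨r, hr, er⟩ := D.val_surj (d (c x)) (by
    conv_lhs => rw [← dz, ← ct]
    conv_rhs => rw [← dz, ← ct]
    exact ((hxt.map c).map d).eq)
  have e1 : mulN 0 r p.1 = mulN 0 p.1 r := D.mul_val_eq hr ha (by
    rw [er, ← dw]; exact ((hxw.map c).map d).eq)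
  have e3 : powN 0 r 3 = 0 := D.val_eq_one (powN_lt 0 hr 3) (by
    rw [D.val_pow hr 3, er, ← map_pow, ← map_pow, hx, map_one, map_one])
  have hr0 : r = 0 := by
    have hc := allEls_spec tu_check r hr
    simp only [e3, Bool.and_eq_true] at hc
    rcases hU with e | e <;> rw [e] at e1 <;>
      simp only [e1] at hc
    · simpa using hc.1
    · simpa using hc.2
  rw [hr0, D.val_zero] at er
  refine hc (hd ?_)
  rw [map_one, map_one]
  exact er.symm

end

theorem setting_check :
    (cjN 0 13608 1680 = 1680 ∧ cjN 0 13608 11185 = mulN 0 1680 11185 ∧ cjN 0 13608 zN = zN ∧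
      cjN 0 13608 672 = 672 ∧ cjN 0 13608 5376 = 5376 ∧
      cjN 0 13608 97 = mulN 0 (mulN 0 97 zN) 1680) ∧
    (cjN 0 2971 1680 = mulN 0 1680 13608 ∧ cjN 0 2971 13608 = 13608 ∧ cjN 0 2971 zN = zN ∧
      cjN 0 2971 672 = 672 ∧ cjN 0 2971 5376 = 5376) ∧
    (∀ m ∈ [13608, 2971, 1680, 11185, zN, 672, 5376, 97], mulN 0 m m = 0) ∧
    (∀ m ∈ [zN, 672, 5376, 97], mulN 0 m 1680 = mulN 0 1680 m ∧
      mulN 0 m 11185 = mulN 0 11185 m ∧ inCls tReps m = true ∧
      inCls [1680, 1777] (mulN 0 m 1680) = true) ∧
    (mulN 0 1680 11185 = mulN 0 11185 1680 ∧ inCls [1680, 1777] 1680 = true ∧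
      inCls [1680, 1777] 11185 = true ∧ inCls [1680, 1777] (mulN 0 1680 11185) = true ∧
      inCls [1680, 1777] 13608 = true ∧ inCls tReps (mulN 0 2971 zN) = true) ∧
    (mulN 0 (mulN 0 672 5376) (mulN 0 672 5376) = zN ∧ mulN 0 97 672 = mulN 0 672 97 ∧
      mulN 0 97 5376 = mulN 0 5376 97 ∧ mulN 0 97 1680 = 1777) ∧
    (powN 0 (mulN 0 672 5376) 4 = 0 ∧ powN 0 (mulN 0 1680 2971) 4 = 0 ∧
      powN 0 (mulN 0 2971 1777) 3 = 0 ∧ powN 0 (mulN 0 (mulN 0 1680 2971) 1777) 3 = zN) ∧
    (mulN 0 1680 672 = mulN 0 672 1680 ∧ mulN 0 1680 5376 = mulN 0 5376 1680 ∧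
      mulN 0 1777 672 = mulN 0 672 1777 ∧ mulN 0 1777 5376 = mulN 0 5376 1777 ∧
      mulN 0 2971 672 = mulN 0 672 2971 ∧ mulN 0 2971 5376 = mulN 0 5376 2971 ∧
      mulN 0 1777 1680 = mulN 0 1680 1777) := by decide +kernel

/-- A group of Held type with the fusion, the centraliser of the second class and the configuration
of `L₃(4)` is the presented Held group. -/
theorem isoHe_of_ucent (h34 : StmtL34.{u}) {G : Type u} [Group G] [Finite G] {z : G}
    (D : Cen 0 z) (h : Fus D) (U : UCent D) : Cfsg.Spor.IsoHe G := by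
  letI := U.grp
  haveI := U.fin
  obtain ⟨⟨t1, t2, t3, t4, t5, t6⟩, ⟨b1, b2, b3, b4, b5⟩, hsq, hbig,
    ⟨huv, huU, hvU, huvU, htU, hbzT⟩, ⟨r1, r2, r3, r4⟩, ⟨p1, p2, p3, p4⟩,
    ⟨c1, c2, c3, c4, c5, c6, c7⟩⟩ := setting_check
  have hlt : ∀ m ∈ [13608, 2971, 1680, 11185, zN, 672, 5376, 97], m < 21504 := by
    decide +kernel
  have sq : ∀ m ∈ [13608, 2971, 1680, 11185, zN, 672, 5376, 97], D.val m * D.val m = 1 :=
    fun m hm => by rw [← D.val_mul m m (hlt m hm) (hlt m hm), hsq m hm, D.val_zero]
  have memM : ∀ m ∈ [zN, 672, 5376, 97],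
      D.val m ∈ Subgroup.centralizer ({D.val uN, D.val vN} : Set G) := fun m hm => by
    obtain ⟨h1, h2, -⟩ := hbig m hm
    have hm' : m < 21504 := hlt m (by
      simp only [List.mem_cons, List.not_mem_nil, or_false] at hm ⊢; tauto)
    refine Subgroup.mem_centralizer_iff.2 ?_
    rintro y (rfl | rfl)
    exacts [(D.val_commute hm' (by norm_num [uN]) h1).symm,
      (D.val_commute hm' (by norm_num [vN]) h2).symm]
  have big : ∀ m ∈ [zN, 672, 5376, 97], Big z (D.val uN) (D.val m) := fun m hm => by
    obtain ⟨h1, -, h3, h4⟩ := hbig m hm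
    have hm' : m < 21504 := hlt m (by
      simp only [List.mem_cons, List.not_mem_nil, or_false] at hm ⊢; tauto)
    refine ⟨isConj_of_inCls h h3, D.val_commute hm' (by norm_num [uN]) h1, ?_⟩
    rw [← D.val_mul m uN hm' (by norm_num [uN])]
    exact not_isConj_of_inCls h h4
  have cj : ∀ {n m : ℕ}, n < 21504 → m < 21504 → ∀ {r : ℕ}, cjN 0 n m = r →
      D.val n * D.val m * (D.val n)⁻¹ = D.val r := fun hn hm _ e => by rw [← D.val_cj hn hm, e]
  have ne1 : ∀ {m : ℕ}, m < 21504 → m ≠ 0 → D.val m ≠ 1 := fun hm h0 e => h0 (D.val_eq_one hm e)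
  obtain ⟨d, dd, du, db, dz, df, dg, d5, d4⟩ := Setting.exists_generator
    (z := z) (u := D.val uN) (v := D.val vN) (τ := D.val 13608) (b := D.val 2971)
    (f := D.val 672) (g := D.val 5376) (k := D.val 97)
    { X := U.X
      π := U.π
      surj := U.surj
      ker := U.ker
      big_exists := U.big_exists
      big_unique := U.big_unique
      sq_invol := U.sq_invol
      t_mem := U.t_mem
      zz := D.zz
      zne := fun e => by
        have := D.ord
        rw [e, orderOf_one] at this
        norm_num at this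
      uu := sq uN (by simp [uN])
      une := ne1 (by norm_num [uN]) (by norm_num [uN])
      vv := sq vN (by simp [vN])
      uv := D.val_commute (by norm_num [uN]) (by norm_num [vN]) huv
      tt := sq 13608 (by simp)
      bb := sq 2971 (by simp)
      ff := sq 672 (by simp)
      gg := sq 5376 (by simp)
      kk := sq 97 (by simp)
      zM := by
        have := memM zN (by simp)
        rwa [D.val_z] at this
      fM := memM 672 (by simp)
      gM := memM 5376 (by simp)
      kM := memM 97 (by simp)
      kne := fun e => absurd (D.val_inj 97 zN (by norm_num) (by norm_num [zN])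
        (e.trans D.val_z.symm)) (by decide)
      uT := not_isConj_of_inCls h huU
      vT := not_isConj_of_inCls h hvU
      uvT := by
        rw [← D.val_mul _ _ (by norm_num [uN]) (by norm_num [vN])]
        exact not_isConj_of_inCls h huvU
      fBig := big 672 (by simp)
      gBig := big 5376 (by simp)
      kBig := big 97 (by simp)
      zBig := by
        have := big zN (by simp)
        rwa [D.val_z] at this
      tu := cj (by norm_num) (by norm_num [uN]) t1
      tv := (cj (by norm_num) (by norm_num [vN]) t2).trans (D.val_mul _ _ (by norm_num) (by norm_num))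
      tz := by
        have := cj (by norm_num) (by norm_num [zN]) t3
        rwa [D.val_z] at this
      tf := cj (by norm_num) (by norm_num) t4
      tg := cj (by norm_num) (by norm_num) t5
      tk := by
        rw [cj (by norm_num) (by norm_num) t6, D.val_mul _ _ (mulN_lt (by norm_num) _ _) (by norm_num),
          D.val_mul _ _ (by norm_num) (by norm_num [zN]), D.val_z]
        rfl
      bu := (cj (by norm_num) (by norm_num [uN]) b1).trans (D.val_mul _ _ (by norm_num) (by norm_num))
      bt := cj (by norm_num) (by norm_num) b2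
      bz := by
        have := cj (by norm_num) (by norm_num [zN]) b3
        rwa [D.val_z] at this
      bf := cj (by norm_num) (by norm_num) b4
      bg := cj (by norm_num) (by norm_num) b5
      fg := by
        rw [← D.val_mul _ _ (by norm_num) (by norm_num),
          ← D.val_mul _ _ (mulN_lt (by norm_num) _ _) (mulN_lt (by norm_num) _ _), r1, D.val_z]
      kf := D.val_commute (by norm_num) (by norm_num) r2
      kg := D.val_commute (by norm_num) (by norm_num) r3
      bzT := by
        have := isConj_of_inCls h hbzT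
        rwa [D.val_mul _ _ (by norm_num) (by norm_num [zN]), D.val_z] at this
      tauU := ⟨D.val_invol (by norm_num) (hsq 13608 (by simp)) (by norm_num),
        not_isConj_of_inCls h htU⟩
      three := fun t w x => pow_three_eq_one h
      config := fun F G' C E hF hG hC hE hEE hE1 hC1 hCE hCF hCG => by
        obtain ⟨d₀, a1, a2, a3, a4, a5, hall, n1, -, -, hord⟩ :=
          h34 U.l34 F G' C E hF hG hC hE hEE hE1 hC1 hCE hCF hCG
        exact ⟨d₀, ⟨a1, a2, a3, a4, a5⟩, fun d ⟨s1, s2, s3, s4, s5⟩ => hall d s1 s2 s3 s4 s5, n1,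
          fun d ⟨s1, s2, s3, s4, s5⟩ => hord d s1 s2 s3 s4 s5⟩ }
  have hc : D.val 97 * D.val uN = D.val 1777 := by
    rw [← D.val_mul _ _ (by norm_num) (by norm_num [uN])]
    exact congrArg D.val r4
  rw [hc] at d5 d4
  -- the relations
  have cmm : ∀ {m n : ℕ}, m < 21504 → n < 21504 → mulN 0 m n = mulN 0 n m →
      Commute (D.val m) (D.val n) := fun hm hn e => D.val_commute hm hn e
  have cz : ∀ {m : ℕ}, m < 21504 → Commute (D.val m) z := fun hm => D.val_comm _ hm
  have pw : ∀ {m n i r : ℕ}, m < 21504 → n < 21504 → powN 0 (mulN 0 m n) i = r →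
      (D.val m * D.val n) ^ i = D.val r := fun hm hn e => by
    rw [← D.val_mul _ _ hm hn, ← D.val_pow (mulN_lt hm _ _), e]
  have cc : D.val 1777 * D.val 1777 = 1 := by
    rw [← hc, show D.val 97 * D.val uN * (D.val 97 * D.val uN) =
      D.val 97 * (D.val uN * D.val 97) * D.val uN by group,
      (cmm (m := uN) (n := 97) (by norm_num [uN]) (by norm_num) (hbig 97 (by simp)).1.symm).eq,
      show D.val 97 * (D.val 97 * D.val uN) * D.val uN =
        (D.val 97 * D.val 97) * (D.val uN * D.val uN) by group,
      sq 97 (by simp), sq uN (by simp [uN]), one_mul]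
  have sq2 : ∀ {x : G}, x * x = 1 → (x * x) ^ 1 = 1 := fun h => by rw [pow_one, h]
  have com2 : ∀ {x y : G}, x * x = 1 → y * y = 1 → Commute x y → (x * y) ^ 2 = 1 := fun hx hy hxy => by
    rw [hxy.mul_pow, pow_two, pow_two, hx, hy, one_mul]
  have rev : ∀ {x y : G} {n : ℕ}, (x * y) ^ n = 1 → (y * x) ^ n = 1 := fun {x y n} h => by
    rw [show y * x = y * (x * y) * y⁻¹ by group, conj_pow, h]; group
  refine isoHe_of_gens h.hyp.card
    (fun | .a => D.val uN | .b => D.val 2971 | .c => D.val 1777 | .d => d | .e => z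
         | .f => D.val 672 | .g => D.val 5376) (ne1 (by norm_num [uN]) (by norm_num [uN]))
    (fun x y => ?_) ?_ ?_ d5.symm d4
  · have za := sq uN (by simp [uN])
    have zb := sq 2971 (by simp)
    have zf := sq 672 (by simp)
    have zg := sq 5376 (by simp)
    have ab : (D.val uN * D.val 2971) ^ 4 = 1 :=
      (pw (by norm_num [uN]) (by norm_num) p2).trans D.val_zero
    have bc : (D.val 2971 * D.val 1777) ^ 3 = 1 :=
      (pw (by norm_num) (by norm_num) p3).trans D.val_zero
    have fg : (D.val 672 * D.val 5376) ^ 4 = 1 :=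
      (pw (by norm_num) (by norm_num) p1).trans D.val_zero
    have cd : (D.val 1777 * d) ^ 10 = 1 := by
      rw [show 10 = 5 * 2 from rfl, pow_mul, d5, pow_two, za]
    have ac := com2 za cc (cmm (by norm_num [uN]) (by norm_num) c7.symm)
    have af := com2 za zf (cmm (by norm_num [uN]) (by norm_num) c1)
    have ag := com2 za zg (cmm (by norm_num [uN]) (by norm_num) c2)
    have cf := com2 cc zf (cmm (by norm_num) (by norm_num) c3)
    have cg := com2 cc zg (cmm (by norm_num) (by norm_num) c4)
    have bf := com2 zb zf (cmm (by norm_num) (by norm_num) c5)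
    have bg := com2 zb zg (cmm (by norm_num) (by norm_num) c6)
    have ad := com2 za dd (show Commute _ d from du.symm)
    have bd := com2 zb dd (show Commute _ d from db)
    have ae := com2 za D.zz (cz (by norm_num [uN]))
    have be := com2 zb D.zz (cz (by norm_num))
    have ce := com2 cc D.zz (cz (by norm_num))
    have fe := com2 zf D.zz (cz (by norm_num))
    have ge := com2 zg D.zz (cz (by norm_num))
    cases x <;> cases y
    all_goals simp only [coxLabel, He.edges]
    all_goals first
      | exact sq2 za | exact sq2 zb | exact sq2 cc | exact sq2 dd | exact sq2 D.zz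
      | exact sq2 zf | exact sq2 zg
      | exact ab | exact rev ab | exact bc | exact rev bc | exact fg | exact rev fg
      | exact cd | exact rev cd | exact dz | exact rev dz | exact df | exact rev df
      | exact dg | exact rev dg
      | exact ac | exact rev ac | exact af | exact rev af | exact ag | exact rev ag
      | exact cf | exact rev cf | exact cg | exact rev cg | exact bf | exact rev bf
      | exact bg | exact rev bg | exact ad | exact rev ad | exact bd | exact rev bd
      | exact ae | exact rev ae | exact be | exact rev be | exact ce | exact rev ce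
      | exact fe | exact rev fe | exact ge | exact rev ge
  · show z = (D.val 672 * D.val 5376) ^ 2
    rw [pow_two, ← D.val_mul _ _ (by norm_num) (by norm_num),
      ← D.val_mul _ _ (mulN_lt (by norm_num) _ _) (mulN_lt (by norm_num) _ _), r1, D.val_z]
  · show z = (D.val 1680 * D.val 2971 * D.val 1777) ^ 3
    rw [← D.val_mul _ _ (by norm_num) (by norm_num),
      pw (mulN_lt (by norm_num) _ _) (by norm_num) p4, D.val_z]

end CfsgLib.Spor.HeRecog
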