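import Cfsg.Agent.Lib.Spor.HeRecog.Model
import Cfsg.Agent.Lib.Spor.HeRecog.ClassData
import Mathlib

/-!
# An involution whose centraliser is given by one of the models
-/

set_option autoImplicit false
set_option linter.unusedSectionVars false
set_option maxRecDepth 100000
set_option maxHeartbeats 1000000

namespace CfsgLib.Spor.HeRecog

universe u

theorem qSign_lt (a b : Nat) : qSign a b < 2 := Nat.mod_lt _ (by norm_num)

theorem qAct_lt (k j q : Nat) : qAct k j q < 128 := Nat.mod_lt _ (by norm_num)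

theorem pMul_lt (a b : Nat) : pMul a b < 168 := Nat.mod_lt _ (by norm_num)

theorem pInv_lt (a : Nat) : pInv a < 168 := Nat.mod_lt _ (by norm_num)

theorem xor_bit_lt {a c : Nat} (ha : a < 128) (hc : c < 2) :
    Nat.xor a (Nat.shiftLeft c 6) < 128 := by
  refine Nat.xor_lt_two_pow (n := 7) ha ?_
  show c <<< 6 < 2 ^ 7
  rw [Nat.shiftLeft_eq]
  omega

theorem qMul_lt {a b : Nat} (ha : a < 128) (hb : b < 128) : qMul a b < 128 :=
  xor_bit_lt (Nat.xor_lt_two_pow (n := 7) ha hb) (qSign_lt a b)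

theorem qInv_lt {a : Nat} (ha : a < 128) : qInv a < 128 := xor_bit_lt ha (qSign_lt a a)

theorem coc_lt (k a b : Nat) : coc k a b < 2 := by
  obtain ⟨x, hx⟩ : ∃ x, x = (cT >>> (168 * a + b)) % 2 := ⟨_, rfl⟩
  show k % 2 * ((cT >>> (168 * a + b)) % 2) < 2
  rw [← hx]
  have h1 : k % 2 ≤ 1 := by omega
  have h2 : x ≤ 1 := by omega
  have : k % 2 * x ≤ 1 * 1 := Nat.mul_le_mul h1 h2
  omega

theorem mulN_lt {m : Nat} (hm : m < 21504) (k n : Nat) : mulN k m n < 21504 := by
  have h1 := xor_bit_lt (qMul_lt (show m / 168 < 128 by omega) (qAct_lt k (m % 168) (n / 168)))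
    (coc_lt k (m % 168) (n % 168))
  have h2 := pMul_lt (m % 168) (n % 168)
  show Nat.xor (qMul (m / 168) (qAct k (m % 168) (n / 168)))
    (Nat.shiftLeft (coc k (m % 168) (n % 168)) 6) * 168 + pMul (m % 168) (n % 168) < 21504
  omega

theorem invN_lt (k m : Nat) : invN k m < 21504 := by
  have h1 := xor_bit_lt (qAct_lt k (pInv (m % 168)) (qInv (m / 168)))
    (coc_lt k (m % 168) (pInv (m % 168)))
  have h2 := pInv_lt (m % 168)
  show Nat.xor (qAct k (pInv (m % 168)) (qInv (m / 168)))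
    (Nat.shiftLeft (coc k (m % 168) (pInv (m % 168))) 6) * 168 + pInv (m % 168) < 21504
  omega

theorem cjN_lt {n : Nat} (hn : n < 21504) (k m : Nat) : cjN k n m < 21504 :=
  mulN_lt (mulN_lt hn k m) _ _

theorem powN_lt {m : Nat} (k : Nat) (hm : m < 21504) : ∀ i, powN k m i < 21504
  | 0 => by norm_num [powN]
  | i + 1 => mulN_lt (powN_lt k hm i) _ _

/-- a check of all numbers below a bound -/
def allN : Nat → (Nat → Bool) → Bool
  | 0, _ => true
  | n + 1, f => f n && allN n f

theorem allN_spec {f : Nat → Bool} : ∀ {n : Nat}, allN n f = true → ∀ i < n, f i = true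
  | 0, _, i, hi => absurd hi (Nat.not_lt_zero i)
  | n + 1, h, i, hi => by
    rw [allN, Bool.and_eq_true] at h
    rcases Nat.lt_succ_iff_lt_or_eq.1 hi with h' | rfl
    exacts [allN_spec h.2 i h', h.1]

/-- a check of all elements of a model; write `fun m => …` and use `Nat.beq`, `Nat.ble` in it -/
def allEls (f : Nat → Bool) : Bool :=
  allN 128 fun q => allN 168 fun j => f (Nat.add (Nat.mul 168 q) j)

theorem allEls_spec {f : Nat → Bool} (h : allEls f = true) : ∀ m < 21504, f m = true := by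
  intro m hm
  have := allN_spec (allN_spec h (m / 168) (by omega)) (m % 168) (by omega)
  change f (168 * (m / 168) + m % 168) = true at this
  rwa [Nat.div_add_mod] at this

theorem inv_check : allN 4 (fun k => allEls fun m =>
    Nat.beq (mulN k m (invN k m)) 0 && Nat.beq (mulN k 0 m) m && Nat.beq (mulN k m 0) m &&
      Nat.beq (mulN k m zN) (mulN k zN m)) = true := by decide +kernel

theorem model_spec {k m : Nat} (hk : k < 4) (hm : m < 21504) :
    mulN k m (invN k m) = 0 ∧ mulN k 0 m = m ∧ mulN k m 0 = m ∧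
    mulN k m zN = mulN k zN m := by
  have h := allEls_spec (allN_spec inv_check k hk) m hm
  simp only [Bool.and_eq_true] at h
  exact ⟨Nat.eq_of_beq_eq_true h.1.1.1, Nat.eq_of_beq_eq_true h.1.1.2,
    Nat.eq_of_beq_eq_true h.1.2, Nat.eq_of_beq_eq_true h.2⟩

/-- the classes of involutions of a model -/
def clsL (k : Nat) : List (Nat × List (Nat × Nat)) := classTbl.getD k []

/-- the elements of the class with a given representative -/
def clsOf (k a : Nat) : List Nat :=
  (((clsL k).find? fun p => p.1 == a).map fun p => p.2.map Prod.fst).getD []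

theorem class_spec : ∀ k ∈ List.range 4, ∀ p ∈ clsL k, p.1 < 21504 ∧
    ∀ w ∈ p.2, w.1 < 21504 ∧ w.1 ≠ 0 ∧ w.2 < 21504 ∧ mulN k w.1 w.1 = 0 ∧
      cjN k w.2 p.1 = w.1 := by decide +kernel

theorem class_self : ∀ k ∈ List.range 4, ∀ p ∈ clsL k,
    clsOf k p.1 = p.2.map Prod.fst ∧ p.1 ∈ p.2.map Prod.fst := by decide +kernel

/-- the elements of all classes -/
def allInvol (k : Nat) : List Nat := (clsL k).flatMap fun p => p.2.map Prod.fst

theorem invol_check : allN 4 (fun k => allEls fun m =>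
    !(Nat.beq (mulN k m m) 0) || Nat.beq m 0 || (allInvol k).any (Nat.beq m)) = true := by
  decide +kernel

theorem invol_cases {k m : Nat} (hk : k < 4) (hm : m < 21504) (h : mulN k m m = 0) :
    m = 0 ∨ ∃ p ∈ clsL k, m ∈ p.2.map Prod.fst := by
  have h' := allEls_spec (allN_spec invol_check k hk) m hm
  have e : Nat.beq (mulN k m m) 0 = true := by rw [h]; rfl
  simp only [e, Bool.not_true, Bool.false_or, Bool.or_eq_true] at h'
  rcases h' with h0 | hmem
  · exact Or.inl (Nat.eq_of_beq_eq_true h0)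
  · obtain ⟨x, hx, hxm⟩ := List.any_eq_true.1 hmem
    rw [← Nat.eq_of_beq_eq_true hxm, allInvol, List.mem_flatMap] at hx
    exact Or.inr hx

/-- The centraliser of the involution `z` is given by the model `k`. -/
structure Cen (k : ℕ) {G : Type u} [Group G] (z : G) where
  hk : k < 4
  ord : orderOf z = 2
  val : ℕ → G
  val_mul : ∀ m n, m < 21504 → n < 21504 → val (mulN k m n) = val m * val n
  val_comm : ∀ m, m < 21504 → val m * z = z * val m
  val_inj : ∀ m n, m < 21504 → n < 21504 → val m = val n → m = n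
  val_surj : ∀ g, g * z = z * g → ∃ m < 21504, val m = g
  val_z : val zN = z

namespace Cen

variable {k : ℕ} {G : Type u} [Group G] {z : G} (D : Cen k z)
include D

theorem hkr : k ∈ List.range 4 := List.mem_range.2 D.hk

theorem zz : z * z = 1 := by rw [← pow_two, ← D.ord, pow_orderOf_eq_one]

theorem zinv : z⁻¹ = z := inv_eq_of_mul_eq_one_right D.zz

theorem val_zero : D.val 0 = 1 := by
  have h := D.val_mul 0 0 (by norm_num) (by norm_num)
  rw [(model_spec D.hk (by norm_num : 0 < 21504)).2.1] at h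
  exact left_eq_mul.1 h

theorem val_inv {m : ℕ} (hm : m < 21504) : D.val (invN k m) = (D.val m)⁻¹ := by
  refine eq_inv_of_mul_eq_one_right ?_
  rw [← D.val_mul _ _ hm (invN_lt k m), (model_spec D.hk hm).1, D.val_zero]

theorem val_cj {n m : ℕ} (hn : n < 21504) (hm : m < 21504) :
    D.val (cjN k n m) = D.val n * D.val m * (D.val n)⁻¹ := by
  rw [cjN, D.val_mul _ _ (mulN_lt hn _ _) (invN_lt k n), D.val_mul _ _ hn hm, D.val_inv hn]

theorem val_pow {m : ℕ} (hm : m < 21504) : ∀ i, D.val (powN k m i) = D.val m ^ i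
  | 0 => by rw [powN, pow_zero, D.val_zero]
  | i + 1 => by rw [powN, D.val_mul _ _ (powN_lt k hm i) hm, val_pow hm i, pow_succ]

theorem val_eq_one {m : ℕ} (hm : m < 21504) (h : D.val m = 1) : m = 0 :=
  D.val_inj m 0 hm (by norm_num) (h.trans D.val_zero.symm)

theorem val_commute {m n : ℕ} (hm : m < 21504) (hn : n < 21504) (h : mulN k m n = mulN k n m) :
    D.val m * D.val n = D.val n * D.val m := by
  rw [← D.val_mul m n hm hn, ← D.val_mul n m hn hm, h]

theorem mul_val_eq {m n : ℕ} (hm : m < 21504) (hn : n < 21504)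
    (h : D.val m * D.val n = D.val n * D.val m) : mulN k m n = mulN k n m :=
  D.val_inj _ _ (mulN_lt hm _ _) (mulN_lt hn _ _) (by
    rw [D.val_mul m n hm hn, D.val_mul n m hn hm, h])

theorem val_invol {m : ℕ} (hm : m < 21504) (h : mulN k m m = 0) (h0 : m ≠ 0) :
    orderOf (D.val m) = 2 := by
  refine orderOf_eq_prime ?_ fun e => h0 (D.val_eq_one hm e)
  rw [pow_two, ← D.val_mul m m hm hm, h, D.val_zero]

theorem val_sq {m : ℕ} (hm : m < 21504) (h : D.val m * D.val m = 1) : mulN k m m = 0 :=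
  D.val_eq_one (mulN_lt hm _ _) (by rw [D.val_mul m m hm hm, h])

theorem isConj_cj {m : ℕ} (hm : m < 21504) {n : ℕ} (hn : n < 21504) {m' : ℕ}
    (h : cjN k n m = m') : IsConj (D.val m) (D.val m') :=
  isConj_iff.2 ⟨D.val n, by rw [← D.val_cj hn hm, h]⟩

theorem clsOf_eq {p : Nat × List (Nat × Nat)} (hp : p ∈ clsL k) :
    clsOf k p.1 = p.2.map Prod.fst := (class_self k D.hkr p hp).1

theorem cls_conj {a m : ℕ} (hm : m ∈ clsOf k a) :
    ∃ n < 21504, cjN k n a = m ∧ a < 21504 ∧ m < 21504 ∧ m ≠ 0 ∧ mulN k m m = 0 := by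
  unfold clsOf at hm
  cases hf : (clsL k).find? (fun p => p.1 == a) with
  | none => simp [hf] at hm
  | some p =>
    simp only [hf, Option.map_some, Option.getD_some, List.mem_map] at hm
    obtain ⟨w, hw, rfl⟩ := hm
    have hpa : p.1 = a := by simpa using List.find?_some hf
    have hp := List.mem_of_find?_eq_some hf
    obtain ⟨h1, h2⟩ := class_spec k D.hkr p hp
    obtain ⟨a1, a2, a3, a4, a5⟩ := h2 w hw
    exact ⟨w.2, a3, hpa ▸ a5, hpa ▸ h1, a1, a2, a4⟩

theorem cls_isConj {a m : ℕ} (hm : m ∈ clsOf k a) : IsConj (D.val a) (D.val m) := by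
  obtain ⟨n, hn, e, ha, -⟩ := D.cls_conj hm
  exact D.isConj_cj ha hn e

/-- An involution commuting with `z` lies in one of the classes of the model. -/
theorem invol_val {u : G} (hu : orderOf u = 2) (hc : u * z = z * u) :
    ∃ m < 21504, D.val m = u ∧ ∃ p ∈ clsL k, m ∈ clsOf k p.1 := by
  obtain ⟨m, hm, rfl⟩ := D.val_surj u hc
  refine ⟨m, hm, rfl, ?_⟩
  rcases invol_cases D.hk hm (D.val_sq hm (by
    rw [← pow_two, ← hu, pow_orderOf_eq_one])) with rfl | ⟨p, hp, h⟩
  · rw [D.val_zero, orderOf_one] at hu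
    norm_num at hu
  · exact ⟨p, hp, (D.clsOf_eq hp).symm ▸ h⟩

theorem mem_cent_iff {g : G} : g ∈ Subgroup.centralizer ({z} : Set G) ↔
    ∃ m < 21504, D.val m = g :=
  ⟨fun hg => D.val_surj g (Subgroup.mem_centralizer_singleton_iff.1 hg),
    fun ⟨m, hm, e⟩ => Subgroup.mem_centralizer_singleton_iff.2 (e ▸ D.val_comm m hm)⟩

theorem card_image {l : List ℕ} (hlt : ∀ m ∈ l, m < 21504) (hnd : l.Nodup) :
    Nat.card {g : G // ∃ m ∈ l, D.val m = g} = l.length := by
  classical
  have e : {m // m ∈ l} ≃ {g : G // ∃ m ∈ l, D.val m = g} :=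
    Equiv.ofBijective (fun m => ⟨D.val m.1, m.1, m.2, rfl⟩)
      ⟨fun a b h => Subtype.ext (D.val_inj _ _ (hlt _ a.2) (hlt _ b.2) (congrArg Subtype.val h)),
        fun ⟨g, m, hm, e⟩ => ⟨⟨m, hm⟩, Subtype.ext e⟩⟩
  rw [← Nat.card_congr e, Nat.card_eq_fintype_card,
    Fintype.card_of_subtype l.toFinset (fun x => List.mem_toFinset),
    List.toFinset_card_of_nodup hnd]

theorem card_cent : Nat.card (Subgroup.centralizer ({z} : Set G)) = 21504 := by
  have h := D.card_image (l := List.range 21504) (fun m h => List.mem_range.1 h)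
    List.nodup_range
  rw [List.length_range] at h
  rw [← h]
  exact Nat.card_congr (Equiv.subtypeEquivRight fun g => ⟨fun hg => by
    obtain ⟨m, hm, e⟩ := D.mem_cent_iff.1 hg
    exact ⟨m, List.mem_range.2 hm, e⟩,
    fun ⟨m, hm, e⟩ => D.mem_cent_iff.2 ⟨m, List.mem_range.1 hm, e⟩⟩)

/-- the number of elements of a list with a property, in the group -/
theorem val_mem_iff {l : List ℕ} (hlt : ∀ m ∈ l, m < 21504) {m : ℕ} (hm : m < 21504) :
    (∃ n ∈ l, D.val n = D.val m) ↔ m ∈ l :=
  ⟨fun ⟨n, hn, e⟩ => D.val_inj n m (hlt n hn) hm e ▸ hn, fun h => ⟨m, h, rfl⟩⟩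

end Cen

end CfsgLib.Spor.HeRecog
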