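import Cfsg.Agent.Lib.Spor.HeRecog.SixElem
import Cfsg.Agent.Lib.Spor.HeRecog.Interface

/-!
# The normaliser of `A` induces every linear map preserving its elements conjugate to `z`

Here the class `190` is assumed not to be fused to `z`.
-/

set_option autoImplicit false
set_option maxRecDepth 100000
set_option maxHeartbeats 1000000
set_option linter.unusedSectionVars false

namespace CfsgLib.Spor.HeRecog.Six64

universe u

theorem bits_check : allN 6 (fun k => allN (2 ^ k) fun x =>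
    Nat.beq (Nat.xor (2 ^ k) x) (2 ^ k + x)) = true := by decide +kernel

theorem bits_induction {P : ℕ → Prop} (h0 : P 0)
    (hx : ∀ x y, x < 64 → y < 64 → P x → P y → P (x ^^^ y)) (hg : ∀ i < 6, P (2 ^ i)) :
    ∀ x < 64, P x := by
  suffices ∀ k ≤ 6, ∀ x < 2 ^ k, P x from this 6 le_rfl
  intro k
  induction k with
  | zero => intro _ x h; rw [pow_zero, Nat.lt_one_iff] at h; exact h ▸ h0
  | succ k ih =>
    intro hk x h
    rcases Nat.lt_or_ge x (2 ^ k) with h1 | h1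
    · exact ih (by omega) x h1
    have e := Nat.eq_of_beq_eq_true
      (allN_spec (allN_spec bits_check k (by omega)) (x - 2 ^ k) (by rw [pow_succ] at h; omega))
    change (2 ^ k) ^^^ (x - 2 ^ k) = _ at e
    rw [Nat.add_sub_cancel' h1] at e
    have h64 : 2 ^ k < 64 := lt_of_lt_of_le (Nat.pow_lt_pow_right (by norm_num) (by omega))
      (show (2 : ℕ) ^ 6 ≤ 64 by norm_num)
    rw [← e]
    exact hx _ _ h64 (by rw [pow_succ] at h; omega) (hg k (by omega))
      (ih (by omega) _ (by rw [pow_succ] at h; omega))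

theorem xor_lt_64 {x y : ℕ} (hx : x < 64) (hy : y < 64) : x ^^^ y < 64 :=
  Nat.xor_lt_two_pow (n := 6) hx hy

/-- A linear map of the indices of `A` preserving those conjugate to `z`. -/
structure Pres (φ : ℕ → ℕ) : Prop where
  lt : ∀ x < 64, φ x < 64
  add : ∀ x y, x < 64 → y < 64 → φ (x ^^^ y) = φ x ^^^ φ y
  inj : ∀ x < 64, φ x = 0 → x = 0
  isT : ∀ x < 64, Six64.isT x = true → Six64.isT (φ x) = true

theorem Pres.zero {φ : ℕ → ℕ} (hφ : Pres φ) : φ 0 = 0 := by
  have h := hφ.add 0 0 (by norm_num) (by norm_num)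
  simpa using h

theorem an_lt {x : ℕ} (hx : x < 64) : an x < 21504 := by
  have h := allN_spec an_check x hx
  simp only [Bool.and_eq_true] at h
  exact Nat.le_of_ble_eq_true h.1.1.1

theorem an_mem_iff {m : ℕ} : m ∈ anL ↔ ∃ x < 64, an x = m := by
  obtain ⟨-, hl, -⟩ := an_facts
  constructor
  · intro h
    obtain ⟨i, hi, e⟩ := List.getElem_of_mem h
    exact ⟨i, hl ▸ hi, by rw [an, List.getD_eq_getElem _ _ hi, e]⟩
  · rintro ⟨x, hx, rfl⟩
    rw [an, List.getD_eq_getElem _ _ (hl.symm ▸ hx)]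
    exact List.getElem_mem _

theorem an_inj {x y : ℕ} (hx : x < 64) (hy : y < 64) (h : an x = an y) : x = y := by
  obtain ⟨hn, hl, -⟩ := an_facts
  rw [an, an, List.getD_eq_getElem _ _ (hl.symm ▸ hx), List.getD_eq_getElem _ _ (hl.symm ▸ hy)]
    at h
  exact (List.Nodup.getElem_inj_iff hn).1 h

theorem allN_intro {f : ℕ → Bool} : ∀ {n : ℕ}, (∀ i < n, f i = true) → allN n f = true
  | 0, _ => rfl
  | n + 1, h => by
    rw [allN, h n (Nat.lt_succ_self n), allN_intro fun i hi => h i (hi.trans n.lt_succ_self)]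
    rfl

theorem qj_check : allN 128 (fun q => allN 168 fun j =>
    Nat.beq (mulN 0 (qN q) j) (Nat.add (Nat.mul 168 q) j)) = true := by decide +kernel

/-- the numbers of a two-subgroup normalising `A` or its mirror -/
def sylList (b : ℕ) : List ℕ :=
  (List.range 21504).filter fun m => memB (normL.getD b []) (Nat.mod m 168)

theorem sylList_length : ∀ b ∈ List.range 2, (sylList b).length = 1024 ∧
    memB (normL.getD b []) 0 = true := by
  decide +kernel

variable {G : Type u} [Group G] [Finite G] {z : G} (D : Cen 0 z)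

/-- the element of `A` with a given index -/
def ev64 (x : ℕ) : G := D.val (an x)

/-- `g` induces `φ` on `A` -/
def Acts (g : G) (φ : ℕ → ℕ) : Prop := ∀ x < 64, g * ev64 D x * g⁻¹ = ev64 D (φ x)

theorem ev_add {x y : ℕ} (hx : x < 64) (hy : y < 64) :
    ev64 D (x ^^^ y) = ev64 D x * ev64 D y := by
  have h := allN_spec an_check x hx
  simp only [Bool.and_eq_true] at h
  have e : an (x ^^^ y) = mulN 0 (an x) (an y) := Nat.eq_of_beq_eq_true (allN_spec h.2 y hy)
  rw [ev64, e, D.val_mul _ _ (an_lt hx) (an_lt hy)]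
  rfl

theorem ev_zero : ev64 D 0 = 1 := by rw [ev64, an_facts.2.2.2.2.1, D.val_zero]

theorem ev_one : ev64 D 1 = z := by rw [ev64, an_facts.2.2.2.2.2.1, D.val_z]

theorem ev_inj {x y : ℕ} (hx : x < 64) (hy : y < 64) (h : ev64 D x = ev64 D y) : x = y :=
  an_inj hx hy (D.val_inj _ _ (an_lt hx) (an_lt hy) h)

theorem ev_sq {x : ℕ} (hx : x < 64) : ev64 D x * ev64 D x = 1 := by
  rw [← ev_add D hx hx, Nat.xor_self, ev_zero]

theorem ev_inv {x : ℕ} (hx : x < 64) : (ev64 D x)⁻¹ = ev64 D x :=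
  inv_eq_of_mul_eq_one_right (ev_sq D hx)

theorem ev_comm {x y : ℕ} (hx : x < 64) (hy : y < 64) :
    ev64 D x * ev64 D y = ev64 D y * ev64 D x := by
  rw [← ev_add D hx hy, ← ev_add D hy hx, Nat.xor_comm]

theorem isT_iff (hb : Basic D) (h190 : ¬ IsConj (D.val 190) z) {x : ℕ} (hx : x < 64) :
    IsConj (ev64 D x) z ↔ isT x = true := by
  rcases eq_or_ne x 0 with rfl | h0
  · rw [ev_zero]
    refine ⟨fun h => ?_, fun h => absurd h (by decide)⟩
    have := D.ord
    rw [isConj_one_right.1 h, orderOf_one] at this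
    norm_num at this
  have h := allN_spec an_check x hx
  simp only [Bool.and_eq_true, Bool.or_eq_true, beqF h0, Bool.false_eq_true, false_or] at h
  cases hT : isT x with
  | true =>
    simp only [hT, cond_true, List.any_eq_true] at h
    obtain ⟨a, ha, hm⟩ := h.1.2
    refine ⟨fun _ => rfl, fun _ => ((D.cls_isConj (memB_iff.1 hm)).symm).trans ?_⟩
    simp only [tClasses, List.mem_cons, List.not_mem_nil, or_false] at ha
    rcases ha with rfl | rfl | rfl | rfl
    exacts [hb.t21, hb.t168, hb.t1344, by rw [show (10752 : ℕ) = zN from rfl, D.val_z]]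
  | false =>
    simp only [hT, cond_false, List.any_eq_true] at h
    obtain ⟨a, ha, hm⟩ := h.1.2
    refine ⟨fun hc => ?_, fun h => absurd h (by simp)⟩
    have hca : IsConj (D.val a) z := (D.cls_isConj (memB_iff.1 hm)).trans hc
    simp only [uClasses, List.mem_cons, List.not_mem_nil, or_false] at ha
    rcases ha with rfl | rfl | rfl
    exacts [absurd hca h190, absurd hca hb.u1680, absurd hca hb.u1777]

/-- the elementary abelian group `A` -/
def gA : Subgroup G where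
  carrier := {g | ∃ x < 64, ev64 D x = g}
  one_mem' := ⟨0, by norm_num, ev_zero D⟩
  mul_mem' := by
    rintro _ _ ⟨x, hx, rfl⟩ ⟨y, hy, rfl⟩
    exact ⟨x ^^^ y, xor_lt_64 hx hy, ev_add D hx hy⟩
  inv_mem' := by
    rintro _ ⟨x, hx, rfl⟩
    exact ⟨x, hx, (ev_inv D hx).symm⟩

theorem ev_mem {x : ℕ} (hx : x < 64) : ev64 D x ∈ gA D := ⟨x, hx, rfl⟩

theorem mem_gA_iff {g : G} : g ∈ gA D ↔ g ∈ setOf D (baseL 0) := by
  show (∃ x < 64, ev64 D x = g) ↔ ∃ m ∈ anL, D.val m = g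
  exact ⟨fun ⟨x, hx, e⟩ => ⟨an x, an_mem_iff.2 ⟨x, hx, rfl⟩, e⟩,
    fun ⟨m, hm, e⟩ => by obtain ⟨x, hx, rfl⟩ := an_mem_iff.1 hm; exact ⟨x, hx, e⟩⟩

theorem ncard_ev {s : Finset ℕ} (hs : ∀ x ∈ s, x < 64) :
    (ev64 D '' (s : Set ℕ)).ncard = s.card := by
  rw [Set.ncard_image_of_injOn (fun a ha b hb h => ev_inj D (hs a ha) (hs b hb) h),
    Set.ncard_coe_finset]

theorem card_gA : Nat.card (gA D) = 64 := by
  rw [← SetLike.coe_sort_coe, Nat.card_coe_set_eq,
    show ((gA D : Subgroup G) : Set G) = ev64 D '' ↑(Finset.range 64) from Set.ext fun g => by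
      constructor
      · rintro ⟨x, hx, rfl⟩; exact ⟨x, by simpa using hx, rfl⟩
      · rintro ⟨x, hx, rfl⟩; exact ⟨x, by simpa using hx, rfl⟩,
    ncard_ev D (fun x h => Finset.mem_range.1 h), Finset.card_range]

theorem cent_gA {g : G} (h : ∀ x < 64, g * ev64 D x = ev64 D x * g) : g ∈ gA D := by
  have h1 := h 1 (by norm_num)
  rw [ev_one] at h1
  obtain ⟨m, hm, rfl⟩ := D.val_surj g h1
  have hc := fun x (hx : x < 64) => beqT (D.mul_val_eq hm (an_lt hx) (h x hx))
  have h' := allEls_spec self_centralizing m hm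
  simp only [hc 2 (by norm_num), hc 4 (by norm_num), hc 8 (by norm_num), hc 16 (by norm_num),
    hc 32 (by norm_num), Bool.and_self, Bool.not_true, Bool.false_or] at h'
  exact (mem_gA_iff D).2 ⟨m, memB_iff.1 h', rfl⟩

/-- `n` normalises `A` -/
def Nrm (n : G) : Prop := ∀ g, g ∈ gA D ↔ n * g * n⁻¹ ∈ gA D

/-- the normaliser of `A` -/
def gN : Subgroup G where
  carrier := {n | Nrm D n}
  one_mem' := fun g => by simp
  mul_mem' := fun {a b} ha hb g => by
    rw [hb g, ha (b * g * b⁻¹), mul_inv_rev]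
    simp only [mul_assoc]
  inv_mem' := fun {a} ha g => by
    rw [ha (a⁻¹ * g * a⁻¹⁻¹)]
    simp only [inv_inv, mul_assoc, mul_inv_cancel, mul_one, mul_inv_cancel_left]

/-- `c` carries `x` to `z` and `A` to the subgroup `b` -/
def Ty (b x : ℕ) : Prop :=
  ∃ c : G, c * ev64 D x * c⁻¹ = z ∧ ∀ g, g ∈ gA D ↔ c * g * c⁻¹ ∈ setOf D (baseL b)

theorem ty_one : Ty D 0 1 :=
  ⟨1, by rw [ev_one]; simp, fun g => by rw [one_mul, inv_one, mul_one, mem_gA_iff]⟩

theorem ty_exists {x : ℕ} (hx : x < 64) (hT : IsConj (ev64 D x) z) : ∃ b < 2, Ty D b x := by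
  obtain ⟨c, hc⟩ := isConj_iff.1 hT
  let B := (gA D).map (MulAut.conj c).toMonoidHom
  have hB : ∀ g, g ∈ B ↔ ∃ y < 64, c * ev64 D y * c⁻¹ = g := fun g => by
    simp only [B, Subgroup.mem_map, MulEquiv.coe_toMonoidHom, MulAut.conj_apply]
    exact ⟨fun ⟨a, ⟨y, hy, e⟩, ea⟩ => ⟨y, hy, e ▸ ea⟩,
      fun ⟨y, hy, e⟩ => ⟨_, ev_mem D hy, e⟩⟩
  have hcomm : ∀ g ∈ B, ∀ h ∈ B, g * h = h * g := by
    intro g hg h hh
    obtain ⟨y, hy, rfl⟩ := (hB g).1 hg
    obtain ⟨w, hw, rfl⟩ := (hB h).1 hh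
    rw [conj_mul, conj_mul, ev_comm D hy hw]
  have hzB : z ∈ B := (hB z).2 ⟨x, hx, hc⟩
  obtain ⟨b, hb, n, hn, hiff⟩ := classify D (B := B)
    (by rw [← card_gA D]; exact Nat.card_congr
          ((gA D).equivMapOfInjective _ (MulAut.conj c).injective).symm.toEquiv)
    (fun g hg => hcomm g hg z hzB) hcomm
    (fun g hg => by
      obtain ⟨y, hy, rfl⟩ := (hB g).1 hg
      rw [conj_mul, ev_sq D hy, mul_one, mul_inv_cancel]) hzB
  refine ⟨b, hb, (D.val n)⁻¹ * c, ?_, fun g => ?_⟩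
  · rw [mul_inv_rev, inv_inv, show (D.val n)⁻¹ * c * ev64 D x * (c⁻¹ * D.val n) =
      (D.val n)⁻¹ * (c * ev64 D x * c⁻¹) * D.val n by group, hc, mul_assoc,
      ← D.val_comm n hn]
    group
  · rw [mul_inv_rev, inv_inv, show (D.val n)⁻¹ * c * g * (c⁻¹ * D.val n) =
      (D.val n)⁻¹ * (c * g * c⁻¹) * D.val n by group, ← hiff]
    exact ⟨fun hg => by obtain ⟨y, hy, rfl⟩ := hg; exact (hB _).2 ⟨y, hy, rfl⟩, fun hg => by
      obtain ⟨y, hy, e⟩ := (hB _).1 hg
      exact ⟨y, hy, mul_left_cancel (mul_right_cancel e)⟩⟩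

/-- the orbit of `x` under the normaliser of `A` -/
def orb (x : ℕ) : Set G := {g | ∃ n, Nrm D n ∧ n * ev64 D x * n⁻¹ = g}

theorem ty_orb {b x y : ℕ} (hx : Ty D b x) (hy : Ty D b y) : ev64 D y ∈ orb D x := by
  obtain ⟨c, hc, hcA⟩ := hx
  obtain ⟨d, hd, hdA⟩ := hy
  refine ⟨d⁻¹ * c, fun g => ?_, ?_⟩
  · rw [hcA g, hdA (d⁻¹ * c * g * (d⁻¹ * c)⁻¹)]
    simp only [mul_inv_rev, inv_inv, mul_assoc, mul_inv_cancel_left, mul_inv_cancel, mul_one]
  · calc d⁻¹ * c * ev64 D x * (d⁻¹ * c)⁻¹ = d⁻¹ * (c * ev64 D x * c⁻¹) * d := by group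
      _ = d⁻¹ * (d * ev64 D y * d⁻¹) * d := by rw [hc, hd]
      _ = ev64 D y := by group

theorem orb_trans {x y : ℕ} (hy : ev64 D y ∈ orb D x) : orb D y = orb D x := by
  obtain ⟨n, hn, he⟩ := hy
  ext g
  constructor
  · rintro ⟨m, hm, rfl⟩
    exact ⟨m * n, (gN D).mul_mem hm hn, by rw [← he]; group⟩
  · rintro ⟨m, hm, rfl⟩
    exact ⟨m * n⁻¹, (gN D).mul_mem hm ((gN D).inv_mem hn), by rw [← he]; group⟩

theorem gS_spec {b : ℕ} (hb : b < 2) :
    ∃ S : Subgroup G, Nat.card S = 1024 ∧ ∀ s ∈ S, s * z = z * s ∧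
      ∀ g ∈ setOf D (baseL b), s * g * s⁻¹ ∈ setOf D (baseL b) := by
  have hmem : ∀ m, m ∈ sylList b ↔ m < 21504 ∧ m % 168 ∈ normL.getD b [] := fun m => by
    simp only [sylList, List.mem_filter, List.mem_range, memB_iff]
    rfl
  obtain ⟨hlen, h0⟩ := sylList_length b (List.mem_range.2 hb)
  obtain ⟨-, -, hJ⟩ := norm_facts b (List.mem_range.2 hb)
  let M : Submonoid G :=
    { carrier := {g | ∃ m ∈ sylList b, D.val m = g}
      one_mem' := ⟨0, (hmem 0).2 ⟨by norm_num, memB_iff.1 h0⟩, D.val_zero⟩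
      mul_mem' := by
        rintro _ _ ⟨m, hm, rfl⟩ ⟨n, hn, rfl⟩
        obtain ⟨lm, jm⟩ := (hmem m).1 hm
        obtain ⟨ln, jn⟩ := (hmem n).1 hn
        exact ⟨mulN 0 m n, (hmem _).2 ⟨mulN_lt lm _ _, by
          rw [mulN_mod]; exact (hJ _ jm).2.2 _ jn⟩, D.val_mul m n lm ln⟩ }
  let S : Subgroup G :=
    { M with
      inv_mem' := fun {g} hg => by
        have h : g⁻¹ = g ^ (orderOf g - 1) := inv_eq_of_mul_eq_one_right (by
          rw [← pow_succ', Nat.sub_add_cancel (orderOf_pos g), pow_orderOf_eq_one])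
        rw [h]
        exact M.pow_mem hg _ }
  refine ⟨S, ?_, fun s hs => ?_⟩
  · have h := D.card_image (l := sylList b) (fun m hm => ((hmem m).1 hm).1)
      (List.nodup_range.filter _)
    rw [hlen] at h
    exact h
  · obtain ⟨m, hm, rfl⟩ := hs
    obtain ⟨lm, jm⟩ := (hmem m).1 hm
    refine ⟨D.val_comm m lm, ?_⟩
    obtain ⟨lj, hnj, -⟩ := hJ _ jm
    have hq := allN_spec (allN_spec norm_qpart b hb) (m / 168) (by omega)
    have e : D.val m = D.val (qN (m / 168)) * D.val (m % 168) := by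
      rw [← D.val_mul _ _ (by show 168 * (m / 168) < 21504; omega) (by omega),
        Nat.eq_of_beq_eq_true (allN_spec (allN_spec qj_check (m / 168) (by omega)) (m % 168)
          (by omega))]
      exact congrArg D.val (Nat.div_add_mod m 168).symm
    have step : ∀ n < 21504, normB n (baseL b) = true → ∀ g ∈ setOf D (baseL b),
        D.val n * g * (D.val n)⁻¹ ∈ setOf D (baseL b) := by
      rintro n hn h _ ⟨a, ha, rfl⟩
      exact ⟨cjN 0 n a, memB_iff.1 (List.all_eq_true.1 h a ha),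
        D.val_cj hn (base_lt b a ha)⟩
    intro g hg
    have := step _ (by show 168 * (m / 168) < 21504; omega) hq _
      (step _ (by omega) hnj g hg)
    rw [e, mul_inv_rev]
    simpa only [mul_assoc] using this

theorem orb_odd (hG : Hyp z) {b x : ℕ} (hb : b < 2) (hx : x < 64) (hT : Ty D b x) :
    Odd (orb D x).ncard := by
  obtain ⟨c, hc, hcA⟩ := hT
  obtain ⟨S, hS, hSn⟩ := gS_spec D hb
  let P := S.map (MulAut.conj c⁻¹).toMonoidHom
  have hP : ∀ p ∈ P, Nrm D p ∧ p * ev64 D x * p⁻¹ = ev64 D x := by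
    rintro _ ⟨s, hs, rfl⟩
    simp only [MulEquiv.coe_toMonoidHom, MulAut.conj_apply, inv_inv]
    refine ⟨fun g => ?_, ?_⟩
    · rw [hcA g, hcA (c⁻¹ * s * c * g * (c⁻¹ * s * c)⁻¹),
        show c * (c⁻¹ * s * c * g * (c⁻¹ * s * c)⁻¹) * c⁻¹ = s * (c * g * c⁻¹) * s⁻¹ by group]
      refine ⟨(hSn s hs).2 _, fun h => ?_⟩
      have := (hSn _ (S.inv_mem hs)).2 _ h
      rwa [show s⁻¹ * (s * (c * g * c⁻¹) * s⁻¹) * s⁻¹⁻¹ = c * g * c⁻¹ by group] at this
    · calc c⁻¹ * s * c * ev64 D x * (c⁻¹ * s * c)⁻¹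
          = c⁻¹ * (s * (c * ev64 D x * c⁻¹) * s⁻¹) * c := by group
        _ = c⁻¹ * z * c := by rw [hc, (hSn s hs).1]; group
        _ = c⁻¹ * (c * ev64 D x * c⁻¹) * c := by rw [hc]
        _ = ev64 D x := by group
  have hPN : P ≤ gN D := fun p hp => (hP p hp).1
  letI : MulAction (gN D) G :=
    MulAction.compHom G ((MulAut.conj (G := G)).comp (gN D).subtype)
  have horb : MulAction.orbit (gN D) (ev64 D x) = orb D x := by
    ext g
    exact ⟨fun ⟨n, e⟩ => ⟨n.1, n.2, e⟩, fun ⟨n, hn, e⟩ => ⟨⟨n, hn⟩, e⟩⟩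
  have hstab : P.subgroupOf (gN D) ≤ MulAction.stabilizer (gN D) (ev64 D x) := fun p hp =>
    MulAction.mem_stabilizer_iff.2 (hP p.1 hp).2
  have h1024 : 1024 ∣ Nat.card (MulAction.stabilizer (gN D) (ev64 D x)) := by
    have := Subgroup.card_dvd_of_le hstab
    rwa [Nat.card_congr (Subgroup.subgroupOfEquivOfLe hPN).toEquiv,
      ← Nat.card_congr ((S.equivMapOfInjective _ (MulAut.conj c⁻¹).injective).toEquiv), hS] at this
  have hmul : (orb D x).ncard * Nat.card (MulAction.stabilizer (gN D) (ev64 D x)) =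
      Nat.card (gN D) := by
    rw [← horb, ← MulAction.index_stabilizer, mul_comm, Subgroup.card_mul_index]
  by_contra heven
  obtain ⟨a, ha⟩ := Nat.not_odd_iff_even.1 heven
  obtain ⟨r, hr⟩ := h1024
  have hdvd : 2048 ∣ Nat.card G := dvd_trans ⟨a * r, by rw [← hmul, ha, hr]; ring⟩
    (Subgroup.card_subgroup_dvd_card _)
  rw [hG.card] at hdvd
  norm_num at hdvd

theorem tlist_card : ((Finset.range 64).filter fun x => isT x = true).card = 21 := by
  decide +kernel

theorem transitive (hb : Basic D) (h190 : ¬ IsConj (D.val 190) z) {x : ℕ} (hx : x < 64)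
    (hT : isT x = true) : ev64 D x ∈ orb D 1 := by
  by_contra hno
  let TA := ev64 D '' ↑((Finset.range 64).filter fun x => isT x = true)
  have hTA : TA.ncard = 21 := by
    rw [ncard_ev D fun x h => Finset.mem_range.1 (Finset.mem_filter.1 h).1, tlist_card]
  have hmem : ∀ y, y < 64 → isT y = true → ev64 D y ∈ TA := fun y hy h => ⟨y, by simp [hy, h], rfl⟩
  have hsub : ∀ y < 64, isT y = true → orb D y ⊆ TA := by
    rintro y hy hyT g ⟨n, hn, rfl⟩
    obtain ⟨w, hw, e⟩ := (hn _).1 (ev_mem D hy)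
    have hc : IsConj (ev64 D w) z := by
      rw [e]
      exact (isConj_iff.2 ⟨n, rfl⟩).symm.trans ((isT_iff D hb h190 hy).2 hyT)
    exact e ▸ hmem w hw ((isT_iff D hb h190 hw).1 hc)
  have hty1 : ∀ y < 64, isT y = true → ev64 D y ∉ orb D 1 → Ty D 1 y := by
    intro y hy hyT hy1
    obtain ⟨b, hb2, hty⟩ := ty_exists D hy ((isT_iff D hb h190 hy).2 hyT)
    obtain rfl | rfl : b = 0 ∨ b = 1 := by omega
    · exact absurd (ty_orb D (ty_one D) hty) hy1
    · exact hty
  have heq : TA = orb D 1 ∪ orb D x := by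
    refine Set.Subset.antisymm ?_ (Set.union_subset (hsub 1 (by norm_num) (by decide))
      (hsub x hx hT))
    rintro g ⟨y, hy, rfl⟩
    simp only [Finset.coe_filter, Finset.mem_range, Set.mem_setOf_eq] at hy
    by_cases h : ev64 D y ∈ orb D 1
    · exact Or.inl h
    · exact Or.inr (ty_orb D (hty1 x hx hT hno) (hty1 y hy.1 hy.2 h))
  have hdisj : Disjoint (orb D 1) (orb D x) := by
    rw [Set.disjoint_left]
    rintro g ⟨n, hn, e1⟩ ⟨m, hm, e2⟩
    exact hno ⟨m⁻¹ * n, (gN D).mul_mem ((gN D).inv_mem hm) hn, by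
      rw [mul_inv_rev, inv_inv, show m⁻¹ * n * ev64 D 1 * (n⁻¹ * m) =
        m⁻¹ * (n * ev64 D 1 * n⁻¹) * m by group, e1, ← e2]
      group⟩
  rw [heq, Set.ncard_union_eq hdisj (Set.toFinite _) (Set.toFinite _)] at hTA
  obtain ⟨a, ha⟩ := orb_odd D hb.hyp (by norm_num) (by norm_num) (ty_one D)
  obtain ⟨b', hb'⟩ := orb_odd D hb.hyp (by norm_num) hx (hty1 x hx hT hno)
  omega

theorem acts_mul {g h : G} {φ ψ : ℕ → ℕ} (hg : Acts D g φ) (hh : Acts D h ψ)
    (hψ : ∀ x < 64, ψ x < 64) : Acts D (g * h) (fun x => φ (ψ x)) := fun x hx => by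
  rw [mul_inv_rev, show g * h * ev64 D x * (h⁻¹ * g⁻¹) = g * (h * ev64 D x * h⁻¹) * g⁻¹ by group,
    hh x hx, hg _ (hψ x hx)]

theorem acts_gen {g : G} {φ : ℕ → ℕ} (hφ : Pres φ)
    (h : ∀ i < 6, g * ev64 D (2 ^ i) * g⁻¹ = ev64 D (φ (2 ^ i))) : Acts D g φ := by
  refine bits_induction (P := fun x => g * ev64 D x * g⁻¹ = ev64 D (φ x)) ?_ ?_ h
  · rw [hφ.zero, ev_zero]; group
  · intro x y hx hy px py
    rw [hφ.add x y hx hy, ev_add D hx hy, ev_add D (hφ.lt x hx) (hφ.lt y hy), ← px, ← py,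
      conj_mul]

theorem appl_gen : allN 64 (fun x => Nat.beq (appl [1, 2, 4, 8, 16, 32] x) x) = true := by
  decide +kernel

theorem bit_map {φ : ℕ → ℕ} (hφ : Pres φ) (b v : ℕ) (hb : b ≤ 1) : φ (b * v) = b * φ v := by
  interval_cases b
  · simp [hφ.zero]
  · simp

theorem appl_eq {φ : ℕ → ℕ} (hφ : Pres φ) {x : ℕ} (hx : x < 64) :
    appl [φ 1, φ 2, φ 4, φ 8, φ 16, φ 32] x = φ x := by
  have e := Nat.eq_of_beq_eq_true (allN_spec appl_gen x hx)
  simp only [appl, List.getD_cons_zero, List.getD_cons_succ] at e ⊢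
  conv_rhs => rw [← e]
  have hlt : ∀ a v : ℕ, v ≤ 32 → a % 2 * v < 64 := fun a v hv => by
    have : a % 2 * v ≤ 1 * v := Nat.mul_le_mul_right _ (by omega)
    omega
  have m : ∀ a v : ℕ, φ (a % 2 * v) = a % 2 * φ v := fun a v => bit_map hφ _ _ (by omega)
  change _ = φ ((((x % 2 * 1) ^^^ (x / 2 % 2 * 2)) ^^^ ((x / 4 % 2 * 4) ^^^ (x / 8 % 2 * 8))) ^^^
    ((x / 16 % 2 * 16) ^^^ (x / 32 % 2 * 32)))
  rw [hφ.add _ _ (xor_lt_64 (xor_lt_64 (hlt _ _ (by norm_num)) (hlt _ _ (by norm_num)))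
      (xor_lt_64 (hlt _ _ (by norm_num)) (hlt _ _ (by norm_num))))
      (xor_lt_64 (hlt _ _ (by norm_num)) (hlt _ _ (by norm_num))),
    hφ.add _ _ (xor_lt_64 (hlt _ _ (by norm_num)) (hlt _ _ (by norm_num)))
      (xor_lt_64 (hlt _ _ (by norm_num)) (hlt _ _ (by norm_num))),
    hφ.add _ _ (hlt _ _ (by norm_num)) (hlt _ _ (by norm_num)),
    hφ.add _ _ (hlt _ _ (by norm_num)) (hlt _ _ (by norm_num)),
    hφ.add _ _ (hlt _ _ (by norm_num)) (hlt _ _ (by norm_num)), m, m, m, m, m, m]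
  rfl

/-- a linear map preserving the elements conjugate to `z` and fixing `z` comes from the
centraliser -/
theorem realise_fix {ψ : ℕ → ℕ} (hψ : Pres ψ) (h1 : ψ 1 = 1) :
    ∃ n : G, Acts D n ψ := by
  have t : ∀ x, x < 64 → isT x = true → isT (ψ x) = true := hψ.isT
  have txor : ∀ a b, a < 64 → b < 64 → isT (a ^^^ b) = true →
      isT (Nat.xor (ψ a) (ψ b)) = true := fun a b ha hb h => by
    show isT (ψ a ^^^ ψ b) = true
    rw [← hψ.add a b ha hb]
    exact t _ (xor_lt_64 ha hb) h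
  have t1 : ∀ a, a < 64 → isT (1 ^^^ a) = true → isT (Nat.xor 1 (ψ a)) = true := fun a ha h => by
    have := txor 1 a (by norm_num) ha h
    rwa [h1] at this
  have a1 := allN_spec stab_search (ψ 2) (hψ.lt 2 (by norm_num))
  simp only [t 2 (by norm_num) (by decide), t1 2 (by norm_num) (by decide), Bool.and_self,
    Bool.not_true, Bool.false_or] at a1
  have a2 := allN_spec a1 (ψ 4) (hψ.lt 4 (by norm_num))
  simp only [t 4 (by norm_num) (by decide), t1 4 (by norm_num) (by decide),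
    txor 2 4 (by norm_num) (by norm_num) (by decide), Bool.and_self, Bool.not_true,
    Bool.false_or] at a2
  have a3 := allN_spec a2 (ψ 8) (hψ.lt 8 (by norm_num))
  simp only [t 8 (by norm_num) (by decide), t1 8 (by norm_num) (by decide), Bool.and_self,
    Bool.not_true, Bool.false_or] at a3
  have a4 := allN_spec a3 (ψ 16) (hψ.lt 16 (by norm_num))
  simp only [t 16 (by norm_num) (by decide), txor 2 16 (by norm_num) (by norm_num) (by decide),
    txor 8 16 (by norm_num) (by norm_num) (by decide), Bool.and_self, Bool.not_true,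
    Bool.false_or] at a4
  have a5 := allN_spec a4 (ψ 32) (hψ.lt 32 (by norm_num))
  simp only [t 32 (by norm_num) (by decide), txor 4 32 (by norm_num) (by norm_num) (by decide),
    txor 8 32 (by norm_num) (by norm_num) (by decide),
    txor 16 32 (by norm_num) (by norm_num) (by decide), Bool.and_self, Bool.not_true,
    Bool.false_or] at a5
  have hall : allN 64 (fun x => Nat.beq x 0 ||
      (!(Nat.beq (appl [1, ψ 2, ψ 4, ψ 8, ψ 16, ψ 32] x) 0) &&
        (!(isT x) || isT (appl [1, ψ 2, ψ 4, ψ 8, ψ 16, ψ 32] x)))) = true := by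
    refine allN_intro fun x hx => ?_
    have e := appl_eq hψ hx
    rw [h1] at e
    rw [e]
    rcases eq_or_ne x 0 with rfl | h0
    · rfl
    rw [beqF h0, beqF fun he => h0 (hψ.inj x hx he)]
    cases hT : isT x
    · rfl
    · simp [t x hx hT]
  simp only [hall, Bool.not_true, Bool.false_or, List.any_eq_true] at a5
  obtain ⟨w, hw, himg⟩ := a5
  have hwit := List.all_eq_true.1 stab_witness w hw
  simp only [Bool.and_eq_true] at hwit
  refine ⟨D.val w.2, acts_gen D hψ fun i hi => ?_⟩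
  have h := allN_spec hwit.2 i hi
  simp only [Bool.and_eq_true] at h
  have e := Nat.eq_of_beq_eq_true h.1
  have e' := Nat.eq_of_beq_eq_true (allN_spec himg i hi)
  rw [e', show Nat.shiftLeft 1 i = 2 ^ i from Nat.one_shiftLeft i] at e
  have hpow : 2 ^ i < 64 := lt_of_lt_of_le (Nat.pow_lt_pow_right (by norm_num) hi)
    (show (2 : ℕ) ^ 6 ≤ 64 by norm_num)
  have hg : [1, ψ 2, ψ 4, ψ 8, ψ 16, ψ 32].getD i 0 = ψ (2 ^ i) := by
    interval_cases i <;> simp [h1]
  rw [hg] at e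
  rw [ev64, ← D.val_cj (Nat.le_of_ble_eq_true hwit.1.1) (an_lt hpow), e]
  rfl

/-- every linear map preserving the elements conjugate to `z` is induced -/
theorem realise (hb : Basic D) (h190 : ¬ IsConj (D.val 190) z) {φ : ℕ → ℕ} (hφ : Pres φ) :
    ∃ n : G, Acts D n φ := by
  obtain ⟨n, hn, he⟩ := transitive D hb h190 (hφ.lt 1 (by norm_num))
    (hφ.isT 1 (by norm_num) (by decide))
  have hex : ∀ x, x < 64 → ∃ y < 64, ev64 D y = n⁻¹ * ev64 D (φ x) * n⁻¹⁻¹ := fun x hx =>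
    ((gN D).inv_mem hn _).1 (ev_mem D (hφ.lt x hx))
  choose ψ hψlt hψ using hex
  let ψ' : ℕ → ℕ := fun x => if hx : x < 64 then ψ x hx else 0
  have hlt : ∀ x < 64, ψ' x < 64 := fun x hx => by simp only [ψ', dif_pos hx]; exact hψlt x hx
  have hev : ∀ x < 64, ev64 D (ψ' x) = n⁻¹ * ev64 D (φ x) * n := fun x hx => by
    simp only [ψ', dif_pos hx]
    rw [hψ x hx, inv_inv]
  have hP : Pres ψ' := by
    refine ⟨hlt, fun x y hx hy => ?_, fun x hx h0 => ?_, fun x hx hT => ?_⟩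
    · refine ev_inj D (hlt _ (xor_lt_64 hx hy)) (xor_lt_64 (hlt x hx) (hlt y hy)) ?_
      rw [hev _ (xor_lt_64 hx hy), ev_add D (hlt x hx) (hlt y hy), hev x hx, hev y hy,
        hφ.add x y hx hy, ev_add D (hφ.lt x hx) (hφ.lt y hy)]
      group
    · have h := hev x hx
      rw [h0, ev_zero] at h
      refine hφ.inj x hx (ev_inj D (hφ.lt x hx) (by norm_num) ?_)
      rw [ev_zero]
      have h' : n * (n⁻¹ * ev64 D (φ x) * n) * n⁻¹ = 1 := by rw [← h]; group
      rwa [show n * (n⁻¹ * ev64 D (φ x) * n) * n⁻¹ = ev64 D (φ x) by group] at h'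
    · rw [← isT_iff D hb h190 (hlt x hx), hev x hx]
      refine IsConj.trans (isConj_iff.2 ⟨n, ?_⟩)
        ((isT_iff D hb h190 (hφ.lt x hx)).2 (hφ.isT x hx hT))
      group
  have h1 : ψ' 1 = 1 := ev_inj D (hlt 1 (by norm_num)) (by norm_num) (by
    rw [hev 1 (by norm_num), ← he]
    group)
  obtain ⟨m, hm⟩ := realise_fix D hP h1
  refine ⟨n * m, fun x hx => ?_⟩
  rw [mul_inv_rev, show n * m * ev64 D x * (m⁻¹ * n⁻¹) = n * (m * ev64 D x * m⁻¹) * n⁻¹ by group,
    hm x hx, hev x hx]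
  group

end CfsgLib.Spor.HeRecog.Six64
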