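import Cfsg.Agent.Lib.Spor.HeRecog.SixTables

/-!
# The elementary abelian subgroups of order 64 containing `z` in the centraliser

For the model 0 each of them is conjugate, inside the centraliser, to `A` or to its mirror.
-/

set_option autoImplicit false
set_option maxRecDepth 100000
set_option maxHeartbeats 1000000
set_option linter.unusedSectionVars false

namespace CfsgLib.Spor.HeRecog.Six64

universe u

theorem beqT {a b : Nat} (h : a = b) : Nat.beq a b = true := by subst h; exact Nat.beq_refl a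

theorem beqF {a b : Nat} (h : a ≠ b) : Nat.beq a b = false := by
  cases e : Nat.beq a b
  · rfl
  · exact absurd (Nat.eq_of_beq_eq_true e) h

theorem memB_iff {l : List Nat} {m : Nat} : memB l m = true ↔ m ∈ l := by
  simp only [memB, List.any_eq_true]
  exact ⟨fun ⟨x, hx, e⟩ => Nat.eq_of_beq_eq_true e ▸ hx, fun h => ⟨m, h, beqT rfl⟩⟩

theorem mulN_div (m n : Nat) : mulN 0 m n / 168 =
    qMul (m / 168) (qAct 0 (m % 168) (n / 168)) := by
  have h := pMul_lt (m % 168) (n % 168)
  have hc : coc 0 (m % 168) (n % 168) = 0 := by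
    show (0 % 2) * _ = 0
    rw [Nat.zero_mod, Nat.zero_mul]
  show (Nat.xor (qMul (m / 168) (qAct 0 (m % 168) (n / 168)))
    (Nat.shiftLeft (coc 0 (m % 168) (n % 168)) 6) * 168 + pMul (m % 168) (n % 168)) / 168 = _
  have e : ∀ a, Nat.xor a (Nat.shiftLeft (coc 0 (m % 168) (n % 168)) 6) = a := fun a => by
    rw [hc]
    show a ^^^ (0 <<< 6) = a
    simp
  rw [e]
  omega

theorem mulN_mod (k m n : Nat) : mulN k m n % 168 = pMul (m % 168) (n % 168) := by
  have h := pMul_lt (m % 168) (n % 168)
  show (_ * 168 + pMul (m % 168) (n % 168)) % 168 = _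
  omega

theorem qMul_mod64 (a b : Nat) : qMul a b % 64 = (a % 64) ^^^ (b % 64) := by
  show (Nat.xor (Nat.xor a b) (Nat.shiftLeft (qSign a b) 6)) % 2 ^ 6 = _
  show ((a ^^^ b) ^^^ (qSign a b <<< 6)) % 2 ^ 6 = _
  rw [Nat.xor_mod_two_pow, Nat.xor_mod_two_pow]
  have : (qSign a b <<< 6) % 2 ^ 6 = 0 := by rw [Nat.shiftLeft_eq, Nat.mul_mod_left]
  rw [this]
  simp

theorem xor_cancel {q t a : Nat} (h : q ^^^ t = a ^^^ q) : t = a :=
  Nat.xor_right_inj.1 (h.trans (Nat.xor_comm a q))

theorem qAct_zero : allN 128 (fun a => Nat.beq (qAct 0 0 a) a) = true := by decide +kernel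

theorem qz_check' : allN 64 (fun e => Nat.beq (qMul (Nat.add e 64) 64) e) = true := by
  decide +kernel

theorem qz_check (e : Nat) (he : e < 64) : qN (qMul (e + 64) 64) = qN e :=
  congrArg qN (Nat.eq_of_beq_eq_true (allN_spec qz_check' e he))

theorem base_lt (b : Nat) : ∀ a ∈ baseL b, a < 21504 := by
  intro a ha
  obtain ⟨-, -, -, -, -, -, -, h1, h2⟩ := an_facts
  cases hb : Nat.beq b 0 <;> simp only [baseL, hb, cond_true, cond_false] at ha
  · exact Nat.le_of_ble_eq_true (List.all_eq_true.1 h1 a ha)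
  · exact Nat.le_of_ble_eq_true (List.all_eq_true.1 h2 a ha)

theorem base_length (b : Nat) : (baseL b).length = 64 := by
  obtain ⟨-, h1, -, h2, -⟩ := an_facts
  cases hb : Nat.beq b 0 <;> simp [baseL, hb, h1, h2]

theorem fixB_of_comm {m a : Nat} (hm : m < 21504) (ha : a < 64)
    (h : mulN 0 m (qN a) = mulN 0 (qN a) m) : fixB (m % 168) a = true := by
  have e := congrArg (fun x => x / 168 % 64) h
  simp only [mulN_div, qMul_mod64] at e
  have e1 : qN a / 168 = a := by show 168 * a / 168 = a; omega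
  have e2 : qN a % 168 = 0 := by show 168 * a % 168 = 0; omega
  rw [e1, e2, Nat.eq_of_beq_eq_true (allN_spec qAct_zero (m / 168) (by omega)),
    Nat.mod_eq_of_lt ha] at e
  exact beqT (xor_cancel e)

variable {G : Type u} [Group G] [Finite G] {z : G} (D : Cen 0 z)

/-- the image of a list of numbers -/
def setOf (l : List Nat) : Set G := {g | ∃ m ∈ l, D.val m = g}

include D

theorem exists_index {B : Subgroup G} (hcard : Nat.card B = 64)
    (hle : ∀ g ∈ B, g * z = z * g) (hcomm : ∀ g ∈ B, ∀ h ∈ B, g * h = h * g)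
    (hsq : ∀ g ∈ B, g * g = 1) (hz : z ∈ B) :
    ∃ i < 30, ∀ g ∈ B, ∃ m ∈ centL.getD i [], D.val m = g := by
  classical
  let S := (Finset.range 21504).filter fun m => D.val m ∈ B
  have hS : ∀ m, m ∈ S ↔ m < 21504 ∧ D.val m ∈ B := fun m => by simp [S]
  have hScard : S.card = 64 := by
    have hinj : Set.InjOn D.val (S : Set ℕ) := fun a ha b hb h =>
      D.val_inj a b ((hS a).1 ha).1 ((hS b).1 hb).1 h
    rw [← Finset.card_image_of_injOn hinj, ← hcard, ← SetLike.coe_sort_coe,
      Nat.card_coe_set_eq, ← Set.ncard_coe_finset]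
    congr 1
    ext g
    simp only [Finset.coe_image, Set.mem_image, SetLike.mem_coe, hS]
    refine ⟨fun ⟨m, hm, e⟩ => e ▸ hm.2, fun hg => ?_⟩
    obtain ⟨m, hm, rfl⟩ := D.val_surj g (hle g hg)
    exact ⟨m, ⟨hm, hg⟩, rfl⟩
  have hmul : ∀ a ∈ S, ∀ b ∈ S, mulN 0 a b ∈ S := fun a ha b hb =>
    (hS _).2 ⟨mulN_lt ((hS a).1 ha).1 _ _, by
      rw [D.val_mul a b ((hS a).1 ha).1 ((hS b).1 hb).1]
      exact B.mul_mem ((hS a).1 ha).2 ((hS b).1 hb).2⟩
  have hsq' : ∀ a ∈ S, mulN 0 a a = 0 := fun a ha =>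
    D.val_sq ((hS a).1 ha).1 (hsq _ ((hS a).1 ha).2)
  have hcm : ∀ a ∈ S, ∀ b ∈ S, mulN 0 a b = mulN 0 b a := fun a ha b hb =>
    D.mul_val_eq ((hS a).1 ha).1 ((hS b).1 hb).1
      (hcomm _ ((hS a).1 ha).2 _ ((hS b).1 hb).2)
  -- the image in the quotient has at most four elements
  let J := S.image (· % 168)
  have hJ : ∀ j ∈ J, j < 168 ∧ pMul j j = 0 ∧ ∀ l ∈ J, pMul j l = pMul l j := by
    intro j hj
    obtain ⟨a, ha, rfl⟩ := Finset.mem_image.1 hj
    refine ⟨Nat.mod_lt _ (by norm_num), ?_, fun l hl => ?_⟩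
    · have := congrArg (· % 168) (hsq' a ha)
      simpa only [mulN_mod] using this
    · obtain ⟨b, hb, rfl⟩ := Finset.mem_image.1 hl
      have := congrArg (· % 168) (hcm a ha b hb)
      simpa only [mulN_mod] using this
  have hJ4 : J.card ≤ 4 := by
    by_contra hlt
    have hlt' : 4 < J.card := by omega
    obtain ⟨a, ha, ha0⟩ := Finset.exists_mem_notMem_of_card_lt_card
      (show ({0} : Finset ℕ).card < J.card by rw [Finset.card_singleton]; omega)
    obtain ⟨b, hb, hb0⟩ := Finset.exists_mem_notMem_of_card_lt_card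
      (show ({0, a} : Finset ℕ).card < J.card from lt_of_le_of_lt Finset.card_le_two (by omega))
    obtain ⟨c, hc, hc0⟩ := Finset.exists_mem_notMem_of_card_lt_card
      (show ({0, a, b, pMul a b} : Finset ℕ).card < J.card from
        lt_of_le_of_lt Finset.card_le_four hlt')
    simp only [Finset.mem_singleton, Finset.mem_insert, not_or] at ha0 hb0 hc0
    obtain ⟨la, sa, ca⟩ := hJ a ha
    obtain ⟨lb, sb, cb⟩ := hJ b hb
    obtain ⟨lc, sc, -⟩ := hJ c hc
    have h1 := allN_spec quot_four a la
    simp only [beqT sa, beqF ha0, Bool.not_false, Bool.and_self, Bool.not_true,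
      Bool.false_or] at h1
    have h2 := allN_spec h1 b lb
    simp only [beqT sb, beqT (ca b hb), beqF hb0.1, beqF hb0.2, Bool.not_false, Bool.and_self,
      Bool.not_true, Bool.false_or] at h2
    have h3 := allN_spec h2 c lc
    simp [beqT sc, beqT (ca c hc), beqT (cb c hc), beqF hc0.1, beqF hc0.2.1, beqF hc0.2.2.1,
      beqF hc0.2.2.2] at h3
  let K := S.filter fun m => m % 168 = 0
  have hK : 16 ≤ K.card := by
    have hfib : ∀ j ∈ J, (S.filter fun m => m % 168 = j).card ≤ K.card := by
      intro j hj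
      obtain ⟨a, ha, rfl⟩ := Finset.mem_image.1 hj
      refine Finset.card_le_card_of_injOn (fun m => mulN 0 a m) (fun m hm => ?_) ?_
      · obtain ⟨hm1, hm2⟩ := Finset.mem_filter.1 hm
        refine Finset.mem_filter.2 ⟨hmul a ha m hm1, ?_⟩
        rw [mulN_mod, hm2]
        exact (hJ (a % 168) (Finset.mem_image_of_mem _ ha)).2.1
      · intro x hx y hy h
        obtain ⟨lx, -⟩ := (hS x).1 (Finset.mem_filter.1 hx).1
        obtain ⟨ly, -⟩ := (hS y).1 (Finset.mem_filter.1 hy).1
        have la := ((hS a).1 ha).1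
        have e := congrArg D.val h
        simp only [D.val_mul a x la lx, D.val_mul a y la ly] at e
        exact D.val_inj x y lx ly (mul_left_cancel e)
    have h := Finset.card_le_mul_card_image (f := (· % 168)) S K.card hfib
    have h' : K.card * J.card ≤ K.card * 4 := Nat.mul_le_mul_left _ hJ4
    change S.card ≤ K.card * J.card at h
    omega
  -- the part inside the extraspecial group
  let V := K.image fun m => m / 168 % 64
  have hKq : ∀ m ∈ K, m = qN (m / 168) ∧ m / 168 < 128 ∧ m ∈ S := by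
    intro m hm
    obtain ⟨h1, h2⟩ := Finset.mem_filter.1 hm
    have := ((hS m).1 h1).1
    exact ⟨by show m = 168 * (m / 168); omega, by omega, h1⟩
  have hV8 : 8 ≤ V.card := by
    have hle2 : ∀ v ∈ V, (K.filter fun m => m / 168 % 64 = v).card ≤ 2 := by
      intro v _
      refine (Finset.card_le_card (t := {qN v, qN (v + 64)}) ?_).trans Finset.card_le_two
      intro m hm
      obtain ⟨hm1, hm2⟩ := Finset.mem_filter.1 hm
      obtain ⟨e, l, -⟩ := hKq m hm1
      have : m / 168 = v ∨ m / 168 = v + 64 := by omega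
      simp only [Finset.mem_insert, Finset.mem_singleton]
      rcases this with h | h
      · exact Or.inl (by rw [← h]; exact e)
      · exact Or.inr (by rw [← h]; exact e)
    have h := Finset.card_le_mul_card_image (f := fun m => m / 168 % 64) K 2 hle2
    change K.card ≤ 2 * V.card at h
    omega
  have hV : ∀ v ∈ V, v < 64 ∧ iso v = true ∧ ∀ w ∈ V, commQ v w = true := by
    intro v hv
    obtain ⟨m, hm, rfl⟩ := Finset.mem_image.1 hv
    obtain ⟨e, l, hmS⟩ := hKq m hm
    refine ⟨Nat.mod_lt _ (by norm_num), ?_, fun w hw => ?_⟩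
    · have h := allN_spec (allN_spec qpart_check _ l) _ l
      simp only [Bool.and_eq_true, Bool.or_eq_true, Bool.not_eq_true'] at h
      refine h.2.resolve_left fun hf => ?_
      rw [← e, beqT (hsq' m hmS)] at hf
      cases hf
    · obtain ⟨n, hn, rfl⟩ := Finset.mem_image.1 hw
      obtain ⟨e', l', hnS⟩ := hKq n hn
      have h := allN_spec (allN_spec qpart_check _ l) _ l'
      simp only [Bool.and_eq_true, Bool.or_eq_true, Bool.not_eq_true'] at h
      refine h.1.2.resolve_left fun hf => ?_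
      rw [← e, ← e', beqT (hcm m hmS n hnS)] at hf
      cases hf
  obtain ⟨a, ha, ha0⟩ := Finset.exists_mem_notMem_of_card_lt_card
    (show ({0} : Finset ℕ).card < V.card by rw [Finset.card_singleton]; omega)
  obtain ⟨b, hb, hb0⟩ := Finset.exists_mem_notMem_of_card_lt_card
    (show ({0, a} : Finset ℕ).card < V.card from lt_of_le_of_lt Finset.card_le_two (by omega))
  obtain ⟨c, hc, hc0⟩ := Finset.exists_mem_notMem_of_card_lt_card
    (show ({0, a, b, Nat.xor a b} : Finset ℕ).card < V.card from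
      lt_of_le_of_lt Finset.card_le_four (by omega))
  simp only [Finset.mem_singleton, Finset.mem_insert, not_or] at ha0 hb0 hc0
  obtain ⟨la, ia, ca⟩ := hV a ha
  obtain ⟨lb, ib, cb⟩ := hV b hb
  obtain ⟨lc, ic, -⟩ := hV c hc
  have h1 := allN_spec cover_check a la
  simp only [ia, beqF ha0, Bool.not_false, Bool.and_self, Bool.not_true, Bool.false_or] at h1
  have h2 := allN_spec h1 b lb
  simp only [ib, ca b hb, beqF hb0.1, beqF hb0.2, Bool.not_false, Bool.and_self, Bool.not_true,
    Bool.false_or] at h2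
  have h3 := allN_spec h2 c lc
  simp only [ic, ca c hc, cb c hc, beqF hc0.1, beqF hc0.2.1, beqF hc0.2.2.1, beqF hc0.2.2.2,
    Bool.not_false, Bool.and_self, Bool.not_true, Bool.false_or, coverB, List.any_eq_true,
    Bool.and_eq_true] at h3
  obtain ⟨p, hp, ⟨⟨-, -⟩, -⟩, hall⟩ := h3
  obtain ⟨i, hi, hip⟩ := List.getElem_of_mem hp
  have hlen : singL.length = 30 := by decide +kernel
  have hi' : i < 30 := by omega
  have hget : singL.getD i (0, 0, 0, 0) = p := by
    rw [List.getD_eq_getElem _ _ hi, hip]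
  obtain ⟨l1, l2, l3, t1, t2, t3, h8, -⟩ := sing_check i (List.mem_range.2 hi')
  rw [hget] at l1 l2 l3 t1 t2 t3 h8
  have hVE : V = ((List.range 64).filter (Nat.testBit p.2.2.2)).toFinset := by
    refine Finset.eq_of_subset_of_card_le (fun v hv => ?_) ?_
    · have h := allN_spec hall v (hV v hv).1
      simp only [(hV v hv).2.1, (hV v hv).2.2 a ha, (hV v hv).2.2 b hb, (hV v hv).2.2 c hc,
        Bool.and_self, Bool.not_true, Bool.false_or] at h
      simp [List.mem_toFinset, List.mem_filter, (hV v hv).1, h]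
    · exact (List.toFinset_card_le _).trans (h8 ▸ hV8)
  have hlift : ∀ e, e < 64 → Nat.testBit p.2.2.2 e = true → qN e ∈ S := by
    intro e he ht
    have : e ∈ V := by rw [hVE]; simp [List.mem_toFinset, List.mem_filter, he, ht]
    obtain ⟨m, hm, hme⟩ := Finset.mem_image.1 this
    obtain ⟨em, lm, hmS⟩ := hKq m hm
    have hzS : zN ∈ S := (hS _).2 ⟨by decide, by rw [D.val_z]; exact hz⟩
    rcases (show m / 168 = e ∨ m / 168 = e + 64 by omega) with h | h
    · rw [← h, ← em]; exact hmS
    · have hz' : mulN 0 (qN (e + 64)) zN = qN e := by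
        have h := allN_spec (allN_spec qpart_check (e + 64) (by omega)) 64 (by norm_num)
        simp only [Bool.and_eq_true] at h
        have h' := Nat.eq_of_beq_eq_true h.1.1.1
        rw [show zN = qN 64 from rfl, h', qz_check e he]
      rw [← hz', ← h, ← em]
      exact hmul m hmS zN hzS
  refine ⟨i, hi', fun g hg => ?_⟩
  obtain ⟨m, hm, rfl⟩ := D.val_surj g (hle g hg)
  have hmS : m ∈ S := (hS m).2 ⟨hm, hg⟩
  have q1 := hlift _ l1 t1
  have q2 := hlift _ l2 t2
  have q3 := hlift _ l3 t3
  have h := allN_spec cent_check i hi'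
  simp only [hget] at h
  have hj := allN_spec h (m % 168) (Nat.mod_lt _ (by norm_num))
  simp only [fixB_of_comm hm l1 (hcm m hmS _ q1), fixB_of_comm hm l2 (hcm m hmS _ q2),
    fixB_of_comm hm l3 (hcm m hmS _ q3), Bool.and_self, Bool.not_true, Bool.false_or] at hj
  have hq := allN_spec hj (m / 168) (by omega)
  have hm' : Nat.add (Nat.mul 168 (m / 168)) (m % 168) = m := Nat.div_add_mod m 168
  simp only [hm', beqT (hsq' m hmS), beqT (hcm m hmS _ q1), beqT (hcm m hmS _ q2),
    beqT (hcm m hmS _ q3), Bool.and_self, Bool.not_true, Bool.false_or] at hq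
  exact ⟨m, memB_iff.1 hq, rfl⟩

/-- An elementary abelian subgroup of order 64 of the centraliser containing `z` is conjugate
there to `A` or to its mirror. -/
theorem classify {B : Subgroup G} (hcard : Nat.card B = 64)
    (hle : ∀ g ∈ B, g * z = z * g) (hcomm : ∀ g ∈ B, ∀ h ∈ B, g * h = h * g)
    (hsq : ∀ g ∈ B, g * g = 1) (hz : z ∈ B) :
    ∃ b < 2, ∃ n < 21504, ∀ g, g ∈ B ↔
      (D.val n)⁻¹ * g * D.val n ∈ setOf D (baseL b) := by
  classical
  obtain ⟨i, hi, hBi⟩ := exists_index D hcard hle hcomm hsq hz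
  have hBle : Nat.card B ≤ (centL.getD i []).length := by
    refine le_trans ?_ (List.toFinset_card_le (centL.getD i []))
    refine le_trans ?_ Finset.card_image_le (b := ((centL.getD i []).toFinset.image D.val).card)
    rw [← Set.ncard_coe_finset, ← SetLike.coe_sort_coe, Nat.card_coe_set_eq]
    refine Set.ncard_le_ncard (fun g hg => ?_) (Finset.finite_toSet _)
    obtain ⟨m, hm, rfl⟩ := hBi g hg
    exact Finset.mem_coe.2 (Finset.mem_image_of_mem _ (List.mem_toFinset.2 hm))
  have h := allN_spec kind_check i hi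
  cases hk : Nat.beq (kindL.getD i (3, 0)).1 2 with
  | true =>
    simp only [hk, cond_true] at h
    have h' := Nat.le_of_ble_eq_true h
    omega
  | false =>
    simp only [hk, cond_false, Bool.and_eq_true, List.all_eq_true] at h
    obtain ⟨⟨⟨hb, hn⟩, -⟩, hsub⟩ := h
    have hb' : (kindL.getD i (3, 0)).1 < 2 := Nat.le_of_ble_eq_true hb
    have hn' : (kindL.getD i (3, 0)).2 < 21504 := Nat.le_of_ble_eq_true hn
    refine ⟨_, hb', _, hn', ?_⟩
    set b := (kindL.getD i (3, 0)).1
    set n := (kindL.getD i (3, 0)).2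
    have hlt : ∀ a ∈ baseL b, a < 21504 := base_lt b
    have hfwd : ∀ g ∈ B, (D.val n)⁻¹ * g * D.val n ∈ setOf D (baseL b) := by
      intro g hg
      obtain ⟨m, hm, rfl⟩ := hBi g hg
      obtain ⟨a, ha, hma⟩ := List.mem_map.1 (memB_iff.1 (hsub m hm))
      refine ⟨a, ha, ?_⟩
      rw [← hma, D.val_cj hn' (hlt a ha)]
      group
    intro g
    refine ⟨hfwd g, fun hg => ?_⟩
    have hset : (fun g => (D.val n)⁻¹ * g * D.val n) '' (B : Set G) = setOf D (baseL b) := by
      refine Set.eq_of_subset_of_ncard_le (Set.image_subset_iff.2 hfwd) ?_ (Set.toFinite _)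
      rw [Set.ncard_image_of_injective _ (fun x y e => mul_left_cancel (mul_right_cancel e)),
        ← Nat.card_coe_set_eq (B : Set G), SetLike.coe_sort_coe, hcard]
      refine le_trans ?_ (le_of_eq (base_length b))
      rw [show setOf D (baseL b) = D.val '' ↑(baseL b).toFinset from Set.ext fun x => by
        simp [setOf]]
      exact (Set.ncard_image_le (Finset.finite_toSet _)).trans
        (by rw [Set.ncard_coe_finset]; exact List.toFinset_card_le _)
    rw [← hset] at hg
    obtain ⟨g', hg', e⟩ := hg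
    exact mul_left_cancel (mul_right_cancel e) ▸ hg'

end CfsgLib.Spor.HeRecog.Six64
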