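import Cfsg.Agent.Lib.Spor.HeRecog.Setup
import Cfsg.Agent.Lib.Spor.HeRecog.SixData

/-!
# Finite checks on the elementary abelian subgroups of order 64 of the model 0
-/

set_option autoImplicit false
set_option maxRecDepth 100000
set_option maxHeartbeats 1000000

namespace CfsgLib.Spor.HeRecog.Six64

/-- an entry of `A` -/
def an (x : Nat) : Nat := anL.getD x 0

/-- the elements of `A` (`b = 0`) or of its mirror -/
def baseL (b : Nat) : List Nat := bif Nat.beq b 0 then anL else apL

/-- membership in a list of numbers -/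
def memB (l : List Nat) (m : Nat) : Bool := l.any (Nat.beq m)

/-- the indices of the elements of `A` conjugate to `z` -/
def isT (x : Nat) : Bool :=
  !(Nat.beq x 0) &&
    (Nat.beq (Nat.mod x 8) 0 || Nat.beq (Nat.div x 8) 0 || Nat.beq (Nat.mod x 8) (Nat.div x 8))

/-- the classes that are conjugate to `z` -/
def tClasses : List Nat := [21, 168, 1344, 10752]

/-- the classes that are not conjugate to `z` -/
def uClasses : List Nat := [190, 1680, 1777]

/-- the two elements of the extraspecial group commute, up to the top bit -/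
def commQ (a b : Nat) : Bool := Nat.beq (qSign a b) (qSign b a)

/-- isotropic index -/
def iso (v : Nat) : Bool := Nat.beq (qSign v v) 0

/-- singular triples lie in one of the tabulated subgroups, which is then maximal -/
def coverB (a b c : Nat) : Bool :=
  singL.any fun p =>
    Nat.testBit p.2.2.2 a && Nat.testBit p.2.2.2 b && Nat.testBit p.2.2.2 c &&
      allN 64 fun v =>
        !(iso v && commQ v a && commQ v b && commQ v c) || Nat.testBit p.2.2.2 v

/-- the quotient part `j` fixes the index `a` -/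
def fixB (j a : Nat) : Bool := Nat.beq (Nat.mod (qAct 0 j a) 64) a

/-- the elements are permuted by a conjugation -/
def normB (n : Nat) (l : List Nat) : Bool := l.all fun a => memB l (cjN 0 n a)

/-- a linear map given by the images of the unit vectors -/
def appl (k : List Nat) (x : Nat) : Nat :=
  Nat.xor (Nat.xor (Nat.xor (Nat.mul (Nat.mod x 2) (k.getD 0 0))
    (Nat.mul (Nat.mod (Nat.div x 2) 2) (k.getD 1 0)))
    (Nat.xor (Nat.mul (Nat.mod (Nat.div x 4) 2) (k.getD 2 0))
    (Nat.mul (Nat.mod (Nat.div x 8) 2) (k.getD 3 0))))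
    (Nat.xor (Nat.mul (Nat.mod (Nat.div x 16) 2) (k.getD 4 0))
    (Nat.mul (Nat.mod (Nat.div x 32) 2) (k.getD 5 0)))

theorem quot_four : allN 168 (fun a =>
    !(Nat.beq (pMul a a) 0 && !(Nat.beq a 0)) || allN 168 fun b =>
      !(Nat.beq (pMul b b) 0 && Nat.beq (pMul a b) (pMul b a) && !(Nat.beq b 0) &&
        !(Nat.beq b a)) || allN 168 fun c =>
        !(Nat.beq (pMul c c) 0 && Nat.beq (pMul a c) (pMul c a) &&
          Nat.beq (pMul b c) (pMul c b)) ||
          (Nat.beq c 0 || Nat.beq c a || Nat.beq c b || Nat.beq c (pMul a b))) = true := by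
  decide +kernel

theorem qpart_check : allN 128 (fun a => allN 128 fun b =>
    Nat.beq (mulN 0 (qN a) (qN b)) (qN (qMul a b)) &&
      Nat.beq (Nat.mod (qMul a b) 64) (Nat.xor (Nat.mod a 64) (Nat.mod b 64)) &&
      (!(Nat.beq (mulN 0 (qN a) (qN b)) (mulN 0 (qN b) (qN a))) ||
        commQ (Nat.mod a 64) (Nat.mod b 64)) &&
      (!(Nat.beq (mulN 0 (qN a) (qN a)) 0) || iso (Nat.mod a 64))) = true := by
  decide +kernel

theorem cover_check : allN 64 (fun a =>
    !(iso a && !(Nat.beq a 0)) || allN 64 fun b =>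
      !(iso b && commQ a b && !(Nat.beq b 0) && !(Nat.beq b a)) || allN 64 fun c =>
        !(iso c && commQ a c && commQ b c && !(Nat.beq c 0) && !(Nat.beq c a) &&
          !(Nat.beq c b) && !(Nat.beq c (Nat.xor a b))) || coverB a b c) = true := by
  decide +kernel

theorem sing_check : ∀ i ∈ List.range 30,
    (singL.getD i (0, 0, 0, 0)).1 < 64 ∧ (singL.getD i (0, 0, 0, 0)).2.1 < 64 ∧
      (singL.getD i (0, 0, 0, 0)).2.2.1 < 64 ∧
      Nat.testBit (singL.getD i (0, 0, 0, 0)).2.2.2 (singL.getD i (0, 0, 0, 0)).1 = true ∧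
      Nat.testBit (singL.getD i (0, 0, 0, 0)).2.2.2 (singL.getD i (0, 0, 0, 0)).2.1 = true ∧
      Nat.testBit (singL.getD i (0, 0, 0, 0)).2.2.2 (singL.getD i (0, 0, 0, 0)).2.2.1 = true ∧
      ((List.range 64).filter (Nat.testBit (singL.getD i (0, 0, 0, 0)).2.2.2)).length = 8 ∧
      singL.length = 30 := by
  decide +kernel

theorem cent_check : allN 30 (fun i =>
    let p := singL.getD i (0, 0, 0, 0)
    allN 168 fun j => !(fixB j p.1 && fixB j p.2.1 && fixB j p.2.2.1) || allN 128 fun q =>
      let m := Nat.add (Nat.mul 168 q) j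
      !(Nat.beq (mulN 0 m m) 0 && Nat.beq (mulN 0 m (qN p.1)) (mulN 0 (qN p.1) m) &&
          Nat.beq (mulN 0 m (qN p.2.1)) (mulN 0 (qN p.2.1) m) &&
          Nat.beq (mulN 0 m (qN p.2.2.1)) (mulN 0 (qN p.2.2.1) m)) ||
        memB (centL.getD i []) m) = true := by
  decide +kernel

theorem kind_check : allN 30 (fun i =>
    let w := kindL.getD i (3, 0)
    bif Nat.beq w.1 2 then Nat.ble (centL.getD i []).length 63
    else Nat.blt w.1 2 && Nat.blt w.2 21504 && Nat.beq (centL.getD i []).length 64 &&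
      (centL.getD i []).all fun m => memB ((baseL w.1).map (cjN 0 w.2)) m) = true := by
  decide +kernel

theorem an_check : allN 64 (fun x =>
    Nat.blt (an x) 21504 && Nat.beq (mulN 0 (an x) (an x)) 0 &&
    (Nat.beq x 0 || bif isT x then tClasses.any (fun a => memB (clsOf 0 a) (an x))
      else uClasses.any (fun a => memB (clsOf 0 a) (an x))) &&
    allN 64 fun y => Nat.beq (an (Nat.xor x y)) (mulN 0 (an x) (an y))) = true := by
  decide +kernel

theorem an_facts : anL.Nodup ∧ anL.length = 64 ∧ apL.Nodup ∧ apL.length = 64 ∧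
    an 0 = 0 ∧ an 1 = zN ∧ an 8 = 9408 ∧ apL.all (fun m => Nat.blt m 21504) = true ∧
    anL.all (fun m => Nat.blt m 21504) = true := by
  decide +kernel

theorem self_centralizing : allEls (fun m =>
    !(Nat.beq (mulN 0 m (an 2)) (mulN 0 (an 2) m) && Nat.beq (mulN 0 m (an 4)) (mulN 0 (an 4) m) &&
      Nat.beq (mulN 0 m (an 8)) (mulN 0 (an 8) m) &&
      Nat.beq (mulN 0 m (an 16)) (mulN 0 (an 16) m) &&
      Nat.beq (mulN 0 m (an 32)) (mulN 0 (an 32) m)) || memB anL m) = true := by
  decide +kernel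

theorem norm_facts : ∀ b ∈ List.range 2,
    (normL.getD b []).Nodup ∧ (normL.getD b []).length = 8 ∧
      (∀ j ∈ normL.getD b [], j < 168 ∧ normB j (baseL b) = true ∧
        ∀ l ∈ normL.getD b [], pMul j l ∈ normL.getD b []) := by
  decide +kernel

theorem norm_qpart : allN 2 (fun b => allN 128 fun q => normB (qN q) (baseL b)) = true := by
  decide +kernel

theorem stab_witness : (stabL.all fun w => Nat.blt w.2 21504 && Nat.beq w.1.length 6 &&
    allN 6 fun i => Nat.beq (cjN 0 w.2 (an (Nat.shiftLeft 1 i))) (an (w.1.getD i 0)) &&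
      Nat.blt (w.1.getD i 0) 64) = true := by
  decide +kernel

theorem stab_search : allN 64 (fun a =>
    !(isT a && isT (Nat.xor 1 a)) || allN 64 fun b =>
    !(isT b && isT (Nat.xor 1 b) && isT (Nat.xor a b)) || allN 64 fun c =>
    !(isT c && isT (Nat.xor 1 c)) || allN 64 fun d =>
    !(isT d && isT (Nat.xor a d) && isT (Nat.xor c d)) || allN 64 fun e =>
    !(isT e && isT (Nat.xor b e) && isT (Nat.xor c e) && isT (Nat.xor d e)) ||
      !(allN 64 fun x => Nat.beq x 0 || (!(Nat.beq (appl [1, a, b, c, d, e] x) 0) &&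
          (!(isT x) || isT (appl [1, a, b, c, d, e] x)))) ||
      stabL.any fun w => allN 6 fun i =>
        Nat.beq (w.1.getD i 0) ([1, a, b, c, d, e].getD i 0)) = true := by
  decide +kernel

theorem inv_six : allEls (fun m =>
    !(Nat.beq (mulN 0 m m) 0 && Nat.beq (cjN 0 m (an 1)) (an 1) &&
      Nat.beq (cjN 0 m (an 2)) (an 2) && Nat.beq (cjN 0 m (an 4)) (an 4) &&
      Nat.beq (cjN 0 m (an 8)) (an 9) && Nat.beq (cjN 0 m (an 16)) (an 18) &&
      Nat.beq (cjN 0 m (an 32)) (an 36)) || Nat.beq m 0 ||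
      tClasses.any (fun a => memB (clsOf 0 a) m)) = true := by
  decide +kernel

theorem three_check : allN 64 (fun a =>
    let m := mulN 0 hN (an a)
    !(Nat.beq (powN 0 m 3) 0) || !(allN 64 fun b => !(Nat.beq (cjN 0 (an b) hN) m))) = true := by
  decide +kernel

end CfsgLib.Spor.HeRecog.Six64
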