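import Cfsg.Agent.Lib.Spor.HeRecog.Setting
import Cfsg.Agent.Lib.Spor.HeRecog.Mirror

/-!
# A group of Held type is the Held group, given the steps
-/

set_option autoImplicit false

namespace CfsgLib.Spor.HeRecog

open Cfsg

universe u

/-- The recognition of the Held group from the statements of the separate steps. -/
theorem isoHe_of_steps (hA1 : StmtFrame.{u}) (hA2 : StmtModel.{u}) (hB1 : StmtModelZero.{u})
    (hB2 : StmtBasic.{u}) (hC1 : StmtSix.{u}) (hC2 : StmtNotSix.{u}) (hD : StmtUCent.{u})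
    (hE : StmtL34.{u}) {G : Type u} [Group G] [Finite G] [IsSimpleGroup G] (t : G)
    (ht : orderOf t = 2) (Q : Subgroup (Subgroup.centralizer ({t} : Set G))) [Q.Normal]
    (hQ : Cfsg.IsExtraspecial 2 Q) (hcard : Nat.card Q = 2 ^ 7)
    (hplus : ∃ E : Subgroup Q, Cfsg.IsElementaryAbelian 2 E ∧ Nat.card E = 2 ^ 4)
    (h2c : Subgroup.centralizer (Q : Set (Subgroup.centralizer ({t} : Set G))) ≤ Q)
    (e : (Subgroup.centralizer ({t} : Set G)) ⧸ Q ≃* Matrix.SpecialLinearGroup (Fin 3) (ZMod 2))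
    (hG : Nat.card G = 4030387200)
    (htwo : ∃ x y : G, orderOf x = 2 ∧ orderOf y = 2 ∧ ¬ IsConj x y ∧
      ∀ z : G, orderOf z = 2 → IsConj z x ∨ IsConj z y) :
    Cfsg.Spor.IsoHe G := by
  have hy : Hyp t := by
    obtain ⟨x, y, hx, hy, hxy, hall⟩ := htwo
    refine ⟨ht, hG, inferInstance, ?_⟩
    rcases hall t ht with h | h
    · exact ⟨y, hy, fun h' => hxy (h'.trans h).symm, fun w hw =>
        (hall w hw).imp (fun h' => h'.trans h.symm) id⟩
    · exact ⟨x, hx, fun h' => hxy (h'.trans h), fun w hw =>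
        (hall w hw).symm.imp (fun h' => h'.trans h.symm) id⟩
  obtain ⟨j, s, ⟨F⟩⟩ := hA1 t ht Q hQ hcard hplus h2c e
  obtain ⟨D⟩ := hA2 t j s F
  have hk := hB1 t (2 * j + s) hy D
  rw [hk] at D
  have hf : Fus D := fus_of_steps hC1 hC2 D (hB2 t D hy)
  obtain ⟨U⟩ := hD t D hf
  exact isoHe_of_ucent hE D hf U

end CfsgLib.Spor.HeRecog
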