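import Mathlib

/-!
# A set of four elements permuted regularly by a four-group and stabilised by an automorphism
-/

set_option autoImplicit false

namespace CfsgLib.Spor.HeRecog

universe u

/-- The conditions on the image of the generator `d`. -/
def Triangle {X : Type u} [Group X] (e f g d : X) : Prop :=
  d * d = 1 ∧ d ≠ 1 ∧ orderOf (d * e) = 3 ∧ orderOf (d * f) = 3 ∧ orderOf (d * g) = 3

theorem triangle_map {X Y : Type u} [Group X] [Group Y] (s : X →* Y) (hs : Function.Injective s)
    {e f g d : X} (h : Triangle e f g d) : Triangle (s e) (s f) (s g) (s d) := by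
  obtain ⟨h1, h2, h3, h4, h5⟩ := h
  refine ⟨by rw [← map_mul, h1, map_one], fun e => h2 (hs (e.trans (map_one s).symm)), ?_, ?_, ?_⟩
  all_goals rw [← map_mul, orderOf_injective s hs]; assumption

theorem triangle_conj {X : Type u} [Group X] {e f g d c : X} (hd : Triangle e f g d)
    (he : c * e = e * c) (hf : c * f = f * c) (hg : c * g = g * c) :
    Triangle e f g (c * d * c⁻¹) := by
  have := triangle_map (MulAut.conj c).toMonoidHom (MulAut.conj c).injective hd
  simp only [MulEquiv.coe_toMonoidHom, MulAut.conj_apply] at this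
  rwa [he, hf, hg, mul_inv_cancel_right, mul_inv_cancel_right, mul_inv_cancel_right] at this

/-- An involutive automorphism that translates the four-group by `e` has a fixed point in the set
of four, and its fixed points are conjugate by `e`. -/
theorem exists_fixed_triangle {X : Type u} [Group X] {e f g c : X} (ee : e * e = 1)
    (cc : c * c = 1) (ce : c * e = e * c) (cf : c * f = f * c) (cg : c * g = g * c)
    (s : X →* X) (ss : ∀ x, s (s x) = x) (se : s e = e) (sf : s f = f) (sg : s g = g)
    (sc : s c = c * e) (d₀ : X) (h₀ : Triangle e f g d₀)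
    (hall : ∀ d, Triangle e f g d →
      d = d₀ ∨ d = e * d₀ * e ∨ d = c * d₀ * c ∨ d = c * e * d₀ * (e * c))
    (n1 : e * d₀ * e ≠ d₀) :
    ∃ D, Triangle e f g D ∧ s D = D ∧
      ∀ y, Triangle e f g y → s y = y → y = D ∨ y = e * D * e := by
  have hs : Function.Injective s := fun a b h => by rw [← ss a, ← ss b, h]
  have cinv : c⁻¹ = c := inv_eq_of_mul_eq_one_right cc
  have ec2 : ∀ x, e * (e * x) = x := fun x => by rw [← mul_assoc, ee, one_mul]
  have cc2 : ∀ x, c * (c * x) = x := fun x => by rw [← mul_assoc, cc, one_mul]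
  have ce2 : ∀ x, e * (c * x) = c * (e * x) := fun x => by rw [← mul_assoc, ← ce, mul_assoc]
  have sconj : ∀ x, s (c * x * c) = c * e * s x * (c * e) := fun x => by simp [sc]
  obtain ⟨D, hD, hfix, hne, hallD⟩ : ∃ D, Triangle e f g D ∧ s D = D ∧ e * D * e ≠ D ∧
      ∀ d, Triangle e f g d →
        d = D ∨ d = e * D * e ∨ d = c * D * c ∨ d = c * e * D * (e * c) := by
    have hT : Triangle e f g (s d₀) := by
      have := triangle_map s hs h₀
      rwa [se, sf, sg] at this
    rcases hall _ hT with h | h | h | h
    · exact ⟨d₀, h₀, h, n1, hall⟩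
    · refine ⟨c * d₀ * c, ?_, ?_, fun h' => n1 ?_, fun d hd => ?_⟩
      · have := triangle_conj h₀ ce cf cg
        rwa [cinv] at this
      · rw [sconj, h]
        simp only [mul_assoc, ec2, ce2]
        rw [ee, mul_one]
      · have := congrArg (fun x => c * x * c) h'
        simpa [mul_assoc, ec2, ce2, cc2, cc, ← ce] using this
      · rcases hall d hd with r | r | r | r <;> subst r
        · exact Or.inr (Or.inr (Or.inl (by simp [mul_assoc, cc2, cc])))
        · refine Or.inr (Or.inr (Or.inr ?_))
          simp [mul_assoc, ce2, cc2, cc, ← ce]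
        · exact Or.inl rfl
        · exact Or.inr (Or.inl (by simp [mul_assoc, ce2, ← ce]))
    all_goals exfalso; refine n1 ?_
    · have h2 := ss d₀
      rw [h, sconj, h] at h2
      conv_rhs => rw [← h2]
      simp [mul_assoc, ce2, cc2, ec2, cc, ee, ← ce]
    · have h2 := ss d₀
      rw [h, map_mul, map_mul, map_mul, map_mul, sc, se, h] at h2
      conv_rhs => rw [← h2]
      simp [mul_assoc, ce2, cc2, ec2, cc, ee, ← ce]
  refine ⟨D, hD, hfix, fun y hy sy => ?_⟩
  rcases hallD y hy with h | h | h | h
  · exact Or.inl h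
  · exact Or.inr h
  all_goals exfalso; refine hne ?_; subst h
  · rw [sconj, hfix] at sy
    have := congrArg (fun x => c * x * c) sy
    simpa [mul_assoc, ce2, cc2, ec2, cc, ee, ← ce] using this
  · rw [map_mul, map_mul, map_mul, map_mul, sc, se, hfix] at sy
    have := (congrArg (fun x => c * x * c) sy).symm
    simpa [mul_assoc, ce2, cc2, ec2, cc, ee, ← ce] using this

end CfsgLib.Spor.HeRecog
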