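import Cfsg.Agent.Lib.Spor.HeRecog.Interface
import Cfsg.Agent.Lib.Spor.HeRecog.UCentData

/-!
# Finite facts about the centraliser of an involution of the second class
-/

set_option autoImplicit false
set_option maxRecDepth 100000
set_option maxHeartbeats 1000000

namespace CfsgLib.Spor.HeRecog.UC

/-- the product of `uN` and `vN` -/
def wN : Nat := 12193

/-- membership in a list of numbers -/
def inL (l : List Nat) (m : Nat) : Bool := l.any (Nat.beq m)

/-- the elements of the classes not fused to `z` -/
def uL : List Nat := clsOf 0 1680 ++ clsOf 0 1777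

/-- conjugate to `z` -/
def isT (m : Nat) : Bool := !(Nat.beq m 0) && Nat.beq (mulN 0 m m) 0 && !(inL uL m)

/-- an involution of the second class -/
def isU (m : Nat) : Bool := !(Nat.beq m 0) && Nat.beq (mulN 0 m m) 0 && inL uL m

/-- conjugate to `z`, with product with `uN` of the second class -/
def isBig (m : Nat) : Bool := isT m && !(isT (mulN 0 m uN))

/-- membership in `{1, u, v, uv}` -/
def isV (m : Nat) : Bool := Nat.beq m 0 || Nat.beq m uN || Nat.beq m vN || Nat.beq m wN

/-- commuting -/
def cm (a b : Nat) : Bool := Nat.beq (mulN 0 a b) (mulN 0 b a)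

theorem inL_iff {l : List Nat} {m : Nat} : inL l m = true ↔ m ∈ l := by
  rw [inL, List.any_eq_true]
  exact ⟨fun ⟨x, hx, e⟩ => Nat.eq_of_beq_eq_true e ▸ hx, fun h => ⟨m, h, Nat.beq_refl m⟩⟩

theorem cm_iff {a b : Nat} : cm a b = true ↔ mulN 0 a b = mulN 0 b a :=
  ⟨Nat.eq_of_beq_eq_true, fun h => by rw [cm, h]; exact Nat.beq_refl _⟩

theorem isV_iff {m : Nat} : isV m = true ↔ m = 0 ∨ m = uN ∨ m = vN ∨ m = wN := by
  simp [isV, or_assoc]

theorem consts : mulN 0 uN vN = wN ∧ mulN 0 uN uN = 0 ∧ mulN 0 vN vN = 0 ∧
    mulN 0 uN zN = mulN 0 zN uN ∧ mulN 0 vN uN = mulN 0 uN vN ∧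
    isU uN = true ∧ isU vN = true ∧ isU wN = true ∧ isBig zN = true := by decide +kernel

theorem lts : uN < 21504 ∧ vN < 21504 ∧ wN < 21504 ∧ zN < 21504 := by decide +kernel

theorem reps : ∀ p ∈ clsL 0, p.1 ∈ [10752, 168, 1344, 21, 190, 1366, 1680, 1777] := by
  decide +kernel

theorem uL_class : ∀ p ∈ clsL 0, ∀ m ∈ p.2.map Prod.fst,
    inL uL m = (Nat.beq p.1 1680 || Nat.beq p.1 1777) := by decide +kernel

theorem uL_zu : uL.all (fun m => !(inL uL (mulN 0 zN m)) || inL (clsOf 0 1680) m) = true := by
  decide +kernel

theorem us_full : allEls (fun m => !(cm m uN) || inL usL m) = true := by decide +kernel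

theorem us_facts : usL.all (fun m => Nat.blt m 21504 && cm m uN) = true ∧ usL.length = 512 ∧
    usL.Nodup := by decide +kernel

theorem ut_facts : usL.all (fun m => !(cm m vN) || inL utL m) = true ∧
    utL.all (fun m => Nat.blt m 21504 && cm m uN && cm m vN) = true ∧ utL.length = 256 ∧
    utL.Nodup := by decide +kernel

theorem us_v : usL.all (fun s => Nat.beq (cjN 0 s vN) vN || Nat.beq (cjN 0 s vN) wN) = true := by
  decide +kernel

theorem us_t : usL.all (fun m => !(isT m) || cm m vN) = true := by decide +kernel

/-- Another candidate for the four-group of a commuting conjugate of `z` fails. -/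
theorem us_cand : usL.all (fun q => !(isU q && isU (mulN 0 uN q) && !(isV q)) ||
    usL.all (fun y => !(isBig y) || !(cm q y) ||
      usL.any (fun x => isT x && cm x y && !(cm x q)))) = true := by decide +kernel

/-- The number of elements of a coset of `{1, u, v, uv}` that are of the type of `z`. -/
def bigCount (x : Nat) : Nat := [0, uN, vN, wN].countP fun q => isBig (mulN 0 x q)

theorem ut_coset : utL.all (fun x => !(isV (mulN 0 x x)) || isV x ||
    Nat.beq (bigCount x) 1) = true := by decide +kernel

theorem gen_big : ugL.all (fun g => inL utL g && isBig g) = true ∧ ugL.length = 6 := by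
  decide +kernel

/-- every element of the list is obtained from an earlier one -/
def genChk : List (Nat × Nat × Nat) → List Nat → Bool
  | [], seen => utL.all (inL seen)
  | (x, y, i) :: r, seen =>
    inL seen y && Nat.blt i 6 && Nat.beq (mulN 0 y (ugL.getD i 0)) x && genChk r (x :: seen)

theorem gen_chk : genChk uwL [0] = true := by decide +kernel

theorem four_facts : isBig 672 = true ∧ isBig (mulN 0 zN 672) = true ∧
    cm 672 zN = true ∧ cm 672 uN = true ∧ cm 672 vN = true ∧ isV 672 = false ∧
    isV (mulN 0 zN 672) = false ∧ cm 5376 zN = true ∧ cm 5376 uN = true ∧ cm 5376 vN = true ∧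
    isV (mulN 0 (mulN 0 672 5376) (invN 0 (mulN 0 5376 672))) = false := by decide +kernel

theorem count1777 : ((List.range 21504).filter fun m => cm m 1777).length = 256 := by
  decide +kernel

theorem v_closed : ([0, uN, vN, wN].all fun a => [0, uN, vN, wN].all fun b =>
    isV (mulN 0 a b) && isV (invN 0 a)) = true := by decide +kernel

theorem us_swap : usL.any (fun s => Nat.beq (cjN 0 s vN) wN && Nat.beq (cjN 0 s wN) vN) = true := by
  decide +kernel

end CfsgLib.Spor.HeRecog.UC
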