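import Cfsg.Agent.Lib.Small.SuzOrder.Four.Quot
import Cfsg.Agent.Lib.Recog.TwoR.Consumers.Models
import Cfsg.Agent.Lib.Recog.FiveOrbits

/-!
# Groups with one class of involutions and centraliser of order `64`

If all involutions of a finite group `X` are conjugate to `a`, the centraliser of `a` has order
`64`, is generated by involutions and is not commutative, then `X` is `PSL₃(4)`.
-/

set_option autoImplicit false
set_option linter.style.haveILetI false
set_option linter.unusedSectionVars false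

namespace CfsgLib.Spor.HeRecog

open Subgroup

universe u

/-- A group with one class of involutions and a centraliser of order `64` of the kind found in
`PSL₃(4)`. -/
structure OneClass (X : Type u) [Group X] (a : X) : Prop where
  sq : a * a = 1
  ne : a ≠ 1
  conj : ∀ k : X, k * k = 1 → k ≠ 1 → ∃ c, c * a * c⁻¹ = k
  card : Nat.card (centralizer ({a} : Set X)) = 64
  gen : centralizer ({a} : Set X) ≤ closure {k : X | k * k = 1 ∧ k * a = a * k}
  noncomm : ∃ p q : X, p * a = a * p ∧ q * a = a * q ∧ p * q ≠ q * p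
  four : ∃ b : X, b * b = 1 ∧ b ≠ 1 ∧ b ≠ a ∧ b * a = a * b

namespace OneClass

variable {X : Type u} [Group X] [Finite X] {a : X}

theorem pow_eq (h : OneClass X a) {k : X} (hk : k * k = 1) (hk1 : k ≠ 1) {g : X}
    (hg : g * k = k * g) : g ^ 64 = 1 := by
  obtain ⟨c, rfl⟩ := h.conj k hk hk1
  have hm : c⁻¹ * g * c ∈ centralizer ({a} : Set X) := by
    rw [mem_centralizer_singleton_iff]
    calc c⁻¹ * g * c * a = c⁻¹ * (g * (c * a * c⁻¹)) * c := by group
      _ = c⁻¹ * (c * a * c⁻¹ * g) * c := by rw [hg]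
      _ = a * (c⁻¹ * g * c) := by group
  have h1 := Small.SuzOrder.two_group_order (n := 6) (h.card.trans (by norm_num)) hm
  rw [show (2 : ℕ) ^ 6 = 64 by norm_num] at h1
  have h2 : (c⁻¹ * g * c⁻¹⁻¹) ^ 64 = 1 := by rwa [inv_inv]
  rw [conj_pow, conj_eq_one_iff] at h2
  exact h2

theorem cit (h : OneClass X a) : Recog.CIT.CIT X := by
  intro t ht g
  refine ⟨6, Subtype.ext (h.pow_eq (k := t) ?_ ?_ (mem_centralizer_singleton_iff.1 g.2))⟩
  · rw [← pow_two, ← ht, pow_orderOf_eq_one]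
  · intro e; rw [e, orderOf_one] at ht; omega

/-- A two-subgroup containing the centraliser of `a` equals it. -/
theorem maxP (h : OneClass X a) {P : Subgroup X} (hP : IsPGroup 2 P)
    (hle : centralizer ({a} : Set X) ≤ P) : P = centralizer ({a} : Set X) := by
  haveI : Fact (Nat.Prime 2) := ⟨Nat.prime_two⟩
  refine le_antisymm ?_ hle
  haveI : Nontrivial P :=
    ⟨⟨⟨a, hle (mem_centralizer_singleton_iff.2 rfl)⟩, 1, fun e => h.ne (congrArg Subtype.val e)⟩⟩
  obtain ⟨n, -, hn⟩ := hP.nontrivial_iff_card.1 inferInstance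
  haveI := hP.center_nontrivial
  obtain ⟨m, hm0, hm⟩ := (hP.to_subgroup (center P)).nontrivial_iff_card.1 inferInstance
  obtain ⟨⟨c, hc⟩, hc2⟩ := exists_prime_orderOf_dvd_card' (G := center P) 2
    (hm ▸ dvd_pow_self 2 hm0.ne')
  have hc' : orderOf (c : X) = 2 := by
    rw [orderOf_coe, ← orderOf_mk]; exact hc2
  have hcc : ∀ g ∈ P, g * (c : X) = c * g := fun g hg =>
    congrArg Subtype.val (mem_center_iff.1 hc ⟨g, hg⟩)
  have hca : (c : X) ∈ centralizer ({a} : Set X) :=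
    mem_centralizer_singleton_iff.2 (hcc a (hle (mem_centralizer_singleton_iff.2 rfl))).symm
  have hc1 : (c : X) * c = 1 := by rw [← pow_two, ← hc', pow_orderOf_eq_one]
  have hc0 : (c : X) ≠ 1 := fun e => by rw [e, orderOf_one] at hc'; omega
  have hle' : centralizer ({a} : Set X) ≤ centralizer ({(c : X)} : Set X) := fun g hg =>
    mem_centralizer_singleton_iff.2 (hcc g (hle hg))
  obtain ⟨d, hd⟩ := h.conj c hc1 hc0
  have hcard : Nat.card (centralizer ({(c : X)} : Set X)) = 64 := by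
    rw [← h.card]
    refine Nat.card_congr (Equiv.subtypeEquiv (MulAut.conj d⁻¹).toEquiv fun g => ?_)
    show g ∈ centralizer ({(c : X)} : Set X) ↔
      d⁻¹ * g * d⁻¹⁻¹ ∈ centralizer ({a} : Set X)
    rw [mem_centralizer_singleton_iff, mem_centralizer_singleton_iff, ← hd, inv_inv]
    constructor
    · intro e
      calc d⁻¹ * g * d * a = d⁻¹ * (g * (d * a * d⁻¹)) * d := by group
        _ = d⁻¹ * (d * a * d⁻¹ * g) * d := by rw [e]
        _ = a * (d⁻¹ * g * d) := by group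
    · intro e
      calc g * (d * a * d⁻¹) = d * (d⁻¹ * g * d * a) * d⁻¹ := by group
        _ = d * (a * (d⁻¹ * g * d)) * d⁻¹ := by rw [e]
        _ = d * a * d⁻¹ * g := by group
  rw [eq_of_le_of_card_ge hle' (by rw [hcard, h.card])]
  exact fun g hg => mem_centralizer_singleton_iff.2 (hcc g hg)

/-- A normal subgroup with an involution contains all of them and the centraliser of `a`. -/
theorem invol_mem (h : OneClass X a) {N : Subgroup X} [hN : N.Normal] {t : X} (htN : t ∈ N)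
    (ht : t * t = 1) (ht1 : t ≠ 1) {k : X} (hk : k * k = 1) : k ∈ N := by
  by_cases hk1 : k = 1
  · exact hk1 ▸ one_mem N
  obtain ⟨c, hc⟩ := h.conj t ht ht1
  obtain ⟨d, hd⟩ := h.conj k hk hk1
  have : k = (d * c⁻¹) * t * (d * c⁻¹)⁻¹ := by rw [← hc, ← hd]; group
  rw [this]
  exact hN.conj_mem t htN _

theorem cent_le (h : OneClass X a) {N : Subgroup X} [hN : N.Normal] {t : X} (htN : t ∈ N)
    (ht : t * t = 1) (ht1 : t ≠ 1) : centralizer ({a} : Set X) ≤ N :=
  h.gen.trans ((closure_le N).2 fun _ hk => h.invol_mem htN ht ht1 hk.1)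

theorem exists_invol {H : Subgroup X} (hH : H ≠ ⊥) (h2 : ¬ Odd (Nat.card H)) :
    ∃ t ∈ H, t * t = 1 ∧ t ≠ 1 := by
  haveI : Fact (Nat.Prime 2) := ⟨Nat.prime_two⟩
  obtain ⟨⟨t, htH⟩, ht⟩ := exists_prime_orderOf_dvd_card' (G := H) 2
    (even_iff_two_dvd.1 (Nat.not_odd_iff_even.1 h2))
  rw [orderOf_mk] at ht
  exact ⟨t, htH, by rw [← pow_two, ← ht, pow_orderOf_eq_one],
    fun e => by rw [e, orderOf_one] at ht; omega⟩

theorem odd_trivial (h : OneClass X a) (K : Subgroup X) (hodd : Odd (Nat.card K))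
    (hn : ∀ k : X, k * k = 1 → k * a = a * k → ∀ g ∈ K, k * g * k⁻¹ ∈ K) : K = ⊥ := by
  obtain ⟨b, hb, hb1, hba, hbc⟩ := h.four
  have key : ∀ k : X, k * k = 1 → k ≠ 1 → ∀ g ∈ K, k * g = g * k → g = 1 := by
    intro k hk hk1 g hg e
    have h1 := h.pow_eq hk hk1 e.symm
    have h2 : g ^ (Nat.card K) = 1 := congrArg Subtype.val (pow_card_eq_one' (x := (⟨g, hg⟩ : K)))
    have hd : orderOf g ∣ Nat.gcd 64 (Nat.card K) :=
      Nat.dvd_gcd (orderOf_dvd_of_pow_eq_one h1) (orderOf_dvd_of_pow_eq_one h2)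
    have hco : Nat.Coprime (2 ^ 6) (Nat.card K) :=
      (Nat.coprime_two_left.2 hodd).pow_left 6
    rw [show (64 : ℕ) = 2 ^ 6 by norm_num, hco.gcd_eq_one, Nat.dvd_one] at hd
    exact orderOf_eq_one_iff.1 hd
  let N₀ : Subgroup X := normalizer (K : Set X)
  have memN : ∀ k : X, k * k = 1 → k * a = a * k → k ∈ N₀ := by
    intro k hk hka
    rw [mem_normalizer_iff]
    intro g
    refine ⟨hn k hk hka g, fun hg => ?_⟩
    have h1 := hn k hk hka _ hg
    rw [inv_eq_of_mul_eq_one_right hk] at h1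
    rwa [show k * (k * g * k) * k = (k * k) * g * (k * k) by group, hk, one_mul, mul_one] at h1
  have hab : a * b ≠ 1 := fun e =>
    hba ((eq_inv_of_mul_eq_one_right e).trans (inv_eq_of_mul_eq_one_right h.sq))
  have hKN : K ≤ N₀ := le_normalizer
  haveI : (K.subgroupOf N₀).Normal := normal_subgroupOf_of_le_normalizer le_rfl
  have h0 := L34Cent.eq_bot_of_three_fpf (K.subgroupOf N₀)
    (by rwa [Nat.card_congr (subgroupOfEquivOfLe hKN).toEquiv])
    ⟨a, memN a h.sq rfl⟩ ⟨b, memN b hb hbc⟩ (Subtype.ext h.sq) (Subtype.ext hb)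
    (fun m hm e => Subtype.ext (key a h.sq h.ne m hm (congrArg Subtype.val e)))
    (fun m hm e => Subtype.ext (key b hb hb1 m hm (congrArg Subtype.val e)))
    (fun m hm e => Subtype.ext (key (a * b)
      (by rw [show a * b * (a * b) = a * (b * a) * b by group, hbc,
        show a * (a * b) * b = (a * a) * (b * b) by group, h.sq, hb, one_mul])
      hab m hm (congrArg Subtype.val e)))
  rw [eq_bot_iff]
  intro g hg
  have h1 : (⟨g, hKN hg⟩ : N₀) ∈ (⊥ : Subgroup N₀) := h0 ▸ (show (⟨g, hKN hg⟩ : N₀) ∈ K.subgroupOf N₀ from hg)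
  exact congrArg Subtype.val (mem_bot.1 h1)

/-- No nontrivial two-subgroup lies in all conjugates of the centraliser of `a`. -/
theorem core_bot (h : OneClass X a) {g : X}
    (hg : ∀ x : X, g * (x * a * x⁻¹) = x * a * x⁻¹ * g) (hg2 : g * g = 1) : g = 1 := by
  by_contra hg1
  obtain ⟨p, q, hp, hq, hpq⟩ := h.noncomm
  let C : Subgroup X :=
    { carrier := {y | ∀ x : X, y * (x * a * x⁻¹) = x * a * x⁻¹ * y}
      mul_mem' := fun {y y'} h1 h2 x => by
        rw [mul_assoc, h2 x, ← mul_assoc, h1 x, mul_assoc]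
      one_mem' := fun x => by rw [one_mul, mul_one]
      inv_mem' := fun {y} h1 x => (Commute.inv_left (h1 x : Commute y _)).eq }
  haveI : C.Normal := ⟨fun y hy w x => by
    have h1 : y * (w⁻¹ * x * a * (w⁻¹ * x)⁻¹) = w⁻¹ * x * a * (w⁻¹ * x)⁻¹ * y := hy _
    calc w * y * w⁻¹ * (x * a * x⁻¹) = w * (y * (w⁻¹ * x * a * (w⁻¹ * x)⁻¹)) * w⁻¹ := by group
      _ = w * (w⁻¹ * x * a * (w⁻¹ * x)⁻¹ * y) * w⁻¹ := by rw [h1]
      _ = x * a * x⁻¹ * (w * y * w⁻¹) := by group⟩
  have hC : centralizer ({a} : Set X) ≤ C := h.cent_le (N := C) (t := g) hg hg2 hg1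
  have hcen : ∀ y : X, y * a = a * y → ∀ x : X, y * (x * a * x⁻¹) = x * a * x⁻¹ * y :=
    fun y hy => hC (mem_centralizer_singleton_iff.2 hy)
  have hinv : ∀ k : X, k * k = 1 → k * a = a * k → ∀ y : X, y * a = a * y → y * k = k * y := by
    intro k hk hka y hy
    by_cases hk1 : k = 1
    · rw [hk1, one_mul, mul_one]
    · obtain ⟨c, rfl⟩ := h.conj k hk hk1
      exact hcen y hy c
  refine hpq ?_
  have hle : centralizer ({a} : Set X) ≤ centralizer ({p} : Set X) := h.gen.trans ((closure_le _).2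
    fun k hk => mem_centralizer_singleton_iff.2 (hinv k hk.1 hk.2 p hp).symm)
  exact (mem_centralizer_singleton_iff.1 (hle (mem_centralizer_singleton_iff.2 hq))).symm

/-- The group generated by the involutions. -/
def involClosure (X : Type u) [Group X] : Subgroup X := closure {k : X | k * k = 1}

theorem involClosure_normal : (involClosure X).Normal := by
  refine ⟨fun n hn g => ?_⟩
  refine closure_induction (p := fun x _ => g * x * g⁻¹ ∈ involClosure X) (fun x hx => ?_)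
    (by simp) (fun x y _ _ hx hy => ?_) (fun x _ hx => ?_) hn
  · refine subset_closure ?_
    show g * x * g⁻¹ * (g * x * g⁻¹) = 1
    rw [show g * x * g⁻¹ * (g * x * g⁻¹) = g * (x * x) * g⁻¹ by group,
      show x * x = 1 from hx, mul_one, mul_inv_cancel]
  · rw [show g * (x * y) * g⁻¹ = g * x * g⁻¹ * (g * y * g⁻¹) by group]
    exact mul_mem hx hy
  · rw [show g * x⁻¹ * g⁻¹ = (g * x * g⁻¹)⁻¹ by group]
    exact inv_mem hx

theorem cent_le_invol (h : OneClass X a) : centralizer ({a} : Set X) ≤ involClosure X :=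
  h.gen.trans (closure_mono fun _ hk => hk.1)

/-- A nontrivial normal subgroup of the subgroup generated by the involutions has an involution,
and its centraliser of an involution is trivial unless it has one. -/
theorem sub_invol (h : OneClass X a) {K : Subgroup X} (hKN : K ≤ involClosure X)
    (hK : ∀ n ∈ involClosure X, ∀ k ∈ K, n * k * n⁻¹ ∈ K) (hne : K ≠ ⊥) :
    ∃ t ∈ K, t * t = 1 ∧ t ≠ 1 :=
  exists_invol hne fun ho => hne (h.odd_trivial K ho fun k hk _ g hg => hK k (subset_closure hk) g hg)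

/-- A normal two-subgroup of the subgroup generated by the involutions is trivial. -/
theorem sub_two (h : OneClass X a) {K : Subgroup X} (hKN : K ≤ involClosure X)
    (hK : ∀ n ∈ involClosure X, ∀ k ∈ K, n * k * n⁻¹ ∈ K) (h2 : IsPGroup 2 K) : K = ⊥ := by
  by_contra hne
  obtain ⟨t, htK, ht, ht1⟩ := h.sub_invol hKN hK hne
  refine ht1 (h.core_bot (fun x => ?_) ht)
  set y := x * a * x⁻¹ with hy
  have hy2 : y * y = 1 := by
    rw [hy, show x * a * x⁻¹ * (x * a * x⁻¹) = x * (a * a) * x⁻¹ by group, h.sq, mul_one,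
      mul_inv_cancel]
  have hC : IsPGroup 2 ((centralizer ({a} : Set X)).map (MulAut.conj x).toMonoidHom) :=
    (IsPGroup.of_card (n := 6) (h.card.trans (by norm_num))).map _
  set R := (centralizer ({a} : Set X)).map (MulAut.conj x).toMonoidHom with hR
  have hRN : R ≤ involClosure X := by
    rintro _ ⟨g, hg, rfl⟩
    exact involClosure_normal.conj_mem g (h.cent_le_invol hg) x
  have hRK : R ≤ normalizer (K : Set X) := by
    intro r hr
    rw [mem_normalizer_iff]
    intro g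
    refine ⟨hK r (hRN hr) g, fun hg => ?_⟩
    have h1 := hK r⁻¹ (inv_mem (hRN hr)) _ hg
    rwa [show r⁻¹ * (r * g * r⁻¹) * r⁻¹⁻¹ = g by group] at h1
  have hsup : IsPGroup 2 (R ⊔ K : Subgroup X) := hC.to_sup_of_normal_right' h2 hRK
  have hsup' : IsPGroup 2 ((R ⊔ K : Subgroup X).map (MulAut.conj x⁻¹).toMonoidHom) := hsup.map _
  have hle : centralizer ({a} : Set X) ≤
      (R ⊔ K : Subgroup X).map (MulAut.conj x⁻¹).toMonoidHom := fun g hg =>
    ⟨x * g * x⁻¹, mem_sup_left ⟨g, hg, rfl⟩, by simp [mul_assoc]⟩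
  have e := h.maxP hsup' hle
  have ht' : x⁻¹ * t * x⁻¹⁻¹ ∈ centralizer ({a} : Set X) :=
    e ▸ (⟨t, mem_sup_right htK, rfl⟩ :
      x⁻¹ * t * x⁻¹⁻¹ ∈ (R ⊔ K : Subgroup X).map (MulAut.conj x⁻¹).toMonoidHom)
  rw [mem_centralizer_singleton_iff, inv_inv] at ht'
  calc t * y = x * (x⁻¹ * t * x * a) * x⁻¹ := by rw [hy]; group
    _ = x * (a * (x⁻¹ * t * x)) * x⁻¹ := by rw [ht']
    _ = y * t := by rw [hy]; group

/-- Two nontrivial normal subgroups of the subgroup generated by the involutions meet. -/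
theorem sub_meet (h : OneClass X a) {K L : Subgroup X} (hKN : K ≤ involClosure X)
    (hK : ∀ n ∈ involClosure X, ∀ k ∈ K, n * k * n⁻¹ ∈ K) (hLN : L ≤ involClosure X)
    (hL : ∀ n ∈ involClosure X, ∀ k ∈ L, n * k * n⁻¹ ∈ L) (hK1 : K ≠ ⊥) (hL1 : L ≠ ⊥) :
    K ⊓ L ≠ ⊥ := by
  intro hKL
  refine hL1 (h.sub_two hLN hL ?_)
  obtain ⟨t, htK, ht, ht1⟩ := h.sub_invol hKN hK hK1
  intro l
  refine ⟨6, Subtype.ext (h.pow_eq ht ht1 ?_)⟩
  have h1 : (l : X) * t * (l : X)⁻¹ * t⁻¹ ∈ K ⊓ L := by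
    refine mem_inf.2 ⟨K.mul_mem (hK l (hLN l.2) t htK) (K.inv_mem htK), ?_⟩
    rw [show (l : X) * t * (l : X)⁻¹ * t⁻¹ = l * (t * (l : X)⁻¹ * t⁻¹) by group]
    exact mul_mem l.2 (hL t (hKN htK) _ (inv_mem l.2))
  rw [hKL, mem_bot, mul_inv_eq_one, mul_inv_eq_iff_eq_mul] at h1
  exact h1

theorem invol_simple (h : OneClass X a) : IsSimpleGroup (involClosure X) := by
  classical
  set N := involClosure X with hN
  haveI : N.Normal := involClosure_normal
  haveI : Nontrivial N := ⟨⟨⟨a, subset_closure h.sq⟩, 1, fun e => h.ne (congrArg Subtype.val e)⟩⟩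
  let P : Subgroup X → Prop := fun K => K ≤ N ∧ (∀ n ∈ N, ∀ k ∈ K, n * k * n⁻¹ ∈ K) ∧ K ≠ ⊥
  -- a minimal one
  have hex : ∃ n, ∃ K, P K ∧ Nat.card K = n :=
    ⟨_, N, ⟨le_rfl, fun n hn k hk => mul_mem (mul_mem hn hk) (inv_mem hn),
      fun e => h.ne (mem_bot.1 (e ▸ subset_closure h.sq))⟩, rfl⟩
  obtain ⟨K, ⟨hKN, hK, hK1⟩, hKc⟩ := Nat.find_spec hex
  have hmin : ∀ L, P L → Nat.card K ≤ Nat.card L := fun L hL =>
    hKc ▸ Nat.find_min' hex ⟨L, hL, rfl⟩
  have hKnorm : K.Normal := by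
    refine ⟨fun k hk x => ?_⟩
    set K' := K.map (MulAut.conj x).toMonoidHom with hK'
    have h' : K' ≤ N := by
      rintro _ ⟨g, hg, rfl⟩; exact involClosure_normal.conj_mem g (hKN hg) x
    have hn' : ∀ n ∈ N, ∀ g ∈ K', n * g * n⁻¹ ∈ K' := by
      rintro n hn _ ⟨g, hg, rfl⟩
      refine ⟨(x⁻¹ * n * x⁻¹⁻¹) * g * (x⁻¹ * n * x⁻¹⁻¹)⁻¹,
        hK _ (involClosure_normal.conj_mem n hn x⁻¹) g hg, ?_⟩
      simp only [MulEquiv.coe_toMonoidHom, MulAut.conj_apply]
      group
    have h1' : K' ≠ ⊥ := fun e => hK1 ((map_eq_bot_iff_of_injective K (MulEquiv.injective _)).1 e)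
    have hI : P (K ⊓ K') := ⟨inf_le_left.trans hKN,
      fun n hn g hg => ⟨hK n hn g hg.1, hn' n hn g hg.2⟩, h.sub_meet hKN hK h' hn' hK1 h1'⟩
    have e1 := eq_of_le_of_card_ge (inf_le_left : K ⊓ K' ≤ K) (hmin _ hI)
    have hle : K ≤ K' := e1 ▸ inf_le_right
    have e2 : K = K' := eq_of_le_of_card_ge hle (le_of_eq (card_map_of_injective
      (MulEquiv.injective _)))
    rw [e2]
    exact ⟨k, hk, rfl⟩
  obtain ⟨t, htK, ht, ht1⟩ := h.sub_invol hKN hK hK1
  have hKeq : K = N := le_antisymm hKN ((closure_le K).2 fun g hg => h.invol_mem htK ht ht1 hg)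
  refine ⟨fun L hLn => ?_⟩
  by_cases hL : L = ⊥
  · exact Or.inl hL
  right
  have hLP : P (L.map N.subtype) := by
    refine ⟨map_subtype_le L, ?_, fun e => hL ((map_eq_bot_iff_of_injective L
      (subtype_injective N)).1 e)⟩
    rintro n hn _ ⟨g, hg, rfl⟩
    exact ⟨⟨n, hn⟩ * g * ⟨n, hn⟩⁻¹, hLn.conj_mem g hg _, rfl⟩
  have e := eq_of_le_of_card_ge hLP.1 (by
    have := hmin _ hLP
    rwa [hKeq] at this)
  rw [eq_top_iff]
  intro g _
  have : (g : X) ∈ L.map N.subtype := e.symm ▸ g.2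
  obtain ⟨g', hg', e'⟩ := this
  rwa [← Subtype.ext (a1 := g') (a2 := g) e']

/-- The conclusion. -/
theorem l34 (h : OneClass X a) : ∃ (K : Type) (_ : Field K) (_ : Fintype K),
    Fintype.card K = 4 ∧ Nonempty (X ≃* Matrix.ProjectiveSpecialLinearGroup (Fin 3) K) := by
  classical
  haveI : Fact (Nat.Prime 2) := ⟨Nat.prime_two⟩
  set N := involClosure X with hN
  haveI := h.invol_simple
  obtain ⟨p, q, hp, hq, hpq⟩ := h.noncomm
  have hmem : ∀ {g : X}, g * a = a * g → g ∈ N := fun hg =>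
    h.cent_le_invol (mem_centralizer_singleton_iff.2 hg)
  have hnab : ∃ x y : N, x * y ≠ y * x :=
    ⟨⟨p, hmem hp⟩, ⟨q, hmem hq⟩, fun e => hpq (congrArg Subtype.val e)⟩
  have hcit : Recog.CIT.CIT N := by
    intro t ht g
    refine ⟨6, Subtype.ext (Subtype.ext ?_)⟩
    have ht' : orderOf (t : X) = 2 := by rwa [orderOf_coe]
    refine h.pow_eq (k := (t : X)) (by rw [← pow_two, ← ht', pow_orderOf_eq_one])
      (fun e => by rw [e, orderOf_one] at ht'; omega)
      (congrArg Subtype.val (mem_centralizer_singleton_iff.1 g.2))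
  set S := centralizer ({a} : Set X) with hS
  have hSP : IsPGroup 2 S := IsPGroup.of_card (n := 6) (h.card.trans (by norm_num))
  set S₀ := S.subgroupOf N with hS₀
  have hS₀P : IsPGroup 2 S₀ := hSP.of_equiv (subgroupOfEquivOfLe h.cent_le_invol).symm
  have hS₀max : ∀ P : Subgroup N, IsPGroup 2 P → S₀ ≤ P → P = S₀ := by
    intro P hP hle
    have hPm := hP.map N.subtype
    have e := h.maxP hPm fun g hg =>
      ⟨⟨g, h.cent_le_invol hg⟩, hle (mem_subgroupOf.2 hg), rfl⟩
    refine le_antisymm (fun g hg => mem_subgroupOf.2 ?_) hle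
    rw [hS, ← e]
    exact ⟨g, hg, rfl⟩
  let Syl : Sylow 2 N :=
    { toSubgroup := S₀
      isPGroup' := hS₀P
      is_maximal' := fun {Q} hQ hle => hS₀max Q hQ hle }
  have hcS₀ : Nat.card S₀ = 64 := by
    rw [Nat.card_congr (subgroupOfEquivOfLe h.cent_le_invol).toEquiv, h.card]
  have h64 : 64 ∣ Nat.card N ∧ ¬ 128 ∣ Nat.card N := by
    refine ⟨hcS₀ ▸ card_subgroup_dvd_card S₀, fun h128 => ?_⟩
    have h1 := Syl.card_eq_multiplicity
    rw [show Nat.card (Syl : Subgroup N) = 64 from hcS₀] at h1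
    have h2 : 7 ≤ (Nat.card N).factorization 2 :=
      (Nat.prime_two.pow_dvd_iff_le_factorization Nat.card_pos.ne').1
        (show 2 ^ 7 ∣ Nat.card N by norm_num; exact h128)
    have h3 : (2 : ℕ) ^ 7 ≤ 2 ^ (Nat.card N).factorization 2 :=
      Nat.pow_le_pow_right (by norm_num) h2
    rw [← h1] at h3
    norm_num at h3
  rcases Recog.CIT.known_of_cit hnab hcit with ⟨⟨T, D, r, hT⟩, -⟩ | hodd | hl34
  · exfalso
    obtain ⟨g, hg⟩ := MulAction.exists_smul_eq N Syl
      (⟨T, hT.isP, fun {Q} hQ hle => hT.maxP Q hQ hle⟩ : Sylow 2 N)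
    have hgT : ∀ y ∈ S₀, g * y * g⁻¹ ∈ T := by
      intro y hy
      have h2 : g * y * g⁻¹ ∈ ((g • Syl : Sylow 2 N) : Subgroup N) := by
        rw [Sylow.smul_def]; exact ⟨y, hy, rfl⟩
      rw [hg] at h2
      exact h2
    have hcen : ∀ k : X, k * k = 1 → k * a = a * k → ∀ y : X, y * a = a * y → y * k = k * y := by
      intro k hk hka y hy
      have h1 : (⟨k, hmem hka⟩ : N) ∈ S₀ := mem_subgroupOf.2 (mem_centralizer_singleton_iff.2 hka)
      have h2 : (⟨y, hmem hy⟩ : N) ∈ S₀ := mem_subgroupOf.2 (mem_centralizer_singleton_iff.2 hy)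
      set k' : N := ⟨k, hmem hka⟩
      set y' : N := ⟨y, hmem hy⟩
      have e := hT.central (g * k' * g⁻¹) (hgT _ h1) (by
        rw [show g * k' * g⁻¹ * (g * k' * g⁻¹) = g * (k' * k') * g⁻¹ by group,
          show k' * k' = 1 from Subtype.ext hk, mul_one, mul_inv_cancel]) (g * y' * g⁻¹) (hgT _ h2)
      have e' : y' * k' = k' * y' := by
        calc y' * k' = g⁻¹ * ((g * y' * g⁻¹) * (g * k' * g⁻¹)) * g := by group
          _ = g⁻¹ * ((g * k' * g⁻¹) * (g * y' * g⁻¹)) * g := by rw [e]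
          _ = k' * y' := by group
      exact congrArg Subtype.val e'
    refine hpq ?_
    have hle : S ≤ centralizer ({p} : Set X) := h.gen.trans ((closure_le _).2
      fun k hk => mem_centralizer_singleton_iff.2 (hcen k hk.1 hk.2 p hp).symm)
    exact (mem_centralizer_singleton_iff.1 (hle (mem_centralizer_singleton_iff.2 hq))).symm
  · exact absurd h64 (Small.SuzOrder.oddType_two hodd)
  · obtain ⟨F, _, _, hF, ⟨e⟩⟩ := hl34
    haveI : CharP F 2 := ringChar.of_eq (FiniteField.even_card_iff_char_two.2 (by omega))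
    have hconjN : ∀ k : N, k * k = 1 → k ≠ 1 → ∃ c : N, c * k * c⁻¹ = ⟨a, subset_closure h.sq⟩ := by
      intro k hk hk1
      obtain ⟨c₁, hc₁⟩ := Recog.TwoR.Cons.exists_conj_elat (F := F) (x := e k)
        (by rw [← map_mul, hk, map_one]) (fun e' => hk1 (e.injective (e'.trans e.map_one.symm)))
      obtain ⟨c₂, hc₂⟩ := Recog.TwoR.Cons.exists_conj_elat (F := F)
        (x := e ⟨a, subset_closure h.sq⟩)
        (by rw [← map_mul, show (⟨a, subset_closure h.sq⟩ : N) * ⟨a, subset_closure h.sq⟩ = 1 from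
          Subtype.ext h.sq, map_one])
        (fun e' => h.ne (congrArg Subtype.val (e.injective (e'.trans e.map_one.symm))))
      refine ⟨e.symm (c₂ * c₁⁻¹), e.injective ?_⟩
      rw [map_mul, map_mul, map_inv, MulEquiv.apply_symm_apply, ← hc₁, ← hc₂]
      group
    have htop : ∀ x : X, x ∈ N := by
      intro x
      obtain ⟨c, hc⟩ := hconjN ⟨x * a * x⁻¹, involClosure_normal.conj_mem a (subset_closure h.sq) x⟩
        (Subtype.ext (by
          show x * a * x⁻¹ * (x * a * x⁻¹) = 1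
          rw [show x * a * x⁻¹ * (x * a * x⁻¹) = x * (a * a) * x⁻¹ by group, h.sq, mul_one,
            mul_inv_cancel]))
        (fun e' => h.ne (conj_eq_one_iff.1 (congrArg Subtype.val e')))
      have hc' : (c : X) * (x * a * x⁻¹) * (c : X)⁻¹ = a := congrArg Subtype.val hc
      have h1 : (c : X) * x ∈ N := hmem (by
        calc (c : X) * x * a = (c : X) * (x * a * x⁻¹) * (c : X)⁻¹ * ((c : X) * x) := by group
          _ = a * ((c : X) * x) := by rw [hc'])
      have := mul_mem (inv_mem c.2) h1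
      rwa [← mul_assoc, inv_mul_cancel, one_mul] at this
    exact ⟨F, _, _, hF, ⟨(((MulEquiv.subgroupCongr (eq_top_iff.2 fun x _ => htop x :
      N = ⊤)).trans Subgroup.topEquiv).symm).trans e⟩⟩

end OneClass

end CfsgLib.Spor.HeRecog
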