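import Cfsg.Agent.Lib.Spor.HeRecog.Interface

/-!
What the quotient half of step D needs to know about the centraliser of the four-group.
-/

set_option autoImplicit false

namespace CfsgLib.Spor.HeRecog

universe u

/-- the centraliser of the two generators of the four-group -/
abbrev fourCent {G : Type u} [Group G] (u v : G) : Subgroup G :=
  Subgroup.centralizer ({u, v} : Set G)

/-- The four-group `{1, u, v, u v}` inside its centraliser, a Sylow two-subgroup `T₀` there in
which `z` is central, and the involutions modulo the four-group. -/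
structure QuotData {G : Type u} [Group G] (z u v : G) (T0 : Subgroup G) : Prop where
  u_sq : u * u = 1
  v_sq : v * v = 1
  uv : u * v = v * u
  u_ne : u ≠ 1
  v_ne : v ≠ 1
  uv_ne : u ≠ v
  z_sq : z * z = 1
  z_out : z ≠ 1 ∧ z ≠ u ∧ z ≠ v ∧ z ≠ u * v
  T0_le : T0 ≤ fourCent u v
  card_T0 : Nat.card T0 = 256
  not_512 : ¬ 512 ∣ Nat.card (fourCent u v)
  z_mem : z ∈ T0
  z_central : ∀ g ∈ T0, g * z = z * g
  cent : ∀ g ∈ fourCent u v, g * z = z * g → g ∈ T0
  gen : T0 ≤ Subgroup.closure {x | x ∈ T0 ∧ x * x = 1}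
  nab : ∃ a ∈ T0, ∃ b ∈ T0, a * b * a⁻¹ * b⁻¹ ∉ Subgroup.closure ({u, v} : Set G)
  big_exists : ∀ g ∈ T0, g * g ∈ Subgroup.closure ({u, v} : Set G) →
    g ∉ Subgroup.closure ({u, v} : Set G) →
    ∃ c ∈ fourCent u v, (c * z * c⁻¹)⁻¹ * g ∈ Subgroup.closure ({u, v} : Set G)
  big_unique : ∀ c ∈ fourCent u v,
    z⁻¹ * (c * z * c⁻¹) ∈ Subgroup.closure ({u, v} : Set G) → c * z = z * c

end CfsgLib.Spor.HeRecog
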