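import Cfsg.Agent.Lib.Spor.HeRecog.UCentLocal
import Cfsg.Agent.Lib.Spor.HeRecog.UQuotData

/-!
# The data of the centraliser of the four-group
-/

set_option autoImplicit false
set_option linter.style.haveILetI false
set_option linter.unusedSectionVars false
set_option maxRecDepth 100000
set_option maxHeartbeats 1000000

namespace CfsgLib.Spor.HeRecog.UC

open Subgroup

universe u

variable {G : Type u} [Group G] {z : G} (D : Cen 0 z)
include D

/-- The subgroup `C(z) ∩ C(u) ∩ C(v)`. -/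
def tU : Subgroup G :=
  centralizer ({z} : Set G) ⊓ centralizer ({D.val uN, D.val vN} : Set G)

theorem mem_fourCent {g : G} : g ∈ fourCent (D.val uN) (D.val vN) ↔
    g * D.val uN = D.val uN * g ∧ g * D.val vN = D.val vN * g := by
  rw [fourCent, mem_centralizer_iff]
  exact ⟨fun h => ⟨(h _ (Or.inl rfl)).symm, (h _ (Or.inr rfl)).symm⟩,
    fun h x hx => by
      rcases hx with rfl | hx
      · exact h.1.symm
      · rw [Set.mem_singleton_iff] at hx; exact hx ▸ h.2.symm⟩

theorem mem_tU {g : G} : g ∈ tU D ↔ g * z = z * g ∧ g * D.val uN = D.val uN * g ∧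
    g * D.val vN = D.val vN * g := by
  rw [tU, mem_inf, mem_centralizer_singleton_iff]
  exact and_congr_right' (mem_fourCent D)

theorem ut_lt {m : Nat} (hm : m ∈ utL) : m < 21504 := by
  have h := all_spec ut_facts.2.1 hm
  simp only [Bool.and_eq_true] at h
  simpa [Nat.blt_eq] using h.1.1

theorem ut_comm {m : Nat} (hm : m ∈ utL) : D.val m * z = z * D.val m ∧
    D.val m * D.val uN = D.val uN * D.val m ∧ D.val m * D.val vN = D.val vN * D.val m := by
  have h := all_spec ut_facts.2.1 hm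
  simp only [Bool.and_eq_true] at h
  exact ⟨D.val_comm m (ut_lt D hm), (val_cm D (ut_lt D hm) lts.1).1 h.1.2,
    (val_cm D (ut_lt D hm) lts.2.1).1 h.2⟩

theorem mem_ut {g : G} (hg : g ∈ tU D) : ∃ m ∈ utL, D.val m = g := by
  obtain ⟨hz, hu, hv⟩ := (mem_tU D).1 hg
  obtain ⟨m, hm, rfl⟩ := mem_us D hz hu
  have h := all_spec ut_facts.1 hm
  simp only [(val_cm D (us_lt hm).1 lts.2.1).2 hv, Bool.not_true, Bool.false_or] at h
  exact ⟨m, inL_iff.1 h, rfl⟩

theorem val_mem_tU {m : Nat} (hm : m ∈ utL) : D.val m ∈ tU D := (mem_tU D).2 (ut_comm D hm)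

theorem ut_sub_us {m : Nat} (hm : m ∈ utL) : m ∈ usL := by
  obtain ⟨n, hn, e⟩ := mem_us D (ut_comm D hm).1 (ut_comm D hm).2.1
  rwa [← D.val_inj _ _ (us_lt hn).1 (ut_lt D hm) e]

theorem card_tU : Nat.card (tU D) = 256 := by
  rw [← ut_facts.2.2.1, ← D.card_image (fun m hm => ut_lt D hm) ut_facts.2.2.2]
  exact Nat.card_congr (Equiv.subtypeEquivRight fun g =>
    ⟨fun h => mem_ut D h, fun ⟨m, hm, e⟩ => e ▸ val_mem_tU D hm⟩)

theorem mem_four {g : G} (hg : g ∈ closure ({D.val uN, D.val vN} : Set G)) :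
    ∃ q, isV q = true ∧ q < 21504 ∧ D.val q = g := by
  have hlt : ∀ q, isV q = true → q < 21504 := by
    intro q hq
    rcases isV_iff.1 hq with rfl | rfl | rfl | rfl
    exacts [by norm_num, lts.1, lts.2.1, lts.2.2.1]
  have hl : ∀ q, isV q = true → q ∈ [0, uN, vN, wN] := by
    intro q hq
    simpa using isV_iff.1 hq
  suffices h : ∃ q, isV q = true ∧ D.val q = g by
    obtain ⟨q, hq, e⟩ := h
    exact ⟨q, hq, hlt q hq, e⟩
  refine closure_induction (p := fun x _ => ∃ q, isV q = true ∧ D.val q = x) (fun x hx => ?_)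
    ⟨0, by decide, D.val_zero⟩ (fun x y _ _ hx hy => ?_) (fun x _ hx => ?_) hg
  · rcases hx with rfl | rfl
    exacts [⟨uN, by decide, rfl⟩, ⟨vN, by decide, rfl⟩]
  · obtain ⟨a, ha, rfl⟩ := hx
    obtain ⟨b, hb, rfl⟩ := hy
    have h := all_spec (all_spec v_closed (hl a ha)) (hl b hb)
    rw [Bool.and_eq_true] at h
    exact ⟨_, h.1, D.val_mul a b (hlt a ha) (hlt b hb)⟩
  · obtain ⟨a, ha, rfl⟩ := hx
    have h := all_spec (all_spec v_closed (hl a ha)) (hl a ha)
    rw [Bool.and_eq_true] at h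
    exact ⟨_, h.2, D.val_inv (hlt a ha)⟩

theorem four_mem {q : Nat} (hq : isV q = true) :
    D.val q ∈ closure ({D.val uN, D.val vN} : Set G) := by
  rcases isV_iff.1 hq with rfl | rfl | rfl | rfl
  · rw [D.val_zero]; exact one_mem _
  · exact subset_closure (Or.inl rfl)
  · exact subset_closure (Or.inr rfl)
  · rw [← uv D]; exact mul_mem (subset_closure (Or.inl rfl)) (subset_closure (Or.inr rfl))

theorem four_in_fourCent {g : G} (hg : g ∈ closure ({D.val uN, D.val vN} : Set G)) :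
    g ∈ fourCent (D.val uN) (D.val vN) := by
  refine (closure_le _).2 ?_ hg
  rintro x (rfl | rfl)
  · exact (mem_fourCent D).2 ⟨rfl, (vu D).symm⟩
  · exact (mem_fourCent D).2 ⟨vu D, rfl⟩

theorem countP_four {a b : Nat} {P : Nat → Bool} (h : [0, uN, vN, wN].countP P = 1)
    (ha : a ∈ [0, uN, vN, wN]) (hb : b ∈ [0, uN, vN, wN]) (hPa : P a = true) (hPb : P b = true) :
    a = b := by
  rw [List.countP_eq_length_filter] at h
  obtain ⟨c, hc⟩ := List.length_eq_one_iff.1 h
  have ha' : a ∈ ([0, uN, vN, wN] : List Nat).filter P := List.mem_filter.2 ⟨ha, hPa⟩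
  have hb' : b ∈ ([0, uN, vN, wN] : List Nat).filter P := List.mem_filter.2 ⟨hb, hPb⟩
  rw [hc, List.mem_singleton] at ha' hb'
  rw [ha', hb']

variable (hF : Fus D)
include hF

variable [Finite G]

theorem big_iff {x : G} : (x ∈ fourCent (D.val uN) (D.val vN) ∧ Big z (D.val uN) x) ↔
    ∃ c ∈ fourCent (D.val uN) (D.val vN), c * z * c⁻¹ = x := by
  constructor
  · rintro ⟨-, hx⟩
    obtain ⟨g, hgu, hgx⟩ := big_transport D hF hx
    have hconj : g⁻¹ * z * g⁻¹⁻¹ = x := by rw [← hgx]; group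
    rcases ((mem_kV D hF).1 (all_kV D hF hgu)).2 with e | e
    · have hg : g ∈ fourCent (D.val uN) (D.val vN) :=
        (mem_fourCent D).2 ⟨hgu, mul_inv_eq_iff_eq_mul.1 e⟩
      exact ⟨g⁻¹, inv_mem hg, hconj⟩
    · obtain ⟨s, hs, h⟩ := List.any_eq_true.1 us_swap
      rw [Bool.and_eq_true] at h
      obtain ⟨hs1, hs2⟩ := us_comm D hs
      have hsw : D.val s * D.val wN * (D.val s)⁻¹ = D.val vN := by
        rw [← D.val_cj (us_lt hs).1 lts.2.2.1, Nat.eq_of_beq_eq_true h.2]
      refine ⟨(D.val s * g)⁻¹, inv_mem ((mem_fourCent D).2 ⟨?_, mul_inv_eq_iff_eq_mul.1 ?_⟩), ?_⟩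
      · rw [mul_assoc, hgu, ← mul_assoc, hs2, mul_assoc]
      · calc D.val s * g * D.val vN * (D.val s * g)⁻¹
            = D.val s * (g * D.val vN * g⁻¹) * (D.val s)⁻¹ := by group
          _ = D.val vN := by rw [e, uv D, hsw]
      · calc (D.val s * g)⁻¹ * z * (D.val s * g)⁻¹⁻¹
            = g⁻¹ * ((D.val s)⁻¹ * (z * D.val s)) * g := by group
          _ = g⁻¹ * ((D.val s)⁻¹ * (D.val s * z)) * g := by rw [hs1]
          _ = x := by rw [← hconj]; group
  · rintro ⟨c, hc, rfl⟩
    have hcu := ((mem_fourCent D).1 hc).1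
    have hzM : z ∈ fourCent (D.val uN) (D.val vN) :=
      (mem_fourCent D).2 ⟨(uz D).symm, (D.val_comm _ lts.2.1).symm⟩
    exact ⟨mul_mem (mul_mem hc hzM) (inv_mem hc), big_conj D hF (big_z D hF) hcu⟩

theorem big_coset {g : G} (hg : g ∈ tU D)
    (hg2 : g * g ∈ closure ({D.val uN, D.val vN} : Set G))
    (hg0 : g ∉ closure ({D.val uN, D.val vN} : Set G)) :
    ∃ q, isV q = true ∧ Big z (D.val uN) (g * D.val q) ∧
      ∀ q', isV q' = true → Big z (D.val uN) (g * D.val q') → q' = q := by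
  obtain ⟨m, hm, rfl⟩ := mem_ut D hg
  have hlt := ut_lt D hm
  have h := all_spec ut_coset hm
  have h1 : isV (mulN 0 m m) = true := by
    obtain ⟨q, hq, hql, e⟩ := mem_four D hg2
    rw [← D.val_mul _ _ hlt hlt] at e
    rwa [← D.val_inj q _ hql (mulN_lt hlt _ _) e]
  have h2 : isV m = false := by
    by_contra hc
    exact hg0 (four_mem D (Bool.not_eq_false _ ▸ hc))
  simp only [h1, h2, Bool.not_true, Bool.false_or] at h
  have hcount : ([0, uN, vN, wN].countP fun q => isBig (mulN 0 m q)) = 1 :=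
    Nat.eq_of_beq_eq_true h
  have hbig : ∀ q, q ∈ [0, uN, vN, wN] →
      (isBig (mulN 0 m q) = true ↔ Big z (D.val uN) (D.val m * D.val q)) := by
    intro q hq
    have hq' : isV q = true := isV_iff.2 (by simpa using hq)
    have hql : q < 21504 := by
      rcases isV_iff.1 hq' with rfl | rfl | rfl | rfl
      exacts [by norm_num, lts.1, lts.2.1, lts.2.2.1]
    rw [← D.val_mul _ _ hlt hql]
    have hzu : D.val q * z = z * D.val q ∧ D.val q * D.val uN = D.val uN * D.val q :=
      ⟨D.val_comm _ hql, ((mem_fourCent D).1 (four_in_fourCent D (four_mem D hq'))).1⟩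
    obtain ⟨n, hn, e⟩ := mem_us D (g := D.val m * D.val q)
      (by rw [mul_assoc, hzu.1, ← mul_assoc, (ut_comm D hm).1, mul_assoc])
      (by rw [mul_assoc, hzu.2, ← mul_assoc, (ut_comm D hm).2.1, mul_assoc])
    rw [← D.val_mul _ _ hlt hql] at e
    have en := D.val_inj _ _ (us_lt hn).1 (mulN_lt hlt _ _) e
    rw [← en]
    exact big_val D hF hn
  obtain ⟨q, hq, hqb⟩ := List.countP_pos_iff.1 (by rw [hcount]; exact Nat.one_pos)
  refine ⟨q, isV_iff.2 (by simpa using hq), (hbig q hq).1 hqb, fun q' hq' hb => ?_⟩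
  have hq'' : q' ∈ [0, uN, vN, wN] := by simpa using isV_iff.1 hq'
  exact countP_four D hcount hq'' hq ((hbig q' hq'').2 hb) hqb

omit hF in
theorem gen_ind {P : Nat → Prop} : ∀ (l : List (Nat × Nat × Nat)) (seen : List Nat),
    (∀ y, P y → ∀ i < 6, P (mulN 0 y (ugL.getD i 0))) → (∀ y ∈ seen, P y) →
    genChk l seen = true → ∀ m ∈ utL, P m
  | [], seen, _, hs, h => fun m hm => hs m (inL_iff.1 (List.all_eq_true.1 h m hm))
  | (x, y, i) :: r, seen, hstep, hs, h => by
    simp only [genChk, Bool.and_eq_true] at h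
    refine gen_ind r (x :: seen) hstep (fun w hw => ?_) h.2
    rcases List.mem_cons.1 hw with rfl | hw'
    · have e := Nat.eq_of_beq_eq_true h.1.2
      rw [← e]
      exact hstep y (hs y (inL_iff.1 h.1.1.1)) i (by simpa [Nat.blt_eq] using h.1.1.2)
    · exact hs w hw'

theorem not_512 : ¬ 512 ∣ Nat.card (fourCent (D.val uN) (D.val vN)) := by
  intro h
  haveI : Fact (Nat.Prime 2) := ⟨Nat.prime_two⟩
  set M := fourCent (D.val uN) (D.val vN) with hM
  obtain ⟨P, hP⟩ := Sylow.exists_subgroup_card_pow_prime (G := M) 2 (n := 9)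
    (by rw [show (2 : ℕ) ^ 9 = 512 by norm_num]; exact h)
  have hP' : Nat.card (P.map M.subtype) = 2 ^ 9 := by
    rw [card_map_of_injective (subtype_injective _), hP]
  obtain ⟨g, hg, hg'⟩ := into_sU D hF (X := centralizer ({D.val uN} : Set G)) (Q := P.map M.subtype)
    inf_le_right le_rfl
    (fun x hx => by
      obtain ⟨y, -, rfl⟩ := hx
      exact mem_centralizer_singleton_iff.2 ((mem_fourCent D).1 y.2).1)
    (IsPGroup.of_card (n := 9) hP')
  have e : (P.map M.subtype).map (MulAut.conj g).toMonoidHom = sU D := by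
    refine eq_of_le_of_card_ge ?_ ?_
    · rintro _ ⟨q, hq, rfl⟩; exact hg' q hq
    · rw [card_sU, card_map_of_injective (MulEquiv.injective _), hP']; norm_num
  have hgK := ((mem_kV D hF).1 (all_kV D hF (mem_centralizer_singleton_iff.1 hg))).2
  have hle : sU D ≤ tU D := by
    intro x hx
    obtain ⟨hxz, hxu⟩ := (mem_sU D).1 hx
    rw [← e] at hx
    obtain ⟨q, hq, rfl⟩ := hx
    obtain ⟨y, -, rfl⟩ := hq
    have hc := conj_comm (g := g) ((mem_fourCent D).1 y.2).2
    refine (mem_tU D).2 ⟨hxz, hxu, ?_⟩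
    rcases hgK with e' | e' <;> rw [e'] at hc
    · exact hc
    · simp only [MulEquiv.coe_toMonoidHom, MulAut.conj_apply, coe_subtype] at hxu ⊢
      refine mul_left_cancel (a := D.val uN) ?_
      rw [← mul_assoc, ← hxu, mul_assoc, hc, mul_assoc]
  have := card_le_of_le hle
  rw [card_sU, card_tU] at this
  omega

/-- The data for the quotient. -/
theorem quotData : QuotData z (D.val uN) (D.val vN) (tU D) where
  u_sq := uu D
  v_sq := vv D
  uv := (vu D).symm
  u_ne := u_ne D
  v_ne := v_ne D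
  uv_ne := (v_ne_u D).symm
  z_sq := D.zz
  z_out := by
    have hz : ¬ isV zN = true := by decide
    have key : ∀ q, q < 21504 → isV q = true → z ≠ D.val q := fun q hql hq e =>
      hz (by rw [D.val_inj zN q lts.2.2.2 hql (D.val_z.trans e)]; exact hq)
    exact ⟨fun e => key 0 (by norm_num) (by decide) (e.trans D.val_zero.symm),
      key _ lts.1 (by decide), key _ lts.2.1 (by decide),
      fun e => key _ lts.2.2.1 (by decide) (e.trans (uv D))⟩
  T0_le := inf_le_right
  card_T0 := card_tU D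
  not_512 := not_512 D hF
  z_mem := (mem_tU D).2 ⟨rfl, (uz D).symm, (D.val_comm _ lts.2.1).symm⟩
  z_central := fun g hg => ((mem_tU D).1 hg).1
  cent := fun g hg hgz => mem_inf.2 ⟨mem_centralizer_singleton_iff.2 hgz, hg⟩
  gen := by
    intro g hg
    obtain ⟨m, hm, rfl⟩ := mem_ut D hg
    set C := closure {x | x ∈ tU D ∧ x * x = 1}
    refine (gen_ind D (P := fun y => y < 21504 ∧ D.val y ∈ C) uwL [0] ?_ ?_ gen_chk m hm).2
    · intro y hy i hi
      have hgi : ugL.getD i 0 ∈ ugL := by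
        rw [List.getD_eq_getElem _ _ (by rw [gen_big.2]; exact hi)]
        exact List.getElem_mem _
      have h := all_spec gen_big.1 hgi
      rw [Bool.and_eq_true, inL_iff] at h
      refine ⟨mulN_lt hy.1 _ _, ?_⟩
      rw [D.val_mul _ _ hy.1 (ut_lt D h.1)]
      refine mul_mem hy.2 (subset_closure ⟨val_mem_tU D h.1, ?_⟩)
      have hb := (big_val D hF (ut_sub_us D h.1)).1 h.2
      exact sq_eq_one_of_order ((order_of_isConj hb.1).trans D.ord)
    · intro y hy
      rw [List.mem_singleton] at hy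
      subst hy
      exact ⟨by norm_num, by rw [D.val_zero]; exact one_mem _⟩
  nab := by
    obtain ⟨-, -, a3, a4, a5, -, -, b3, b4, b5, hc⟩ := four_facts
    have h1 : (672 : ℕ) < 21504 := by norm_num
    have h2 : (5376 : ℕ) < 21504 := by norm_num
    refine ⟨D.val 672, (mem_tU D).2 ⟨D.val_comm _ h1, (val_cm D h1 lts.1).1 a4,
      (val_cm D h1 lts.2.1).1 a5⟩, D.val 5376, (mem_tU D).2 ⟨D.val_comm _ h2,
      (val_cm D h2 lts.1).1 b4, (val_cm D h2 lts.2.1).1 b5⟩, fun h => ?_⟩
    obtain ⟨q, hq, hql, e⟩ := mem_four D h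
    have e' : D.val q = D.val (mulN 0 (mulN 0 672 5376) (invN 0 (mulN 0 5376 672))) := by
      rw [e, D.val_mul _ _ (mulN_lt h1 _ _) (invN_lt _ _), D.val_inv (mulN_lt h2 _ _),
        D.val_mul _ _ h1 h2, D.val_mul _ _ h2 h1]
      group
    rw [← D.val_inj _ _ hql (mulN_lt (mulN_lt h1 _ _) _ _) e', hq] at hc
    exact Bool.noConfusion hc
  big_exists := fun g hg hg2 hg0 => by
    obtain ⟨q, hq, hb, -⟩ := big_coset D hF hg hg2 hg0
    obtain ⟨c, hc, e⟩ := (big_iff D hF).1
      ⟨mul_mem (mem_inf.1 hg).2 (four_in_fourCent D (four_mem D hq)), hb⟩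
    refine ⟨c, hc, ?_⟩
    rw [e, mul_inv_rev, mul_assoc, inv_mul_cancel, mul_one]
    exact inv_mem (four_mem D hq)
  big_unique := fun c hc h => by
    have hzT : z ∈ tU D := (mem_tU D).2 ⟨rfl, (uz D).symm, (D.val_comm _ lts.2.1).symm⟩
    have hz0 : z ∉ closure ({D.val uN, D.val vN} : Set G) := fun hz => by
      obtain ⟨q, hq, hql, e⟩ := mem_four D hz
      have : isV zN = true := by
        rwa [← D.val_inj q zN hql lts.2.2.2 (e.trans D.val_z.symm)]
      revert this; decide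
    obtain ⟨q, hq, -, hu⟩ := big_coset D hF hzT (by rw [D.zz]; exact one_mem _) hz0
    obtain ⟨p, hp, hpl, ep⟩ := mem_four D h
    have hB : Big z (D.val uN) (z * D.val p) := by
      rw [ep, D.zinv, ← mul_assoc, D.zz, one_mul]
      exact ((big_iff D hF).2 ⟨c, hc, rfl⟩).2
    have h0 := hu 0 (by decide) (by rw [D.val_zero, mul_one]; exact big_z D hF)
    have hp0 := hu p hp hB
    rw [hp0, ← h0, D.val_zero] at ep
    have e2 : c * z * c⁻¹ = z := by
      rw [← D.zinv] at ep ⊢
      exact (inv_mul_eq_one.1 ep.symm).symm |> fun e => by simpa [D.zinv] using e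
    exact mul_inv_eq_iff_eq_mul.1 e2

end CfsgLib.Spor.HeRecog.UC
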